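import Cfsg.Agent.Lib.J1.Spectrum
import Mathlib.GroupTheory.PGroup
import Mathlib.GroupTheory.Sylow

/-!
The order and simplicity of the first Janko group, from its coset certificate and element orders.
-/

set_option autoImplicit false
set_option linter.style.haveILetI false

namespace Cfsg.Lib.H3.JankoOne

open Cfsg Cfsg.Lib.J1
open scoped Pointwise

abbrev J := ↥Spor.J1

def wa : List Bool := [false, false, true, false, false, true, true, true, true]

def wb : List Bool := [true, false, true, true, true, true, false]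

def wc : List Bool := [false, true, false, true, true, true, true]

theorem eight_check : (exOK 2 wa && (exOK 2 wb && (exOK 2 wc &&
    (beq (wordP (wa ++ wb)) (wordP (wb ++ wa)) && (beq (wordP (wa ++ wc)) (wordP (wc ++ wa)) &&
    (beq (wordP (wb ++ wc)) (wordP (wc ++ wb)) && (exOK 2 (wa ++ wb) && (exOK 2 (wa ++ wc) &&
    (exOK 2 (wb ++ wc) && (exOK 2 (wa ++ (wb ++ wc)) && exOK 19 [false, false, false, true]))))))))))
    = true := by
  decide +kernel

theorem wordG_append : ∀ u v, wordG (u ++ v) = wordG u * wordG v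
  | [], v => by rw [List.nil_append]; exact (one_mul _).symm
  | b :: u, v => by
      rw [List.cons_append, wordG, wordG, wordG_append u v, mul_assoc]

theorem comm_of_check {u v : List Bool} (h : beq (wordP (u ++ v)) (wordP (v ++ u)) = true) :
    wordG u * wordG v = wordG v * wordG u := by
  rw [← wordG_append, ← wordG_append]
  apply Subtype.ext
  apply enc_injective
  rw [enc_wordG, enc_wordG]
  exact beq_iff.mp h

theorem eight_dvd : 8 ∣ Nat.card J := by
  have h := eight_check
  simp only [Bool.and_eq_true] at h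
  obtain ⟨ha, hb, hc, cab, cac, cbc, hab, hac, hbc, habc, -⟩ := h
  set a := wordG wa
  set b := wordG wb
  set c := wordG wc
  have ne_one : ∀ {w}, exOK 2 w = true → wordG w ≠ 1 := fun {w} hw e => by
    have := orderOf_wordG (by norm_num) hw
    rw [e, orderOf_one] at this
    omega
  have sq : ∀ {w}, exOK 2 w = true → wordG w * wordG w = 1 := fun {w} hw => by
    rw [← pow_two]
    exact orderOf_dvd_iff_pow_eq_one.1 (orderOf_wordG (by norm_num) hw).dvd
  have cab' := comm_of_check cab
  have cac' := comm_of_check cac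
  have cbc' := comm_of_check cbc
  have two : ∀ {x : J}, x * x = 1 → ∀ y ∈ Subgroup.zpowers x, y = 1 ∨ y = x := by
    intro x hx y hy
    obtain ⟨k, rfl⟩ := Subgroup.mem_zpowers_iff.1 hy
    rcases Int.even_or_odd' k with ⟨l, rfl | rfl⟩
    · left; rw [zpow_mul, zpow_two, hx, one_zpow]
    · right; rw [zpow_add, zpow_mul, zpow_two, hx, one_zpow, one_mul, zpow_one]
  let f1 := MonoidHom.noncommCoprod (Subgroup.zpowers a).subtype (Subgroup.zpowers b).subtype (fun x y => by
    rcases two (sq ha) x.1 x.2 with e | e <;> rcases two (sq hb) y.1 y.2 with e' | e' <;>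
      simp only [Subgroup.coe_subtype, e, e', Commute.one_left, Commute.one_right]
    exact cab')
  let f2 := MonoidHom.noncommCoprod f1 (Subgroup.zpowers c).subtype (fun x y => by
    rw [MonoidHom.noncommCoprod_apply]
    refine Commute.mul_left ?_ ?_
    · rcases two (sq ha) x.1.1 x.1.2 with e | e <;> rcases two (sq hc) y.1 y.2 with e' | e' <;>
        simp only [Subgroup.coe_subtype, e, e', Commute.one_left, Commute.one_right]
      exact cac'
    · rcases two (sq hb) x.2.1 x.2.2 with e | e <;> rcases two (sq hc) y.1 y.2 with e' | e' <;>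
        simp only [Subgroup.coe_subtype, e, e', Commute.one_left, Commute.one_right]
      exact cbc')
  have hinj : Function.Injective f2 := by
    rw [injective_iff_map_eq_one]
    rintro ⟨⟨⟨x, hx⟩, ⟨y, hy⟩⟩, ⟨z, hz⟩⟩ h
    simp only [f2, f1, MonoidHom.noncommCoprod_apply, Subgroup.coe_subtype] at h
    rcases two (sq ha) x hx with rfl | rfl <;> rcases two (sq hb) y hy with rfl | rfl <;>
      rcases two (sq hc) z hz with rfl | rfl <;> (try simp only [one_mul, mul_one] at h)
    · rfl
    · exact absurd h (ne_one hc)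
    · exact absurd h (ne_one hb)
    · exact absurd ((wordG_append wb wc).trans h) (ne_one hbc)
    · exact absurd h (ne_one ha)
    · exact absurd ((wordG_append wa wc).trans h) (ne_one hac)
    · exact absurd ((wordG_append wa wb).trans h) (ne_one hab)
    · refine absurd ?_ (ne_one habc)
      rw [wordG_append, wordG_append, ← mul_assoc]
      exact h
  have h8 := Subgroup.card_dvd_of_injective f2 hinj
  simp only [Nat.card_prod, Nat.card_zpowers] at h8
  rw [orderOf_wordG (by norm_num) ha, orderOf_wordG (by norm_num) hb, orderOf_wordG (by norm_num) hc] at h8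
  exact h8

theorem finite_J : Finite J := inferInstance

theorem card_le : Nat.card J ≤ 266 * 660 := by
  choose i hi n hn he using fun g : J => mem_cosetSet g.2
  have h := Nat.card_le_card_of_injective (fun g : J => ((⟨i g, hi g⟩ : Fin 266), (⟨n g, hn g⟩ : Fin 660)))
    (fun g g' e => by
      simp only [Prod.mk.injEq, Fin.mk.injEq] at e
      exact Subtype.ext (Units.ext (by rw [he g, he g', e.1, e.2])))
  rwa [Nat.card_prod, Nat.card_fin, Nat.card_fin] at h

theorem card_J : Nat.card J = 175560 := by
  have hd : ∀ n ∈ ordList, n ∣ Nat.card J := fun n hn => by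
    obtain ⟨g, hg⟩ := exists_orderOf_iff.2 hn
    exact hg ▸ orderOf_dvd_natCard g
  have h : 175560 ∣ Nat.card J :=
    Nat.Coprime.mul_dvd_of_dvd_of_dvd (m := 8 * 15 * 7 * 11) (n := 19) (by norm_num)
      (Nat.Coprime.mul_dvd_of_dvd_of_dvd (m := 8 * 15 * 7) (n := 11) (by norm_num)
        (Nat.Coprime.mul_dvd_of_dvd_of_dvd (m := 8 * 15) (n := 7) (by norm_num)
          (Nat.Coprime.mul_dvd_of_dvd_of_dvd (m := 8) (n := 15) (by norm_num) eight_dvd (hd 15 (by decide)))
          (hd 7 (by decide)))
        (hd 11 (by decide)))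
      (hd 19 (by decide))
  exact le_antisymm card_le (Nat.le_of_dvd Nat.card_pos h)

/-- A normal subgroup avoiding a prime `r` whose elements centralise nothing else has prime parts congruent to one. -/
theorem part_modEq {G : Type*} [Group G] [Finite G] {r : ℕ} [Fact r.Prime] {x : G} (hx : orderOf x = r)
    (hfree : ∀ g : G, r ∣ orderOf g → orderOf g = r) {N : Subgroup G} [N.Normal] (hr : ¬ r ∣ Nat.card N)
    (q : ℕ) [Fact q.Prime] : q ^ (Nat.card N).factorization q ≡ 1 [MOD r] := by
  classical
  set P := Subgroup.zpowers x with hP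
  have hPcard : Nat.card P = r := by rw [Nat.card_zpowers, hx]
  have hPp : IsPGroup r P := IsPGroup.of_card (n := 1) (by rw [hPcard, pow_one])
  letI : MulAction P (Sylow q N) :=
    MulAction.compHom _ (MulAut.conjNormal.comp P.subtype : P →* MulAut N)
  obtain ⟨Q, hQ⟩ := hPp.nonempty_fixed_point_of_prime_not_dvd_card (Sylow q N)
    (fun h => hr (h.trans ((default : Sylow q N).card_dvd_index.trans (Subgroup.index_dvd_card _))))
  have hQmem : ∀ p : P, ∀ n : N, n ∈ (Q : Subgroup N) → MulAut.conjNormal (p : G) n ∈ (Q : Subgroup N) := by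
    intro p n hn
    have h := congrArg (fun S : Sylow q N => (S : Subgroup N)) (hQ p)
    change MulAut.conjNormal (p : G) • (Q : Subgroup N) = _ at h
    rw [← h]
    exact Subgroup.smul_mem_pointwise_smul n _ _ hn
  letI : MulAction P ↥(Q : Subgroup N) :=
    { smul := fun p n => ⟨MulAut.conjNormal (p : G) n.1, hQmem p n.1 n.2⟩
      one_smul := fun n => Subtype.ext (Subtype.ext (by
        show ((MulAut.conjNormal ((1 : P) : G) n.1 : N) : G) = _
        rw [MulAut.conjNormal_apply]; simp))
      mul_smul := fun p p' n => Subtype.ext (Subtype.ext (by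
        show ((MulAut.conjNormal ((p * p' : P) : G) n.1 : N) : G) =
          ((MulAut.conjNormal (p : G) (MulAut.conjNormal (p' : G) n.1) : N) : G)
        simp only [MulAut.conjNormal_apply, Subgroup.coe_mul]; group)) }
  have hfix : Nat.card (MulAction.fixedPoints P ↥(Q : Subgroup N)) = 1 := by
    rw [Nat.card_eq_one_iff_exists]
    refine ⟨⟨1, fun p => Subtype.ext (map_one (MulAut.conjNormal (p : G)))⟩, fun n => ?_⟩
    apply Subtype.ext
    have h := congrArg (fun m : ↥(Q : Subgroup N) => ((m : N) : G)) (n.2 ⟨x, Subgroup.mem_zpowers x⟩)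
    set y : G := ((n.1.1 : N) : G)
    change ((MulAut.conjNormal x n.1.1 : N) : G) = y at h
    rw [MulAut.conjNormal_apply] at h
    have hc : Commute x y := mul_inv_eq_iff_eq_mul.1 h
    have hy : orderOf y ∣ Nat.card N := by
      rw [Subgroup.orderOf_coe]; exact orderOf_dvd_natCard _
    have hcop : Nat.Coprime (orderOf x) (orderOf y) := by
      rw [hx, (Fact.out : r.Prime).coprime_iff_not_dvd]
      exact fun h' => hr (h'.trans hy)
    have ho := hc.orderOf_mul_eq_mul_orderOf_of_coprime hcop
    have := hfree (x * y) (by rw [ho, hx]; exact dvd_mul_right _ _)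
    rw [ho, hx, mul_eq_left₀ (Fact.out : r.Prime).pos.ne', orderOf_eq_one_iff] at this
    exact Subtype.ext (Subtype.ext this)
  have h := hPp.card_modEq_card_fixedPoints ↥(Q : Subgroup N)
  rw [hfix] at h
  rwa [Sylow.card_eq_multiplicity] at h

theorem free_orders : ∀ r ∈ [7, 11, 19], ∀ n ∈ ordList, r ∣ n → n = r := by decide

theorem prime_mem {q : ℕ} (hq : q.Prime) (h : q ∣ 175560) : q ∈ [2, 3, 5, 7, 11, 19] := by
  have hm : q ∈ Nat.primeFactors 175560 := Nat.mem_primeFactors.2 ⟨hq, h, by norm_num⟩
  have he : ∀ q ∈ Nat.primeFactors 175560, q ∈ [2, 3, 5, 7, 11, 19] := by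
    intro q hq
    obtain ⟨hp, hd, -⟩ := Nat.mem_primeFactors.1 hq
    rw [show (175560 : ℕ) = 2 ^ 3 * 3 * 5 * 7 * 11 * 19 from rfl] at hd
    simp only [List.mem_cons, List.not_mem_nil, or_false]
    rcases (hp.dvd_mul.1 hd) with hd | hd
    · rcases (hp.dvd_mul.1 hd) with hd | hd
      · rcases (hp.dvd_mul.1 hd) with hd | hd
        · rcases (hp.dvd_mul.1 hd) with hd | hd
          · rcases (hp.dvd_mul.1 hd) with hd | hd
            · left; exact (Nat.prime_dvd_prime_iff_eq hp Nat.prime_two).1 (hp.dvd_of_dvd_pow hd)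
            · right; left; exact (Nat.prime_dvd_prime_iff_eq hp Nat.prime_three).1 hd
          · right; right; left; exact (Nat.prime_dvd_prime_iff_eq hp (by norm_num)).1 hd
        · right; right; right; left; exact (Nat.prime_dvd_prime_iff_eq hp (by norm_num)).1 hd
      · right; right; right; right; left; exact (Nat.prime_dvd_prime_iff_eq hp (by norm_num)).1 hd
    · right; right; right; right; right; exact (Nat.prime_dvd_prime_iff_eq hp (by norm_num)).1 hd
  exact he q hm

theorem mod_check : ∀ r ∈ [7, 11, 19], ∀ q ∈ [2, 3, 5, 7, 11, 19], ∀ e ∈ List.range 4, 0 < e →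
    q ^ e ∣ 175560 → q ^ e % r = 1 → r = 7 ∧ q = 2 := by decide +kernel

theorem simple_J : IsSimpleGroup J := by
  classical
  haveI : Nontrivial J := Finite.one_lt_card_iff_nontrivial.1 (by rw [card_J]; norm_num)
  refine ⟨fun N hN => ?_⟩
  by_contra hcon
  push Not at hcon
  obtain ⟨hbot, htop⟩ := hcon
  haveI := hN
  have hNd : Nat.card N ∣ 175560 := card_J ▸ Subgroup.card_subgroup_dvd_card N
  have hN1 : Nat.card N ≠ 1 := fun h => hbot (Subgroup.card_eq_one.1 h)
  have key : ∀ r ∈ [7, 11, 19], ¬ r ∣ Nat.card N → r = 7 ∧ ∀ q : ℕ, q.Prime → q ∣ Nat.card N → q = 2 := by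
    intro r hr hrN
    have hrp : r.Prime := by fin_cases hr <;> norm_num
    haveI : Fact r.Prime := ⟨hrp⟩
    obtain ⟨x, hx⟩ : ∃ x : J, orderOf x = r := exists_orderOf_iff.2 ((by decide : ∀ r ∈ [7, 11, 19], r ∈ ordList) r hr)
    have hq : ∀ q : ℕ, q.Prime → q ∣ Nat.card N → r = 7 ∧ q = 2 := by
      intro q hq hqN
      haveI : Fact q.Prime := ⟨hq⟩
      have h := part_modEq hx (fun g hg => free_orders r hr _ (orderOf_mem g) hg) hrN q
      set e := (Nat.card N).factorization q
      have he : 0 < e := hq.factorization_pos_of_dvd (Nat.card_pos).ne' hqN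
      have hed : q ^ e ∣ 175560 := (Nat.ordProj_dvd _ _).trans hNd
      have he4 : e < 4 := by
        by_contra hge
        have h4 : q ^ 4 ∣ 175560 := (pow_dvd_pow q (not_lt.1 hge)).trans hed
        have : ∀ q ∈ [2, 3, 5, 7, 11, 19], ¬ q ^ 4 ∣ 175560 := by decide
        exact this q (prime_mem hq (hqN.trans hNd)) h4
      refine mod_check r hr q (prime_mem hq (hqN.trans hNd)) e (List.mem_range.2 he4) he hed ?_
      rw [Nat.ModEq, Nat.one_mod_eq_one.2 hrp.ne_one] at h
      exact h
    obtain ⟨q, hq1, hq2⟩ := Nat.exists_prime_and_dvd hN1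
    exact ⟨(hq q hq1 hq2).1, fun q' h1 h2 => (hq q' h1 h2).2⟩
  have h19 : 19 ∣ Nat.card N := by
    by_contra h
    exact absurd (key 19 (by decide) h).1 (by norm_num)
  have h11 : 11 ∣ Nat.card N := by
    by_contra h
    exact absurd (key 11 (by decide) h).1 (by norm_num)
  have h7 : 7 ∣ Nat.card N := by
    by_contra h
    exact absurd ((key 7 (by decide) h).2 19 (by norm_num) h19) (by norm_num)
  have hmem : ∀ r ∈ [7, 11, 19], ∀ g : J, orderOf g = r → g ∈ N := by
    intro r hr g hg
    have hrN : r ∣ Nat.card N := by fin_cases hr <;> assumption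
    rw [← QuotientGroup.eq_one_iff, ← orderOf_eq_one_iff]
    refine Nat.eq_one_of_dvd_coprimes (a := r) (b := N.index) ?_ (hg ▸ orderOf_map_dvd (QuotientGroup.mk' N) g)
      (orderOf_dvd_natCard _)
    have hm := N.card_mul_index
    rw [card_J] at hm
    have hrp : r.Prime := by fin_cases hr <;> norm_num
    rw [hrp.coprime_iff_not_dvd]
    intro hd
    have h2 : r * r ∣ 175560 := hm ▸ mul_dvd_mul hrN hd
    have : ∀ r ∈ [7, 11, 19], ¬ r * r ∣ 175560 := by decide
    exact this r hr h2
  apply htop
  set X : J := ⟨Spor.jankoX, Subgroup.subset_closure (Or.inl rfl)⟩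
  set Y : J := ⟨Spor.jankoY, Subgroup.subset_closure (Or.inr rfl)⟩
  have hX7 : orderOf X = 7 := by
    haveI : Fact (Nat.Prime 7) := ⟨by norm_num⟩
    refine orderOf_eq_prime (Subtype.ext (enc_injective ?_)) (fun e => ?_)
    · rw [SubmonoidClass.coe_pow, enc_pow]
      exact beq_iff.mp (by decide +kernel)
    · have h := congrArg (fun g : J => enc (g : GL (Fin 7) (ZMod 11))) e
      exact absurd (beq_iff.mpr h) (by
        show ¬ beq (enc Spor.jankoX) (enc 1) = true
        rw [enc_one]
        decide +kernel)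
  have hXN : X ∈ N := hmem 7 (by decide) X hX7
  have h := eight_check
  simp only [Bool.and_eq_true] at h
  have hwN : wordG [false, false, false, true] ∈ N :=
    hmem 19 (by decide) _ (orderOf_wordG (by norm_num) h.2.2.2.2.2.2.2.2.2.2)
  have hYN : Y ∈ N := by
    have e : wordG [false, false, false, true] = X * (X * (X * (Y * 1))) := rfl
    rw [e, mul_one] at hwN
    exact (N.mul_mem_cancel_left hXN).1 ((N.mul_mem_cancel_left hXN).1 ((N.mul_mem_cancel_left hXN).1 hwN))
  rw [eq_top_iff]
  rintro ⟨g, hg⟩ -
  induction hg using Subgroup.closure_induction with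
  | mem z hz => rcases hz with rfl | rfl; exacts [hXN, hYN]
  | one => exact N.one_mem
  | mul a b ha hb h1 h2 => exact N.mul_mem h1 h2
  | inv a ha h1 => exact N.inv_mem h1

end Cfsg.Lib.H3.JankoOne
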