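import Cfsg.Agent.Lib.Concrete.Sextet
import Cfsg.Agent.Lib.Concrete.OctadStab
import Cfsg.Agent.Lib.Concrete.Mathieu

/-!
The 24-point permutation module of M24 over two elements: the action on words, small words, moves
of tetrads inside a code word stabiliser.
-/

set_option autoImplicit false

namespace Cfsg.Lib.H3.Golay

open Finset Cfsg.Lib.Concrete
open scoped Pointwise symmDiff

/-- Coordinate permutation of a word. -/
def actW (σ : Equiv.Perm GolayPt) (w : GolayPt → ZMod 2) : GolayPt → ZMod 2 := fun p => w (σ.symm p)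

theorem support₂_actW (σ : Equiv.Perm GolayPt) (w : GolayPt → ZMod 2) :
    support₂ (actW σ w) = σ • support₂ w := by
  ext p
  rw [← Finset.inv_smul_mem_iff]
  rw [support₂, support₂, Finset.mem_filter, Finset.mem_filter]
  simp [actW, Equiv.Perm.inv_def]

theorem actW_mem {σ : Equiv.Perm GolayPt} (hσ : σ ∈ M24) {c : GolayPt → ZMod 2} (hc : c ∈ golayCode) :
    actW σ c ∈ golayCode := by
  obtain ⟨x, hx, hxs⟩ := mem_M24_iff.1 hσ _ ⟨c, hc, rfl⟩
  rw [← support₂_actW] at hxs
  exact support₂_injective hxs ▸ hx

theorem actW_add (σ : Equiv.Perm GolayPt) (v w : GolayPt → ZMod 2) : actW σ (v + w) = actW σ v + actW σ w := rfl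

theorem sub_eq_add_word (v w : GolayPt → ZMod 2) : v - w = v + w := funext fun p => by
  show v p - w p = v p + w p
  generalize v p = a
  generalize w p = b
  revert a b; decide

theorem add_self_word (v : GolayPt → ZMod 2) : v + v = 0 := by rw [← sub_eq_add_word, sub_self]

/-- The indicator word of a set. -/
def ind (s : Finset GolayPt) : GolayPt → ZMod 2 := word (fmask s)

theorem support₂_ind (s : Finset GolayPt) : support₂ (ind s) = s := by rw [ind, support₂_word, mset_fmask]

theorem ind_support₂ (w : GolayPt → ZMod 2) : ind (support₂ w) = w := word_fmask_support₂ w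

theorem ind_symmDiff (s t : Finset GolayPt) : ind (s ∆ t) = ind s + ind t := by
  apply support₂_injective
  rw [support₂_add, support₂_ind, support₂_ind, support₂_ind]

theorem actW_ind (σ : Equiv.Perm GolayPt) (s : Finset GolayPt) : actW σ (ind s) = ind (σ • s) := by
  apply support₂_injective
  rw [support₂_actW, support₂_ind, support₂_ind]

theorem ind_not_mem {s : Finset GolayPt} (hne : s.Nonempty) (h8 : s.card < 8) : ind s ∉ golayCode := by
  intro h
  have := supports_card_ge (s := s) ⟨ind s, h, support₂_ind s⟩ hne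
  omega

/-- A nonzero word of the code has weight at least 8. -/
theorem eq_zero_of_small {c : GolayPt → ZMod 2} (hc : c ∈ golayCode) {t : Finset GolayPt} (ht : t.card < 8)
    (h : ∀ p, p ∉ t → c p = 0) : c = 0 := by
  have hsub : support₂ c ⊆ t := fun p hp => by
    by_contra hpt
    simp [support₂, h p hpt] at hp
  by_contra hne
  have hn : (support₂ c).Nonempty := by
    rw [Finset.nonempty_iff_ne_empty]
    intro he
    apply hne
    apply support₂_injective
    rw [he]
    simp [support₂]
  have := supports_card_ge ⟨c, hc, rfl⟩ hn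
  have := Finset.card_le_card hsub
  omega

theorem exists_map {k : ℕ} (hk : k ≤ 5) (x y : Fin k → GolayPt) (hx : Function.Injective x)
    (hy : Function.Injective y) : ∃ g ∈ M24, ∀ i, g (x i) = y i := by
  have h := M24_pretransitive_le k hk
  rw [MulAction.isMultiplyPretransitive_iff] at h
  obtain ⟨g, hg⟩ := h ⟨x, hx⟩ ⟨y, hy⟩
  exact ⟨g.1, g.2, fun i => congrArg (fun e : Fin k ↪ GolayPt => e i) hg⟩

/-- A set of at most five points can be moved by exchanging one point. -/
theorem exchange {s : Finset GolayPt} (hs : s.card ≤ 5) {c d : GolayPt} (hc : c ∈ s) (hd : d ∉ s) :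
    ∃ g ∈ M24, g • s = insert d (s.erase c) := by
  classical
  let e := s.equivFin.symm
  obtain ⟨g, hg, hgx⟩ := exists_map hs (fun i => (e i : GolayPt)) (fun i => if (e i : GolayPt) = c then d else e i)
    (fun i j h => e.injective (Subtype.ext h)) (by
      intro i j h
      simp only at h
      apply e.injective
      apply Subtype.ext
      split_ifs at h with h1 h2 h2
      · rw [h1, h2]
      · exact absurd (h ▸ (e j).2) hd
      · exact absurd (h.symm ▸ (e i).2) hd
      · exact h)
  refine ⟨g, hg, Finset.ext fun p => ?_⟩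
  rw [Finset.mem_smul_finset]
  simp only [Equiv.Perm.smul_def, mem_insert, mem_erase]
  constructor
  · rintro ⟨q, hq, rfl⟩
    obtain ⟨i, hi⟩ := e.surjective ⟨q, hq⟩
    have := hgx i
    rw [hi] at this
    rw [this]
    by_cases hqc : q = c
    · simp [hqc]
    · simp [hqc, hq]
  · rintro (rfl | ⟨hne, hp⟩)
    · obtain ⟨i, hi⟩ := e.surjective ⟨c, hc⟩
      have := hgx i
      rw [hi] at this
      exact ⟨c, hc, by simpa using this⟩
    · obtain ⟨i, hi⟩ := e.surjective ⟨p, hp⟩
      have := hgx i
      rw [hi] at this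
      exact ⟨p, hp, by simpa [hne] using this⟩

theorem map_two {a b a' b' : GolayPt} (h : a ≠ b) (h' : a' ≠ b') : ∃ g ∈ M24, g a = a' ∧ g b = b' := by
  obtain ⟨g, hg, hgx⟩ := exists_map (k := 2) (by norm_num) ![a, b] ![a', b']
    (by intro i j e; fin_cases i <;> fin_cases j <;> simp_all)
    (by intro i j e; fin_cases i <;> fin_cases j <;> simp_all)
  exact ⟨g, hg, hgx 0, hgx 1⟩

theorem map_three {a b x y : GolayPt} (h : a ≠ b) (hxa : x ≠ a) (hxb : x ≠ b) (hya : y ≠ a) (hyb : y ≠ b) :
    ∃ g ∈ M24, g a = a ∧ g b = b ∧ g x = y := by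
  obtain ⟨g, hg, hgx⟩ := exists_map (k := 3) (by norm_num) ![a, b, x] ![a, b, y]
    (by intro i j e; fin_cases i <;> fin_cases j <;> simp_all)
    (by intro i j e; fin_cases i <;> fin_cases j <;> simp_all)
  exact ⟨g, hg, hgx 0, hgx 1, hgx 2⟩

end Cfsg.Lib.H3.Golay
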