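import Cfsg.Agent.Lib.H3.OmegaTwoRank

/-!
# Splitting of involution classes from the orthogonal group to `Ω`
-/

set_option autoImplicit false

namespace Cfsg.Lib.H3

open Module Cfsg.Lib.Linear.Orth
open scoped Matrix

variable {ι : Type} [Fintype ι] [DecidableEq ι] {F : Type*} [Field F]
  {Q : (ι → F) → F} {B : LinearMap.BilinForm F (ι → F)}

/-- A fixed non-singular vector prevents splitting. -/
theorem exists_omega_conj [Fintype F] (C : Space Q B) (h2 : (2 : F) = 0)
    (hn : 2 ≤ Fintype.card ι) (h : Fintype.card F ≠ 2 ∨ Fintype.card ι ≠ 4)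
    {t s : ↥(isometryGroup F Q)} (hconj : IsConj t s) {v : ι → F} (hv : Q v ≠ 0)
    (htv : (t : GL ι F).val *ᵥ v = v) :
    ∃ g ∈ commutator ↥(isometryGroup F Q), g * t * g⁻¹ = s := by
  obtain ⟨g, hg⟩ := isConj_iff.1 hconj
  obtain ⟨δ, hδ, hiff⟩ := omega_char_two C h2 hn h
  rcases Int.units_eq_one_or (δ g) with hd | hd
  · exact ⟨g, (hiff g).2 hd, hg⟩
  · refine ⟨g * rI C v hv, (hiff _).2 (by rw [map_mul, hδ, hd]; norm_num), ?_⟩
    have hc : t * rI C v hv * t⁻¹ = rI C v hv := Subtype.ext (by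
      show (t : GL ι F) * rGL Q v * (t : GL ι F)⁻¹ = rGL Q v
      have e : ∀ x, ((t : GL ι F) * rGL Q v).val *ᵥ x = (rGL Q v * (t : GL ι F)).val *ᵥ x := by
        intro x
        rw [mul_act, mul_act, rGL_act C hv, rGL_act C hv, Matrix.mulVec_sub, Matrix.mulVec_smul, htv]
        conv_lhs => rw [← C.B_act t.2 v x, htv]
      rw [gl_ext e, mul_inv_cancel_right])
    have hc' : rI C v hv * t = t * rI C v hv := by
      conv_lhs => rw [← hc, inv_mul_cancel_right]
    rw [mul_inv_rev, mul_assoc g, hc', ← hg]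
    group

/-- The fixed space of an involution in characteristic two: range of `t - 1` lies in it. -/
theorem invol_facts (h2 : (2 : F) = 0) {t : GL ι F} (ht : t * t = 1) :
    LinearMap.range (Matrix.toLin' (t.val - 1)) ≤ fixSpace t ∧
      (t.val - 1).rank + finrank F (fixSpace t) = Fintype.card ι ∧
      (t.val - 1).rank ≤ finrank F (fixSpace t) := by
  have hle : LinearMap.range (Matrix.toLin' (t.val - 1)) ≤ fixSpace t := by
    rintro _ ⟨x, rfl⟩
    rw [mem_fixSpace, Matrix.toLin'_apply, Matrix.sub_mulVec, Matrix.one_mulVec, Matrix.mulVec_sub,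
      ← mul_act, ht, Units.val_one, Matrix.one_mulVec]
    funext i
    simp only [Pi.sub_apply]
    linear_combination (x i - (t.val *ᵥ x) i) * h2
  have h1 := LinearMap.finrank_range_add_finrank_ker (Matrix.mulVecLin (t.val - 1))
  rw [finrank_fintype_fun_eq_card] at h1
  have e : fixSpace t = LinearMap.ker (Matrix.mulVecLin (t.val - 1)) := by
    ext x
    rw [mem_fixSpace, LinearMap.mem_ker, Matrix.mulVecLin_apply, Matrix.sub_mulVec,
      Matrix.one_mulVec, sub_eq_zero]
  refine ⟨hle, ?_, ?_⟩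
  · rw [e]; exact h1
  · exact Submodule.finrank_mono hle

/-- Without a fixed non-singular vector the fixed space is half and totally singular. -/
theorem isHalf_fixSpace (C : Space Q B) (h2 : (2 : F) = 0) {t : GL ι F} (ht : t * t = 1)
    (hno : ∀ v, t.val *ᵥ v = v → Q v = 0) :
    IsHalf Q (fixSpace t) ∧ LinearMap.range (Matrix.toLin' (t.val - 1)) = fixSpace t := by
  obtain ⟨hle, hsum, hr⟩ := invol_facts h2 ht
  have hts : ∀ x ∈ fixSpace t, Q x = 0 := fun x hx => hno x (mem_fixSpace.1 hx)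
  have hb := ts_bound C hts
  refine ⟨⟨hts, by omega⟩, Submodule.eq_of_le_of_finrank_eq hle ?_⟩
  show (t.val - 1).rank = _
  omega

theorem img_range_conj {t s g : GL ι F} (hg : g * t * g⁻¹ = s) :
    img g (LinearMap.range (Matrix.toLin' (t.val - 1))) =
      LinearMap.range (Matrix.toLin' (s.val - 1)) := by
  have hgt : s * g = g * t := by rw [← hg, inv_mul_cancel_right]
  have key : ∀ x, g.val *ᵥ ((t.val - 1) *ᵥ x) = (s.val - 1) *ᵥ (g.val *ᵥ x) := fun x => by
    rw [Matrix.sub_mulVec, Matrix.sub_mulVec, Matrix.one_mulVec, Matrix.one_mulVec, Matrix.mulVec_sub,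
      ← mul_act, ← mul_act, hgt]
  apply le_antisymm
  · rintro _ ⟨_, ⟨x, rfl⟩, rfl⟩
    exact ⟨g.val *ᵥ x, (key x).symm⟩
  · rintro _ ⟨y, rfl⟩
    refine ⟨_, ⟨(g⁻¹ : GL ι F).val *ᵥ y, rfl⟩, ?_⟩
    show g.val *ᵥ ((t.val - 1) *ᵥ _) = (s.val - 1) *ᵥ y
    rw [key, act_inv]

end Cfsg.Lib.H3
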