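import Cfsg.Agent.Lib.Linear.OrthSpinorApp
import Cfsg.Agent.Lib.Linear.OrthSum
import Cfsg.Agent.Lib.Linear.OrthOdd

/-!
# Diagonal forms over a finite field of odd characteristic
-/

set_option autoImplicit false

namespace Cfsg.Lib.H3.SylTwo

open Module Cfsg.Lib.Linear.Orth
open scoped Matrix

variable {ι κ μ : Type} [Fintype ι] [DecidableEq ι] [Fintype κ] [DecidableEq κ] {F : Type*} [Field F]

/-- The diagonal form with coefficients `d`. -/
def diagQ (d : ι → F) (v : ι → F) : F := ∑ i, d i * v i ^ 2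

/-- Its polar form. -/
def diagB (d : ι → F) : LinearMap.BilinForm F (ι → F) :=
  LinearMap.mk₂ F (fun u v => ∑ i, 2 * d i * (u i * v i))
    (fun a b c => by simp [← Finset.sum_add_distrib]; congr 1; funext i; ring)
    (fun c a b => by simp [Finset.mul_sum]; congr 1; funext i; ring)
    (fun a b c => by simp [← Finset.sum_add_distrib]; congr 1; funext i; ring)
    (fun c a b => by simp [Finset.mul_sum]; congr 1; funext i; ring)

omit [DecidableEq ι] in
theorem diagB_apply (d u v : ι → F) : diagB d u v = ∑ i, 2 * d i * (u i * v i) := rfl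

theorem diag_space {d : ι → F} (h2 : (2 : F) ≠ 0) (hd : ∀ i, d i ≠ 0) : Space (diagQ d) (diagB d) := by
  refine ⟨fun c v => ?_, fun u v => ?_, fun v hv => funext fun i => ?_⟩
  · simp only [diagQ, Pi.smul_apply, smul_eq_mul, Finset.mul_sum]
    exact Finset.sum_congr rfl fun i _ => by ring
  · simp only [diagQ, QuadraticMap.polar, Pi.add_apply, diagB_apply, ← Finset.sum_sub_distrib]
    exact Finset.sum_congr rfl fun i _ => by ring
  · have h := hv (Pi.single i 1)
    rw [diagB_apply, Finset.sum_eq_single i (fun j _ hj => by simp [hj]) (fun h => absurd (Finset.mem_univ i) h)] at h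
    simpa [h2, hd i] using h

/-- There is a linear map carrying the first form to the second. -/
def FormMap (Q : (ι → F) → F) (Q' : (κ → F) → F) : Prop :=
  ∃ f : (ι → F) →ₗ[F] (κ → F), ∀ v, Q' (f v) = Q v

variable {Q : (ι → F) → F} {Q' : (κ → F) → F} {B : LinearMap.BilinForm F (ι → F)}

omit [Fintype ι] [DecidableEq ι] [Fintype κ] [DecidableEq κ] in
theorem FormMap.trans [Fintype μ] {Q'' : (μ → F) → F} (h : FormMap Q Q') (h' : FormMap Q' Q'') : FormMap Q Q'' := by
  obtain ⟨f, hf⟩ := h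
  obtain ⟨f', hf'⟩ := h'
  exact ⟨f'.comp f, fun v => (hf' _).trans (hf v)⟩

omit [DecidableEq κ] in
theorem FormMap.exists_equiv (C : Space Q B) (h : FormMap Q Q') (hcard : Fintype.card ι = Fintype.card κ) :
    ∃ e : (ι → F) ≃ₗ[F] (κ → F), ∀ v, Q' (e v) = Q v := by
  obtain ⟨f, hf⟩ := h
  have hinj : Function.Injective f := by
    rw [injective_iff_map_eq_zero]
    intro v hv
    refine C.nondeg v fun u => ?_
    have h0 : Q v = 0 := by
      rw [← hf, hv, ← map_zero f, hf, C.zero]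
    rw [← C.polar, QuadraticMap.polar, ← hf, map_add, hv, add_zero, hf, h0]
    ring
  exact ⟨LinearEquiv.ofBijective f ⟨hinj,
    (f.injective_iff_surjective_of_finrank_eq_finrank (by simpa using hcard)).1 hinj⟩, hf⟩

omit [DecidableEq κ] in
theorem FormMap.symm (C : Space Q B) (h : FormMap Q Q') (hcard : Fintype.card ι = Fintype.card κ) :
    FormMap Q' Q := by
  obtain ⟨e, he⟩ := h.exists_equiv C hcard
  exact ⟨e.symm.toLinearMap, fun v => by rw [← he, LinearEquiv.coe_coe, e.apply_symm_apply]⟩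

/-- Isometry groups of equivalent forms are isomorphic. -/
theorem FormMap.nonempty_mulEquiv (C : Space Q B) (h : FormMap Q Q')
    (hcard : Fintype.card ι = Fintype.card κ) :
    Nonempty (↥(isometryGroup F Q) ≃* ↥(isometryGroup F Q')) := by
  obtain ⟨e, he⟩ := h.exists_equiv C hcard
  let Φ : GL ι F ≃* GL κ F := Units.mapEquiv
    (((Matrix.toLinAlgEquiv' (R := F) (n := ι)).trans (e.conjAlgEquiv F)).trans
      (Matrix.toLinAlgEquiv' (R := F) (n := κ)).symm).toMulEquiv
  have hΦ : ∀ (g : GL ι F) (v : ι → F), (Φ g).val *ᵥ e v = e (g.val *ᵥ v) := fun g v => by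
    show Matrix.toLinAlgEquiv' ((Matrix.toLinAlgEquiv' (R := F) (n := κ)).symm
      (e.conjAlgEquiv F (Matrix.toLinAlgEquiv' g.val))) (e v) = _
    rw [AlgEquiv.apply_symm_apply]
    simp
  have key : ∀ g : GL ι F, Φ g ∈ isometryGroup F Q' ↔ g ∈ isometryGroup F Q := fun g => by
    rw [mem_iso, mem_iso]
    refine ⟨fun h v => ?_, fun h v => ?_⟩
    · rw [← he, ← hΦ, h, he]
    · obtain ⟨u, rfl⟩ := e.surjective v
      rw [hΦ, he, h, he]
  have hmap : (isometryGroup F Q).map Φ.toMonoidHom = isometryGroup F Q' := by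
    ext g
    rw [Subgroup.mem_map_equiv, ← key, Φ.apply_symm_apply]
  exact ⟨(Φ.subgroupMap _).trans (MulEquiv.subgroupCongr hmap)⟩

omit [DecidableEq ι] [DecidableEq κ] in
theorem diag_relabel (d : κ → F) (e : ι ≃ κ) : FormMap (diagQ (d ∘ e)) (diagQ d) :=
  ⟨LinearMap.funLeft F F e.symm, fun v => by
    show diagQ d (fun i => v (e.symm i)) = _
    exact (Fintype.sum_equiv e _ _ fun i => by simp).symm⟩

variable [Fintype F]

theorem exists_binary (h2 : (2 : F) ≠ 0) {a b : F} (ha : a ≠ 0) (hb : b ≠ 0) :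
    ∃ x y : F, a * x ^ 2 + b * y ^ 2 = 1 := by
  obtain ⟨v, hv⟩ := exists_value (diag_space (ι := Fin 2) (d := ![a, b]) h2 (fun i => by fin_cases i <;> simp [ha, hb]))
    h2 (by simp) one_ne_zero
  exact ⟨v 0, v 1, by simpa [diagQ, Fin.sum_univ_two] using hv⟩

/-- The diagonal coefficients `1, …, 1, c`. -/
def onesThen (n : ℕ) (c : F) : Fin (n + 1) → F := fun i => if i = Fin.last n then c else 1

omit [Fintype F] in
theorem onesThen_ne_zero (n : ℕ) {c : F} (hc : c ≠ 0) (i : Fin (n + 1)) : onesThen n c i ≠ 0 := by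
  unfold onesThen; split_ifs
  · exact hc
  · exact one_ne_zero

theorem ones_to_diag (h2 : (2 : F) ≠ 0) : ∀ (n : ℕ) (d : Fin (n + 1) → F), (∀ i, d i ≠ 0) →
    FormMap (diagQ (onesThen n (∏ i, d i))) (diagQ d) := by
  intro n
  induction n with
  | zero =>
    intro d _
    refine ⟨LinearMap.id (R := F) (M := Fin 1 → F), fun v => ?_⟩
    simp [diagQ, onesThen]
  | succ n ih =>
    intro d hd
    set d' : Fin (n + 1) → F := Fin.cons (d 0 * d 1) (fun i : Fin n => d i.succ.succ) with hd'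
    have hd'0 : ∀ i, d' i ≠ 0 := fun i => by
      refine Fin.cases ?_ (fun j => ?_) i
      · simpa [hd'] using ⟨hd 0, hd 1⟩
      · simpa [hd'] using hd j.succ.succ
    obtain ⟨g, hg⟩ := ih d' hd'0
    obtain ⟨x, y, hxy⟩ := exists_binary h2 (hd 0) (hd 1)
    have hprod : ∏ i, d' i = ∏ i, d i := by
      rw [Fin.prod_univ_succ, Fin.prod_univ_succ d, Fin.prod_univ_succ (fun i : Fin (n + 1) => d i.succ), ← mul_assoc]
      simp [hd']
    rw [hprod] at hg
    let T : (Fin (n + 2) → F) →ₗ[F] (Fin (n + 1) → F) := LinearMap.funLeft F F Fin.succ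
    refine ⟨LinearMap.pi (Fin.cons (x • LinearMap.proj 0 - (d 1 * y) • ((LinearMap.proj 0).comp (g.comp T)))
      (Fin.cons (y • LinearMap.proj 0 + (d 0 * x) • ((LinearMap.proj 0).comp (g.comp T)))
        (fun i : Fin n => (LinearMap.proj i.succ).comp (g.comp T)))), fun v => ?_⟩
    have hg' := hg (T v)
    set w := g (T v) with hw
    have hA : diagQ (onesThen (n + 1) (∏ i, d i)) v = v 0 ^ 2 + diagQ (onesThen n (∏ i, d i)) (T v) := by
      rw [diagQ, Fin.sum_univ_succ]
      have h0 : onesThen (n + 1) (∏ i, d i) 0 = 1 := if_neg (Fin.last_pos).ne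
      rw [h0, one_mul]
      refine congrArg (v 0 ^ 2 + ·) (Finset.sum_congr rfl fun i _ => ?_)
      simp [onesThen, T, ← Fin.succ_last]
    have hB : diagQ d' w = d 0 * d 1 * w 0 ^ 2 + ∑ i : Fin n, d i.succ.succ * w i.succ ^ 2 := by
      simp [diagQ, Fin.sum_univ_succ, hd']
    rw [hA, ← hg', hB, diagQ, Fin.sum_univ_succ, Fin.sum_univ_succ, Fin.succ_zero_eq_one]
    simp only [LinearMap.pi_apply, Fin.cons_zero, Fin.cons_succ, LinearMap.sub_apply, LinearMap.add_apply,
      LinearMap.smul_apply, LinearMap.comp_apply, LinearMap.proj_apply, smul_eq_mul, ← hw,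
      show (1 : Fin (n + 2)) = Fin.succ 0 from rfl]
    simp only [show Fin.succ (0 : Fin (n + 1)) = 1 from rfl]
    linear_combination (v 0 ^ 2 + d 0 * d 1 * w 0 ^ 2) * hxy

/-- Diagonal forms with the same dimension and square class of discriminant are equivalent. -/
theorem diag_map (h2 : (2 : F) ≠ 0) (d : ι → F) (d' : κ → F) (hd : ∀ i, d i ≠ 0) (hd' : ∀ i, d' i ≠ 0)
    (hcard : Fintype.card ι = Fintype.card κ) (hsq : IsSquare ((∏ i, d i) * ∏ i, d' i)) :
    FormMap (diagQ d) (diagQ d') := by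
  rcases Nat.eq_zero_or_pos (Fintype.card ι) with h0 | hpos
  · haveI : IsEmpty ι := Fintype.card_eq_zero_iff.1 h0
    haveI : IsEmpty κ := Fintype.card_eq_zero_iff.1 (hcard ▸ h0)
    exact ⟨0, fun v => by simp [diagQ]⟩
  obtain ⟨n, hn⟩ : ∃ n, Fintype.card ι = n + 1 := ⟨Fintype.card ι - 1, by omega⟩
  let e : Fin (n + 1) ≃ ι := (Fintype.equivFinOfCardEq hn).symm
  let e' : Fin (n + 1) ≃ κ := (Fintype.equivFinOfCardEq (hcard ▸ hn)).symm
  have h1 := (ones_to_diag h2 n (d ∘ e) (fun i => hd _)).trans (diag_relabel d e)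
  have h1' := (ones_to_diag h2 n (d' ∘ e') (fun i => hd' _)).trans (diag_relabel d' e')
  simp only [Function.comp_apply, Equiv.prod_comp] at h1 h1'
  have hc : ∏ i, d i ≠ 0 := Finset.prod_ne_zero_iff.2 fun i _ => hd i
  have hc' : ∏ i, d' i ≠ 0 := Finset.prod_ne_zero_iff.2 fun i _ => hd' i
  obtain ⟨t, ht⟩ := hsq
  refine (h1.symm (diag_space h2 (onesThen_ne_zero n hc)) (by simpa using hn.symm)).trans (FormMap.trans ?_ h1')
  refine ⟨LinearMap.pi fun i => (onesThen n (t / ∏ i, d' i) i) • LinearMap.proj i, fun v => ?_⟩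
  refine Finset.sum_congr rfl fun i _ => ?_
  simp only [onesThen, LinearMap.pi_apply, LinearMap.smul_apply, LinearMap.proj_apply, smul_eq_mul]
  split_ifs
  · field_simp
    linear_combination (-(v i) ^ 2) * ht
  · ring

end Cfsg.Lib.H3.SylTwo
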