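import Cfsg.Agent.Lib.Linear.OrthParity
import Cfsg.Agent.Lib.Linear.OrthSpinor
import Cfsg.Agent.S0750

/-!
# Moving subspaces by elements of `Ω`

The commutator subgroup of an orthogonal group as the kernel of the Dickson invariant or of
determinant and spinor norm, and the correction of an isometry to an element of `Ω`.
-/

set_option autoImplicit false

namespace Cfsg.Lib.H3

open Module Cfsg.Lib.Linear.Orth
open scoped Matrix

variable {ι : Type} [Fintype ι] [DecidableEq ι] {F : Type*} [Field F]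
  {Q : (ι → F) → F} {B : LinearMap.BilinForm F (ι → F)}

theorem exists_nonsing_vec (C : Space Q B) (hn : 1 ≤ Fintype.card ι) : ∃ v, Q v ≠ 0 := by
  obtain ⟨v, -, hv⟩ := exists_nonsing C C.ndeg_top (fun h => by
    have := congrArg (fun U : Submodule F (ι → F) => finrank F U) h
    simp [finrank_fintype_fun_eq_card] at this
    omega)
  exact ⟨v, hv⟩

/-- In characteristic two `Ω` is the kernel of the Dickson invariant. -/
theorem omega_char_two [Fintype F] (C : Space Q B) (h2 : (2 : F) = 0) (hn : 2 ≤ Fintype.card ι)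
    (h : Fintype.card F ≠ 2 ∨ Fintype.card ι ≠ 4) :
    ∃ δ : ↥(isometryGroup F Q) →* ℤˣ, (∀ v (hv : Q v ≠ 0), δ (rI C v hv) = -1) ∧
      ∀ g, g ∈ commutator ↥(isometryGroup F Q) ↔ δ g = 1 := by
  obtain ⟨δ, hδ⟩ := exists_dickson C h h2
  refine ⟨δ, hδ, fun g => ?_⟩
  obtain ⟨v0, h0⟩ := exists_nonsing_vec C (by omega)
  have hle := Abelianization.commutator_subset_ker δ
  constructor
  · exact fun hg => MonoidHom.mem_ker.1 (hle hg)
  intro hg
  haveI : CharP F 2 := CharTwo.of_one_ne_zero_of_two_eq_zero one_ne_zero h2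
  have hcl : ∀ v (hv : Q v ≠ 0),
      rI C v0 h0 * rI C v hv ∈ commutator ↥(isometryGroup F Q) := fun v hv =>
    rI_mul_mem_comm C h h0 hv (FiniteField.isSquare_of_char_two (ringChar.eq F 2) _)
  have key : ∀ g, g ∈ commutator ↥(isometryGroup F Q) ∨
      rI C v0 h0 * g ∈ commutator ↥(isometryGroup F Q) := by
    refine refl_induction C h _ (Or.inl (one_mem _)) ?_
    rintro v hv k (hk | hk)
    · right
      rw [← mul_assoc]
      exact mul_mem (hcl v hv) hk
    · left
      have e : rI C v hv * k = (rI C v hv * rI C v0 h0) * (rI C v0 h0 * k) := by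
        rw [mul_assoc, ← mul_assoc (rI C v0 h0), rI_sq, one_mul]
      rw [e]
      exact mul_mem (rI_mul_mem_comm C h hv h0
        (FiniteField.isSquare_of_char_two (ringChar.eq F 2) _)) hk
  refine (key g).resolve_right fun hk => ?_
  have := MonoidHom.mem_ker.1 (hle hk)
  rw [map_mul, hδ, hg] at this
  simp at this

/-- In odd characteristic `Ω` is the kernel of determinant and spinor norm. -/
theorem omega_char_odd [Fintype F] (C : Space Q B) (h2 : (2 : F) ≠ 0) (hn : 2 ≤ Fintype.card ι)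
    (g : ↥(isometryGroup F Q)) : g ∈ commutator ↥(isometryGroup F Q) ↔
      (g : GL ι F).val.det = 1 ∧ spin Q g = 1 := by
  rw [(omega_odd C h2 hn).1, MonoidHom.mem_ker]
  constructor
  · intro h
    refine ⟨?_, congrArg Prod.snd h⟩
    exact congrArg Units.val (congrArg Prod.fst h)
  · rintro ⟨h1, h3⟩
    exact Prod.ext (Units.ext h1) h3

/-- An isometry can be corrected into `Ω` by a subgroup containing enough reflections. -/
theorem exists_adjust [Fintype F] (C : Space Q B) (hn : 2 ≤ Fintype.card ι)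
    (h : Fintype.card F ≠ 2 ∨ Fintype.card ι ≠ 4) (S : Subgroup ↥(isometryGroup F Q))
    (h1 : ∃ z : ι → F, ∃ hz : Q z ≠ 0, rI C z hz ∈ S)
    (h3 : (2 : F) ≠ 0 → ∃ s ∈ S, (s : GL ι F).val.det = 1 ∧ spin Q s = -1)
    (g : ↥(isometryGroup F Q)) : ∃ s ∈ S, s * g ∈ commutator ↥(isometryGroup F Q) := by
  obtain ⟨z, hz, hzS⟩ := h1
  by_cases h2 : (2 : F) = 0
  · obtain ⟨δ, hδ, hδiff⟩ := omega_char_two C h2 hn h
    rcases Int.units_eq_one_or (δ g) with hg | hg
    · exact ⟨1, one_mem _, by rw [one_mul, hδiff]; exact hg⟩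
    · refine ⟨rI C z hz, hzS, ?_⟩
      rw [hδiff, map_mul, hδ, hg]; norm_num
  · obtain ⟨s, hs, hsd, hss⟩ := h3 h2
    have step : ∀ g : ↥(isometryGroup F Q), (g : GL ι F).val.det = 1 →
        ∃ t ∈ S, t * g ∈ commutator ↥(isometryGroup F Q) := by
      intro g hd
      rcases Int.units_eq_one_or (spin Q g) with hg | hg
      · exact ⟨1, one_mem _, by rw [one_mul, omega_char_odd C h2 hn]; exact ⟨hd, hg⟩⟩
      · refine ⟨s, hs, ?_⟩
        rw [omega_char_odd C h2 hn, map_mul, hss, hg, Subgroup.coe_mul, Units.val_mul,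
          Matrix.det_mul, hsd, hd]
        norm_num
    rcases det_sq C g.2 with hd | hd
    · exact step g hd
    · obtain ⟨t, ht, htg⟩ := step (rI C z hz * g) (by
        rw [Subgroup.coe_mul, Units.val_mul, Matrix.det_mul, rI_val, rGL_det C hz, hd]; norm_num)
      exact ⟨t * rI C z hz, mul_mem ht hzS, by rwa [mul_assoc]⟩

/-- The stabiliser of a subspace in the isometry group. -/
def stabSub (Q : (ι → F) → F) (W : Submodule F (ι → F)) : Subgroup ↥(isometryGroup F Q) where
  carrier := {g | img (g : GL ι F) W = W}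
  one_mem' := img_one W
  mul_mem' {a b} ha hb := by
    show img ((a : GL ι F) * (b : GL ι F)) W = W
    rw [img_mul, hb, ha]
  inv_mem' {a} ha := by
    show img (a : GL ι F)⁻¹ W = W
    conv_lhs => rw [← show img (a : GL ι F) W = W from ha]
    rw [← img_mul, inv_mul_cancel, img_one]

theorem mem_stabSub_of_le {W : Submodule F (ι → F)} {g : ↥(isometryGroup F Q)}
    (h : img (g : GL ι F) W ≤ W) : g ∈ stabSub Q W :=
  Submodule.eq_of_le_of_finrank_eq h (finrank_img _ W)

theorem rI_mem_stabSub_of_mem (C : Space Q B) {W : Submodule F (ι → F)} {z : ι → F} (hz : Q z ≠ 0)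
    (h : z ∈ W ∨ ∀ w ∈ W, B z w = 0) : rI C z hz ∈ stabSub Q W := by
  refine mem_stabSub_of_le ?_
  rintro _ ⟨w, hw, rfl⟩
  show (rGL Q z).val *ᵥ w ∈ W
  rw [rGL_act C hz]
  rcases h with h | h
  · exact W.sub_mem hw (W.smul_mem _ h)
  · rw [h w hw, mul_zero, zero_smul, sub_zero]; exact hw

/-- A Levi element stabilising a totally singular subspace, of spinor norm `-1`. -/
theorem exists_levi [Fintype F] (C : Space Q B) (h2 : (2 : F) ≠ 0) {W : Submodule F (ι → F)}
    (hW : ∀ w ∈ W, Q w = 0) (hne : W ≠ ⊥) :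
    ∃ s ∈ stabSub Q W, (s : GL ι F).val.det = 1 ∧ spin Q s = -1 := by
  classical
  obtain ⟨u, hu, hu0⟩ := Submodule.exists_mem_ne_zero_of_ne_bot hne
  have hQu := hW u hu
  obtain ⟨y, hy⟩ := C.exists_pair hu0
  set w := y - Q y • u with hw
  have hBuu := C.self_zero hQu
  have huw : B u w = 1 := by rw [hw, map_sub, map_smul, hy, hBuu, smul_zero, sub_zero]
  have hQw : Q w = 0 := by
    rw [hw, sub_eq_add_neg, ← neg_smul, C.add, C.smul, hQu, map_smul, C.symm y u, hy, smul_eq_mul]
    ring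
  have hchar : ringChar F ≠ 2 := fun hc => h2 (by
    haveI := ringChar.charP F
    have := CharP.cast_eq_zero F (ringChar F)
    rw [hc] at this
    exact_mod_cast this)
  obtain ⟨α, hα⟩ := FiniteField.exists_nonsquare hchar
  have hα0 : α ≠ 0 := fun h => hα (h ▸ ⟨0, (mul_zero 0).symm⟩)
  have hQv : ∀ c : F, Q (u + c • w) = c := fun c => by
    rw [C.add, C.smul, hQu, hQw, map_smul, huw, smul_eq_mul]; ring
  have h1 : Q (u + (1 : F) • w) ≠ 0 := by rw [hQv]; exact one_ne_zero
  have ha : Q (u + α • w) ≠ 0 := by rw [hQv]; exact hα0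
  refine ⟨rI C _ h1 * rI C _ ha, mem_stabSub_of_le ?_, ?_, ?_⟩
  · rintro _ ⟨x, hx, rfl⟩
    show ((rI C _ h1 * rI C _ ha : ↥(isometryGroup F Q)) : GL ι F).val *ᵥ x ∈ W
    rw [Subgroup.coe_mul, mul_act, rI_val, rI_val, rGL_act C ha, rGL_act C h1, hQv, hQv]
    have hux : B u x = 0 := ts_orth C hW hu hx
    have hwu : B w u = 1 := by rw [C.symm]; exact huw
    simp only [map_add, map_smul, map_sub, LinearMap.add_apply, LinearMap.smul_apply, smul_eq_mul,
      hux, hwu, huw, hBuu, C.self_zero hQw]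
    have : x - (α⁻¹ * (0 + α * B w x)) • (u + α • w) -
        ((1 : F)⁻¹ * (0 + 1 * B w x - α⁻¹ * (0 + α * B w x) * (0 + 1 * 1 + α * (1 + 1 * 0)))) •
          (u + (1 : F) • w) = x + ((α - 1) * B w x) • u := by
      match_scalars <;> field_simp <;> ring
    rw [this]
    exact W.add_mem hx (W.smul_mem _ hu)
  · rw [Subgroup.coe_mul, Units.val_mul, Matrix.det_mul, rI_val, rI_val, rGL_det C h1, rGL_det C ha]
    norm_num
  · rw [map_mul, spin_rI C h2, spin_rI C h2, hQv, hQv, if_pos IsSquare.one, if_neg hα, mul_one]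

/-- A non-degenerate subspace of dimension at least two represents all non-zero values. -/
theorem exists_value_sub [Fintype F] (C : Space Q B) (h2 : (2 : F) ≠ 0)
    {K : Submodule F (ι → F)} (hK : NDeg B K) (hn : 2 ≤ finrank F K) {d : F} (hd : d ≠ 0) :
    ∃ v ∈ K, Q v = d := by
  obtain ⟨u, huK, hu⟩ := exists_nonsing C hK (fun h => by rw [h, finrank_bot] at hn; omega)
  have hproj : ∀ y, B u (y - ((2 * Q u)⁻¹ * B u y) • u) = 0 := fun y => by
    rw [map_sub, map_smul, C.self, smul_eq_mul]; field_simp; ring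
  have hK' : NDeg B (K ⊓ LinearMap.ker (B u)) := fun x hx hxy => hK x hx.1 fun y hy => by
    have h1 := hxy _ ⟨K.sub_mem hy (K.smul_mem _ huK), LinearMap.mem_ker.mpr (hproj y)⟩
    rw [map_sub, map_smul, C.symm x u, LinearMap.mem_ker.mp hx.2, smul_zero, sub_zero] at h1
    exact h1
  obtain ⟨w, hw, hQw⟩ := exists_nonsing C hK' (fun h => by
    have h1 := finrank_inf_ker_ge K (B u)
    rw [h, finrank_bot] at h1
    omega)
  obtain ⟨a, b, hab⟩ := FiniteField.exists_root_sum_quadratic
    (f := Polynomial.C (Q u) * Polynomial.X ^ 2)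
    (g := Polynomial.C (Q w) * Polynomial.X ^ 2 - Polynomial.C d)
    (Polynomial.degree_C_mul_X_pow 2 hu)
    (by
      rw [Polynomial.degree_sub_eq_left_of_degree_lt, Polynomial.degree_C_mul_X_pow 2 hQw]
      · rfl
      · rw [Polynomial.degree_C_mul_X_pow 2 hQw, Polynomial.degree_C hd]; decide)
    (FiniteField.odd_card_of_char_ne_two (fun h => h2 (by
      haveI := ringChar.charP F
      have := CharP.cast_eq_zero F (ringChar F)
      rw [h] at this
      exact_mod_cast this)))
  refine ⟨a • u + b • w, K.add_mem (K.smul_mem _ huK) (K.smul_mem _ hw.1), ?_⟩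
  rw [C.smul_add, LinearMap.mem_ker.mp hw.2]
  simp at hab
  linear_combination hab

/-- Witt extension as an element of the isometry group. -/
theorem exists_img_eq [Finite F] (C : Space Q B) {U W : Submodule F (ι → F)} (e : U ≃ₗ[F] W)
    (he : ∀ u : U, Q (e u : ι → F) = Q (u : ι → F)) :
    ∃ g : ↥(isometryGroup F Q), img (g : GL ι F) U = W ∧
      ∀ u : U, (g : GL ι F).val *ᵥ (u : ι → F) = (e u : ι → F) := by
  let q : QuadraticForm F (ι → F) := QuadraticMap.ofPolar Q
    (fun a x => by rw [C.smul, smul_eq_mul, sq])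
    (fun x x' y => by simp only [C.polar, map_add, LinearMap.add_apply])
    (fun a x y => by simp only [C.polar, map_smul, LinearMap.smul_apply])
  have hq : (QuadraticMap.polarBilin q).Nondegenerate := by
    constructor
    · intro x hx
      refine C.nondeg' fun y => ?_
      rw [← C.polar]
      exact hx y
    · intro y hy
      refine C.nondeg y fun x => ?_
      rw [← C.polar]
      exact hy x
  obtain ⟨t, ht, hte⟩ := Cfsg.Agent.S0750.witt_quadratic q hq U (W.subtype.comp e.toLinearMap)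
    (Subtype.val_injective.comp e.injective) he
  have hinv : LinearMap.toMatrix' t.toLinearMap * LinearMap.toMatrix' t.symm.toLinearMap = 1 := by
    rw [← LinearMap.toMatrix'_comp, LinearEquiv.comp_symm, LinearMap.toMatrix'_id]
  have hact : ∀ x, (toGL (LinearMap.toMatrix' t.toLinearMap)).val *ᵥ x = t x := fun x => by
    rw [toGL_val hinv, LinearMap.toMatrix'_mulVec]; rfl
  refine ⟨⟨toGL (LinearMap.toMatrix' t.toLinearMap), mem_iso.2 fun x => ?_⟩, ?_, fun u => ?_⟩
  · rw [hact]; exact ht x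
  · apply le_antisymm
    · rintro _ ⟨x, hx, rfl⟩
      show (toGL _).val *ᵥ x ∈ W
      rw [hact, hte ⟨x, hx⟩]
      exact (e ⟨x, hx⟩).2
    · intro w hw
      refine ⟨(e.symm ⟨w, hw⟩ : ι → F), (e.symm ⟨w, hw⟩).2, ?_⟩
      show (toGL _).val *ᵥ _ = w
      rw [hact, hte]
      simp
  · show (toGL _).val *ᵥ _ = _
    rw [hact, hte]; rfl

/-- Move a subspace by an element of `Ω`. -/
theorem exists_omega_img [Fintype F] (C : Space Q B) (hn : 2 ≤ Fintype.card ι)
    (h : Fintype.card F ≠ 2 ∨ Fintype.card ι ≠ 4) {U W : Submodule F (ι → F)} (e : U ≃ₗ[F] W)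
    (he : ∀ u : U, Q (e u : ι → F) = Q (u : ι → F))
    (h1 : ∃ z : ι → F, Q z ≠ 0 ∧ (z ∈ W ∨ ∀ w ∈ W, B z w = 0))
    (h3 : (2 : F) ≠ 0 → ∃ s ∈ stabSub Q W, (s : GL ι F).val.det = 1 ∧ spin Q s = -1) :
    ∃ g : ↥(isometryGroup F Q), g ∈ commutator ↥(isometryGroup F Q) ∧
      img (g : GL ι F) U = W := by
  obtain ⟨g, hg, -⟩ := exists_img_eq C e he
  obtain ⟨z, hz, hzW⟩ := h1
  obtain ⟨s, hs, hsg⟩ := exists_adjust C hn h (stabSub Q W)
    ⟨z, hz, rI_mem_stabSub_of_mem C hz hzW⟩ h3 g
  refine ⟨s * g, hsg, ?_⟩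
  rw [Subgroup.coe_mul, img_mul, hg]
  exact hs

end Cfsg.Lib.H3
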