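import Cfsg.Agent.Lib.H3.PGOQuot
import Cfsg.Agent.Lib.H3.OmegaAdjust
import Cfsg.Prelude.Def_KGroupFacts

/-!
# The index of `Inn PΩ` in the image of the special orthogonal group
-/

set_option autoImplicit false

namespace Cfsg.Lib.H3

open Module Cfsg.Lib.Linear.Orth
open scoped Matrix

universe u

variable {ι : Type} [Fintype ι] [DecidableEq ι] {F : Type u} [Field F]
  {Q : (ι → F) → F} {B : LinearMap.BilinForm F (ι → F)}

theorem inn_relIndex_pso [Fintype F] (C : Space Q B) (h2 : (2 : F) ≠ 0) (he : Even (Fintype.card ι))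
    (h7 : 7 ≤ Fintype.card ι) :
    ((∃ g : ↥(isometryGroup F Q), g ∈ Cfsg.Omega F Q ∧ (g : GL ι F).val = -1) →
      (Cfsg.Inn (Cfsg.POmega F Q)).relIndex (Cfsg.psoAut F Q) = 2) ∧
    ((¬ ∃ g : ↥(isometryGroup F Q), g ∈ Cfsg.Omega F Q ∧ (g : GL ι F).val = -1) →
      (Cfsg.Inn (Cfsg.POmega F Q)).relIndex (Cfsg.psoAut F Q) = 1) := by
  classical
  have hn : 2 ≤ Fintype.card ι := by omega
  have hiff := omega_char_odd C h2 hn
  let em : ↥(isometryGroup F Q) →* ↥(Cfsg.Geo.quadSimilarityGroup (F := F) Q) :=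
    Subgroup.inclusion iso_le_sim
  have hinn : ∀ w : ↥(Cfsg.Omega F Q),
      MulAut.conj (QuotientGroup.mk w : Cfsg.POmega F Q) = simAut (em (w : ↥(isometryGroup F Q))) := by
    intro w
    refine MulEquiv.ext fun x => ?_
    obtain ⟨s, rfl⟩ := QuotientGroup.mk_surjective x
    show (QuotientGroup.mk (w * s * w⁻¹) : Cfsg.POmega F Q) = QuotientGroup.mk (simOmega _ s)
    exact congrArg _ (Subtype.ext (Subtype.ext rfl))
  have hmem : ∀ s : ↥(isometryGroup F Q), s ∈ Cfsg.Omega F Q →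
      simAut (em s) ∈ Cfsg.Inn (Cfsg.POmega F Q) := fun s hs => ⟨QuotientGroup.mk ⟨s, hs⟩, hinn ⟨s, hs⟩⟩
  have hpso : ∀ β, β ∈ Cfsg.psoAut F Q ↔
      ∃ s : ↥(isometryGroup F Q), (s : GL ι F).val.det = 1 ∧ simAut (em s) = β := by
    intro β
    rw [psoAut_eq]
    constructor
    · rintro ⟨g, hg, rfl⟩
      exact ⟨⟨g, hg.1⟩, congrArg Units.val (MonoidHom.mem_ker.1 hg.2), rfl⟩
    · rintro ⟨s, hs, rfl⟩
      exact ⟨em s, ⟨s.2, MonoidHom.mem_ker.2 (Units.ext hs)⟩, rfl⟩
  have hle : Cfsg.Inn (Cfsg.POmega F Q) ≤ Cfsg.psoAut F Q := by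
    rintro _ ⟨x, rfl⟩
    obtain ⟨w, rfl⟩ := QuotientGroup.mk_surjective x
    exact (hpso _).2 ⟨(w : ↥(isometryGroup F Q)), ((hiff _).1 w.2).1, (hinn w).symm⟩
  -- kernel of the action
  have hker : ∀ s : ↥(isometryGroup F Q), simAut (em s) = 1 →
      (s : GL ι F).val = 1 ∨ (s : GL ι F).val = -1 := by
    intro s hs
    obtain ⟨c, hc⟩ := simAut_ker C h7 hs
    obtain ⟨v, hv⟩ := exists_nonsing_vec C (by omega)
    have hQ : Q (c • v) = Q v := by rw [← hc]; exact mem_iso.1 s.2 v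
    rw [C.smul] at hQ
    have hcc : c * c = 1 := mul_right_cancel₀ hv (by rw [← pow_two, hQ, one_mul])
    rcases mul_self_eq_one_iff.1 hcc with h | h
    · exact Or.inl (mat_ext fun x => by
        show (em s : GL ι F).val *ᵥ x = _
        rw [hc, h, one_smul, Matrix.one_mulVec])
    · exact Or.inr (mat_ext fun x => by
        show (em s : GL ι F).val *ᵥ x = _
        rw [hc, h, neg_one_smul, Matrix.neg_mulVec, Matrix.one_mulVec])
  refine ⟨fun ⟨z, hz, hzv⟩ => ?_, fun hno => ?_⟩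
  · obtain ⟨α, hα⟩ := FiniteField.exists_nonsquare (fun hc : ringChar F = 2 => h2 (by
      haveI := ringChar.charP F
      have := CharP.cast_eq_zero F (ringChar F)
      rw [hc] at this
      exact_mod_cast this))
    have hα0 : α ≠ 0 := fun h => hα (h ▸ ⟨0, (mul_zero 0).symm⟩)
    obtain ⟨v1, hv1⟩ := exists_value C h2 hn (one_ne_zero : (1 : F) ≠ 0)
    obtain ⟨va, hva⟩ := exists_value C h2 hn hα0
    have h1 : Q v1 ≠ 0 := by rw [hv1]; exact one_ne_zero
    have ha : Q va ≠ 0 := by rw [hva]; exact hα0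
    set a := rI C v1 h1 * rI C va ha with hadef
    have had : (a : GL ι F).val.det = 1 := by
      rw [hadef, Subgroup.coe_mul, Units.val_mul, Matrix.det_mul, rI_val, rI_val, rGL_det C h1,
        rGL_det C ha]
      norm_num
    have has : spin Q a = -1 := by
      rw [hadef, map_mul, spin_rI C h2, spin_rI C h2, hv1, hva, if_pos IsSquare.one, if_neg hα, mul_one]
    have hinv : ∀ s : ↥(isometryGroup F Q), (s : GL ι F).val.det = 1 →
        (simAut (em s) ∈ Cfsg.Inn (Cfsg.POmega F Q) ↔ spin Q s = 1) := by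
      intro s hs
      refine ⟨fun ⟨x, hx⟩ => ?_, fun h => hmem s ((hiff s).2 ⟨hs, h⟩)⟩
      obtain ⟨w, rfl⟩ := QuotientGroup.mk_surjective x
      rw [hinn w] at hx
      have h := hker ((w : ↥(isometryGroup F Q))⁻¹ * s) (by
        rw [map_mul, map_mul, map_inv, map_inv, hx, inv_mul_cancel])
      have hs' : (w : ↥(isometryGroup F Q))⁻¹ * s ∈ Cfsg.Omega F Q := by
        rcases h with h | h
        · rw [show (w : ↥(isometryGroup F Q))⁻¹ * s = 1 from Subtype.ext (Units.ext h)]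
          exact one_mem _
        · rw [show (w : ↥(isometryGroup F Q))⁻¹ * s = z from
            Subtype.ext (Units.ext (h.trans hzv.symm))]
          exact hz
      have := (hiff _).1 (mul_mem w.2 hs')
      rw [mul_inv_cancel_left] at this
      exact this.2
    rw [Subgroup.relIndex, Subgroup.index_eq_two_iff]
    refine ⟨⟨simAut (em a), (hpso _).2 ⟨a, had, rfl⟩⟩, fun b => ?_⟩
    obtain ⟨s, hs, hsb⟩ := (hpso _).1 b.2
    rw [Subgroup.mem_subgroupOf, Subgroup.mem_subgroupOf, Subgroup.coe_mul, ← hsb, ← map_mul,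
      ← map_mul, hinv s hs, hinv (s * a) (by rw [Subgroup.coe_mul, Units.val_mul, Matrix.det_mul, hs, had, one_mul]),
      map_mul, has]
    rcases Int.units_eq_one_or (spin Q s) with h | h <;> simp [h, Xor']
  · rw [Subgroup.relIndex_eq_one]
    intro β hβ
    obtain ⟨s, hs, rfl⟩ := (hpso β).1 hβ
    rcases Int.units_eq_one_or (spin Q s) with h | h
    · exact hmem s ((hiff s).2 ⟨hs, h⟩)
    · let n : GL ι F := -1
      have hn' : n ∈ isometryGroup F Q := mem_iso.2 fun v => by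
        show Q ((-1 : Matrix ι ι F) *ᵥ v) = Q v
        rw [Matrix.neg_mulVec, Matrix.one_mulVec, C.neg]
      have hnd : ((⟨n, hn'⟩ : ↥(isometryGroup F Q)) : GL ι F).val.det = 1 := by
        show (-1 : Matrix ι ι F).det = 1
        rw [Matrix.det_neg, Matrix.det_one, mul_one, he.neg_one_pow]
      have hns : spin Q (⟨n, hn'⟩ : ↥(isometryGroup F Q)) = -1 :=
        (Int.units_eq_one_or _).resolve_left fun h =>
          hno ⟨⟨n, hn'⟩, (hiff _).2 ⟨hnd, h⟩, rfl⟩
      have h1 : simAut (em (⟨n, hn'⟩ : ↥(isometryGroup F Q))) = 1 := MulEquiv.ext fun x => by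
        obtain ⟨t, rfl⟩ := QuotientGroup.mk_surjective x
        show QuotientGroup.mk (simOmega _ t) = QuotientGroup.mk t
        refine congrArg _ (Subtype.ext (Subtype.ext ?_))
        rw [simOmega_val]
        show n * _ * n⁻¹ = _
        simp [n]
      have := hmem (s * ⟨n, hn'⟩) ((hiff _).2 ⟨by
        rw [Subgroup.coe_mul, Units.val_mul, Matrix.det_mul, hs, hnd, one_mul], by
        rw [map_mul, h, hns]; norm_num⟩)
      rwa [map_mul, map_mul, h1, mul_one] at this

end Cfsg.Lib.H3
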