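import Cfsg.Agent.Lib.Linear.HermStandard
import Cfsg.Agent.Lib.Linear.UnitaryCenter
import Mathlib.GroupTheory.SpecificGroups.Quaternion

/-!
The group SU(3, 2) as the product of a subgroup of order 27 and a quaternion group, and PSU(3, 2).
-/

set_option autoImplicit false
set_option linter.style.haveILetI false

namespace Cfsg.Lib.H3.UnitaryThreeTwo

abbrev Q8 := QuaternionGroup 2
abbrev Idx := Fin 3 × Fin 3 × Fin 3
abbrev MC := Fin 3 → Fin 3 → Fin 4

def addT (a b : Fin 4) : Fin 4 := ![![0, 1, 2, 3], ![1, 0, 3, 2], ![2, 3, 0, 1], ![3, 2, 1, 0]] a b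

def mulT (a b : Fin 4) : Fin 4 := ![![0, 0, 0, 0], ![0, 1, 2, 3], ![0, 2, 3, 1], ![0, 3, 1, 2]] a b

def mmul (A B : MC) : MC := fun i j =>
  addT (addT (mulT (A i 0) (B 0 j)) (mulT (A i 1) (B 1 j))) (mulT (A i 2) (B 2 j))

def oneC : MC := fun i j => if i = j then 1 else 0

def detT (A : MC) : Fin 4 :=
  addT (addT (mulT (A 0 0) (addT (mulT (A 1 1) (A 2 2)) (mulT (A 1 2) (A 2 1))))
    (mulT (A 0 1) (addT (mulT (A 1 0) (A 2 2)) (mulT (A 1 2) (A 2 0)))))
    (mulT (A 0 2) (addT (mulT (A 1 0) (A 2 1)) (mulT (A 1 1) (A 2 0))))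

def starT (A : MC) : MC := fun i j => mulT (A j i) (A j i)

def tr3 (A : MC) : MC := fun i j => A j i

def good (A : MC) : Bool := decide (detT A = 1) && decide (mmul (tr3 A) (fun i j => mulT (A i j) (A i j)) = oneC)

def pw (i : Fin 3) : Fin 4 := ![1, 2, 3] i

/-- The monomial matrices with cyclic permutation part. -/
def eMat (e : Idx) : MC := fun r c => if c = r + e.2.2 then pw (![e.1, e.2.1, -(e.1 + e.2.1)] r) else 0

def aC : MC := ![![1, 1, 1], ![1, 2, 3], ![1, 3, 2]]

def bC : MC := ![![1, 3, 3], ![2, 2, 3], ![2, 3, 2]]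

def powC (A : MC) : ℕ → MC
  | 0 => oneC
  | k + 1 => mmul A (powC A k)

def qMat : Q8 → MC
  | .a i => powC aC i.val
  | .xa i => mmul bC (powC aC i.val)

theorem eMat_good : ∀ e : Idx, good (eMat e) = true := by decide +kernel

theorem qMat_good : ∀ q : Q8, good (qMat q) = true := by decide +kernel

theorem eMat_mul : ∀ e e' : Idx, ∃ e'' : Idx, mmul (eMat e) (eMat e') = eMat e'' := by decide +kernel

theorem qMat_mul : ∀ q q' : Q8, mmul (qMat q) (qMat q') = qMat (q * q') := by decide +kernel

theorem qMat_eMat : ∀ (q : Q8) (e : Idx), ∃ e' : Idx, mmul (qMat q) (eMat e) = mmul (eMat e') (qMat q) := by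
  decide +kernel

theorem eMat_inj : ∀ e e' : Idx, eMat e = eMat e' → e = e' := by decide +kernel

theorem eMat_one : eMat (0, 0, 0) = oneC := by decide +kernel

theorem qMat_one : qMat 1 = oneC := by decide +kernel

theorem qMat_eq_eMat : ∀ (q : Q8) (e : Idx), qMat q = eMat e → q = 1 := by decide +kernel

theorem eMat_cube : ∀ e : Idx, ∃ c : Fin 4, mmul (eMat e) (mmul (eMat e) (eMat e)) = fun i j => if i = j then c else 0 := by
  decide +kernel

theorem scalar_eMat : ∀ c : Fin 4, mulT c (mulT c c) = 1 → ∃ e : Idx, eMat e = fun i j => if i = j then c else 0 := by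
  decide +kernel

variable {F : Type*} [Field F]

/-- The value of a code. -/
def val (w : F) (a : Fin 4) : F := ![0, 1, w, w + 1] a

/-- The matrix of a code. -/
def toMat (w : F) (A : MC) : Matrix (Fin 3) (Fin 3) F := Matrix.of fun i j => val w (A i j)

variable [Fintype F]

theorem two_zero (hF : Fintype.card F = 4) : (2 : F) = 0 := by
  have h : ((Fintype.card F : ℕ) : F) = 0 := FiniteField.cast_card_eq_zero F
  rw [hF] at h
  have h4 : (2 : F) * 2 = 0 := by rw [← h]; norm_num
  exact mul_self_eq_zero.1 h4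

theorem exists_w (hF : Fintype.card F = 4) : ∃ w : F, w * w = w + 1 := by
  obtain ⟨g, hg⟩ := IsCyclic.exists_generator (α := Fˣ)
  have ho : orderOf g = 3 := by
    rw [orderOf_eq_card_of_forall_mem_zpowers hg, Nat.card_units, Nat.card_eq_fintype_card, hF]
  have h2 := two_zero hF
  refine ⟨g, ?_⟩
  have h3 : ((g : F)) ^ 3 = 1 := by
    rw [← Units.val_pow_eq_pow_val, ← ho, pow_orderOf_eq_one, Units.val_one]
  have h1 : (g : F) - 1 ≠ 0 := by
    intro h
    have : g = 1 := Units.ext (sub_eq_zero.1 h)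
    rw [this, orderOf_one] at ho
    norm_num at ho
  have h : (g : F) * g + g + 1 = 0 := by
    have : ((g : F) - 1) * ((g : F) * g + g + 1) = 0 := by
      calc ((g : F) - 1) * ((g : F) * g + g + 1) = (g : F) ^ 3 - 1 := by ring
        _ = 0 := by rw [h3, sub_self]
    exact (mul_eq_zero.1 this).resolve_left h1
  linear_combination h - ((g : F) + 1) * h2

section

variable {w : F} (hw : w * w = w + 1) (h2 : (2 : F) = 0)
include hw h2

omit [Fintype F]

theorem val_add (a b : Fin 4) : val w (addT a b) = val w a + val w b := by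
  fin_cases a <;> fin_cases b <;> simp [val, addT] <;>
    first
    | linear_combination -h2 | linear_combination -w * h2 | linear_combination -(w + 1) * h2
    | linear_combination (0 : F) * h2

theorem val_mul (a b : Fin 4) : val w (mulT a b) = val w a * val w b := by
  have h11 : (1 : F) + 1 = 0 := by rw [← h2]; norm_num
  fin_cases a <;> fin_cases b <;> simp [val, mulT] <;>
    first
    | exact hw.symm | linear_combination -hw | linear_combination -hw - w * h11
    | linear_combination -hw - w * h11 - h11 | linear_combination -hw - h11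

theorem val_inj {a b : Fin 4} (h : val w a = val w b) : a = b := by
  have hw0 : w ≠ 0 := fun e => by rw [e] at hw; simp at hw
  have hw1 : w ≠ 1 := fun e => by
    rw [e] at hw
    exact one_ne_zero (α := F) (by linear_combination -hw)
  have hw2 : w + 1 ≠ 0 := fun e => hw0 (mul_self_eq_zero.1 (hw.trans e))
  have hw3 : w + 1 ≠ 1 := fun e => hw0 (by linear_combination e)
  have hw4 : w ≠ w + 1 := fun e => one_ne_zero (α := F) (by linear_combination -e)
  revert h
  fin_cases a <;> fin_cases b <;> simp [val, hw0, hw1, hw2, hw0.symm, hw1.symm, hw2.symm, hw3, hw3.symm, hw4, hw4.symm]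

theorem toMat_mul (A B : MC) : toMat w (mmul A B) = toMat w A * toMat w B := by
  ext i j
  simp [toMat, mmul, val_add hw h2, val_mul hw h2, Matrix.mul_apply, Fin.sum_univ_three]

theorem toMat_injective : Function.Injective (toMat w) := fun A B h => by
  funext i j
  exact val_inj hw h2 (congrFun (congrFun h i) j)

theorem toMat_one : toMat w oneC = 1 := by
  ext i j
  fin_cases i <;> fin_cases j <;> simp [toMat, oneC, val]

theorem toMat_det (A : MC) : (toMat w A).det = val w (detT A) := by
  have hn : ∀ x : F, -x = x := fun x => by linear_combination -x * h2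
  simp only [Matrix.det_fin_three, toMat, Matrix.of_apply, detT, val_add hw h2, val_mul hw h2, sub_eq_add_neg, hn]
  ring

end

theorem mem_of_good (hF : Fintype.card F = 4) {w : F} (hw : w * w = w + 1) {A : MC} (hA : good A = true) :
    ∃ g : Cfsg.SU 3 F 2, (g.1 : Matrix (Fin 3) (Fin 3) F) = toMat w A := by
  have h2 := two_zero hF
  simp only [good, Bool.and_eq_true, decide_eq_true_eq] at hA
  have hd : (toMat w A).det = 1 := by rw [toMat_det hw h2, hA.1]; rfl
  have hM : (toMat w A).transpose * (toMat w A).map (· ^ 2) = 1 := by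
    have h := congrArg (toMat w) hA.2
    rw [toMat_mul hw h2, toMat_one hw h2] at h
    have ht : toMat w (tr3 A) = (toMat w A).transpose := rfl
    have hs : (toMat w fun i j => mulT (A i j) (A i j)) = (toMat w A).map (· ^ 2) := by
      ext i j
      simp [toMat, val_mul hw h2, pow_two]
    rw [← ht, ← hs]
    exact h
  refine ⟨⟨⟨toMat w A, hd⟩, fun u v => ?_⟩, rfl⟩
  generalize toMat w A = M at hM hd
  show (M.mulVec u) ⬝ᵥ (fun i => (M.mulVec v) i ^ 2) = u ⬝ᵥ fun i => v i ^ 2
  have h : (fun i => (M.mulVec v) i ^ 2) = (M.map (· ^ 2)).mulVec fun i => v i ^ 2 := by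
    funext i
    simp only [Matrix.mulVec, dotProduct, Fin.sum_univ_three, Matrix.map_apply]
    linear_combination (M i 0 * v 0 * (M i 1 * v 1) + M i 0 * v 0 * (M i 2 * v 2) + M i 1 * v 1 * (M i 2 * v 2)) * h2
  rw [h, dotProduct_comm, Matrix.dotProduct_mulVec, ← Matrix.mulVec_transpose, Matrix.mulVec_mulVec,
    hM, Matrix.one_mulVec, dotProduct_comm]

theorem card_SU_three (hF : Fintype.card F = 4) : Nat.card (Cfsg.SU 3 F 2) = 216 := by
  have hF2 : Fintype.card F = 2 ^ 2 := hF
  have h := Cfsg.Lib.Linear.Herm.card_SU (q := 2) hF2 (n := 3) (by norm_num)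
  rw [Cfsg.Lib.Linear.Herm.card_GU (q := 2) hF2 3] at h
  simp [Finset.prod_range_succ, Nat.even_iff] at h
  omega

/-- PSU(3, 2) maps onto the quaternion group with kernel of order nine and exponent three. -/
theorem exists_hom (hF : Fintype.card F = 4) :
    Nat.card (Cfsg.PSU 3 F 2) = 72 ∧ ∃ f : Cfsg.PSU 3 F 2 →* Q8, Function.Surjective f ∧
      Nat.card f.ker = 9 ∧ ∀ x ∈ f.ker, x ^ 3 = 1 := by
  classical
  obtain ⟨w, hw⟩ := exists_w hF
  have h2 := two_zero hF
  choose ge hge using fun e : Idx => mem_of_good hF hw (eMat_good e)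
  choose gq hgq using fun q : Q8 => mem_of_good hF hw (qMat_good q)
  have hext : ∀ x y : Cfsg.SU 3 F 2, (x.1 : Matrix (Fin 3) (Fin 3) F) = (y.1 : Matrix (Fin 3) (Fin 3) F) → x = y :=
    fun x y h => Subtype.ext (Subtype.ext h)
  have hmul : ∀ x y : Cfsg.SU 3 F 2, ((x * y).1 : Matrix (Fin 3) (Fin 3) F) =
      (x.1 : Matrix (Fin 3) (Fin 3) F) * (y.1 : Matrix (Fin 3) (Fin 3) F) := fun x y => rfl
  have qq : ∀ q q', gq q * gq q' = gq (q * q') := fun q q' => hext _ _ (by
    rw [hmul, hgq, hgq, hgq, ← toMat_mul hw h2, qMat_mul])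
  have ee : ∀ e e', ∃ e'', ge e * ge e' = ge e'' := fun e e' => by
    obtain ⟨e'', h⟩ := eMat_mul e e'
    exact ⟨e'', hext _ _ (by rw [hmul, hge, hge, hge, ← toMat_mul hw h2, h])⟩
  have qe : ∀ q e, ∃ e', gq q * ge e = ge e' * gq q := fun q e => by
    obtain ⟨e', h⟩ := qMat_eMat q e
    exact ⟨e', hext _ _ (by rw [hmul, hmul, hge, hge, hgq, ← toMat_mul hw h2, ← toMat_mul hw h2, h])⟩
  have e1 : ge (0, 0, 0) = 1 := hext _ _ (by rw [hge, eMat_one, toMat_one hw h2]; rfl)
  have q1 : gq 1 = 1 := hext _ _ (by rw [hgq, qMat_one, toMat_one hw h2]; rfl)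
  have einj : ∀ e e', ge e = ge e' → e = e' := fun e e' h => eMat_inj e e' (toMat_injective hw h2 (by
    rw [← hge, ← hge, h]))
  have einv : ∀ e, ∃ e', ge e' = (ge e)⁻¹ := by
    intro e
    have hi : Function.Injective fun e' => Classical.choose (ee e e') := by
      intro a b hab
      have ha := Classical.choose_spec (ee e a)
      have hb := Classical.choose_spec (ee e b)
      exact einj a b (mul_left_cancel (ha.trans ((congrArg ge hab).trans hb.symm)))
    obtain ⟨e', he'⟩ := (Finite.injective_iff_surjective.1 hi) (0, 0, 0)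
    refine ⟨e', eq_inv_of_mul_eq_one_right ?_⟩
    rw [Classical.choose_spec (ee e e'), show Classical.choose (ee e e') = (0, 0, 0) from he', e1]
  have hinj : Function.Injective fun p : Idx × Q8 => ge p.1 * gq p.2 := by
    rintro ⟨e, q⟩ ⟨e', q'⟩ h
    simp only at h
    obtain ⟨i, hi⟩ := einv e'
    obtain ⟨j, hj⟩ := ee i e
    have hq : gq q' = ge j * gq q := by
      rw [← hj, mul_assoc, h, ← mul_assoc, hi, inv_mul_cancel, one_mul]
    have hqq : gq (q' * q⁻¹) = ge j := by
      rw [← qq, hq, mul_assoc, qq, mul_inv_cancel, q1, mul_one]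
    have h1 : q' * q⁻¹ = 1 := qMat_eq_eMat _ j (toMat_injective hw h2 (by rw [← hgq, ← hge, hqq]))
    obtain rfl := mul_inv_eq_one.1 h1
    rw [einj e e' (mul_right_cancel h)]
  have hbij : Function.Bijective fun p : Idx × Q8 => ge p.1 * gq p.2 := by
    refine (Nat.bijective_iff_injective_and_card _).2 ⟨hinj, ?_⟩
    rw [card_SU_three hF, Nat.card_prod, Nat.card_eq_fintype_card (α := Q8), QuaternionGroup.card,
      Nat.card_eq_fintype_card (α := Idx)]
    rfl
  let d := (Equiv.ofBijective _ hbij).symm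
  have hd : ∀ g, ge (d g).1 * gq (d g).2 = g := fun g => (Equiv.ofBijective _ hbij).apply_symm_apply g
  have hdd : ∀ e q, d (ge e * gq q) = (e, q) := fun e q => (Equiv.ofBijective _ hbij).symm_apply_apply (e, q)
  let π : Cfsg.SU 3 F 2 →* Q8 := MonoidHom.mk' (fun g => (d g).2) (fun g h => by
    obtain ⟨i, hi⟩ := qe (d g).2 (d h).1
    obtain ⟨j, hj⟩ := ee (d g).1 i
    have : g * h = ge j * gq ((d g).2 * (d h).2) := by
      conv_lhs => rw [← hd g, ← hd h]
      rw [← qq, ← hj]
      calc ge (d g).1 * gq (d g).2 * (ge (d h).1 * gq (d h).2)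
          = ge (d g).1 * (gq (d g).2 * ge (d h).1) * gq (d h).2 := by simp only [mul_assoc]
        _ = _ := by rw [hi]; simp only [mul_assoc]
    show (d (g * h)).2 = _
    rw [this, hdd])
  have hπs : Function.Surjective π := fun q => ⟨ge (0, 0, 0) * gq q, congrArg Prod.snd (hdd _ q)⟩
  have hπk : ∀ g, π g = 1 ↔ ∃ e, ge e = g := by
    intro g
    constructor
    · intro h
      refine ⟨(d g).1, ?_⟩
      conv_rhs => rw [← hd g]
      rw [show (d g).2 = 1 from h, q1, mul_one]
    · rintro ⟨e, rfl⟩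
      have := hdd e 1
      rw [q1, mul_one] at this
      exact congrArg Prod.snd this
  have hcard := card_SU_three hF
  have hF2 : Fintype.card F = 2 ^ 2 := hF
  have hzc : Nat.card (Subgroup.center (Cfsg.SU 3 F 2)) = 3 := by
    rw [Cfsg.Lib.Linear.Herm.card_center_SU (q := 2) hF2 (by norm_num)]
    rfl
  have hcp : Nat.card (Cfsg.PSU 3 F 2) = 72 := by
    have := Subgroup.card_eq_card_quotient_mul_card_subgroup (Subgroup.center (Cfsg.SU 3 F 2))
    rw [hzc, hcard] at this
    show Nat.card (Cfsg.SU 3 F 2 ⧸ Subgroup.center (Cfsg.SU 3 F 2)) = 72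
    omega
  have hzπ : Subgroup.center (Cfsg.SU 3 F 2) ≤ π.ker := by
    intro z hz
    rw [MonoidHom.mem_ker]
    have hzq : π z ∈ Subgroup.center Q8 := Subgroup.mem_center_iff.2 fun q => by
      obtain ⟨g, rfl⟩ := hπs q
      rw [← map_mul, ← map_mul, Subgroup.mem_center_iff.1 hz g]
    have h3 : π z ^ 3 = 1 := by
      have hz3 : z ^ 3 = 1 := by
        refine orderOf_dvd_iff_pow_eq_one.1 (dvd_trans (Subgroup.orderOf_dvd_natCard _ hz) ?_)
        exact hzc.dvd
      rw [← map_pow, hz3, map_one]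
    revert h3
    generalize π z = q
    revert q
    decide
  let f : Cfsg.PSU 3 F 2 →* Q8 := QuotientGroup.lift _ π hzπ
  have hfs : Function.Surjective f := fun q => by
    obtain ⟨g, hg⟩ := hπs q
    exact ⟨g, by rw [← hg]; rfl⟩
  refine ⟨hcp, f, hfs, ?_, ?_⟩
  · have h := f.ker.card_mul_index
    rw [Subgroup.index_ker, f.range_eq_top_of_surjective hfs, Subgroup.card_top,
      Nat.card_eq_fintype_card (α := Q8), QuaternionGroup.card, hcp] at h
    omega
  · intro x hx
    induction x using QuotientGroup.induction_on with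
    | _ g =>
      obtain ⟨e, rfl⟩ := (hπk g).1 hx
      rw [← QuotientGroup.mk_pow, QuotientGroup.eq_one_iff, Subgroup.mem_center_iff]
      intro y
      apply hext
      obtain ⟨c, hc⟩ := eMat_cube e
      have hm : ((ge e ^ 3).1 : Matrix (Fin 3) (Fin 3) F) = val w c • 1 := by
        rw [show ge e ^ 3 = ge e * (ge e * ge e) by rw [pow_succ, pow_two, mul_assoc], hmul, hmul, hge, ← toMat_mul hw h2, ← toMat_mul hw h2, hc]
        ext i j
        fin_cases i <;> fin_cases j <;> simp [toMat, val]
      rw [hmul, hmul, hm, Matrix.mul_smul, Matrix.smul_mul, Matrix.mul_one, Matrix.one_mul]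

end Cfsg.Lib.H3.UnitaryThreeTwo
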