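import Cfsg.Agent.Lib.Concrete.OrbitFacts
import Cfsg.Agent.Lib.Concrete.Classes

/-!
Subgroups of M24 given by complete lists of packed permutations.
-/

set_option autoImplicit false

namespace Cfsg.Lib.H3.PermList

open Cfsg.Lib.Concrete
open scoped Pointwise

/-- A packed permutation of M24 fixing the given masks. -/
def okIn (ms : List ℕ) (p : ℕ) : Bool :=
  bits24.all (fun i => decide (pget p i < 24)) && decide ((bits24.map (pget p)).Nodup) &&
  basisMasks.all (fun b => isCode (pimg p b) && decide (pimg p b < 16777216)) &&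
  ms.all fun m => Nat.beq (pimg p m) m

theorem exists_in {ms : List ℕ} {p : ℕ} (h : okIn ms p = true) : ∃ g ∈ stabMasks ms, Rep g p := by
  simp only [okIn, Bool.and_eq_true, decide_eq_true_eq, List.all_eq_true, Nat.beq_eq] at h
  obtain ⟨⟨⟨hlt, hnd⟩, hcode⟩, hms⟩ := h
  let f : GolayPt → GolayPt := fun x => gpt (Fin.ofNat 24 (pget p (gidx x).val))
  have hf : ∀ x, (gidx (f x)).val = pget p (gidx x).val := fun x => by
    simp only [f, gidx_gpt]
    exact Nat.mod_eq_of_lt (hlt _ (mem_bits24.2 (gidx x).isLt))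
  have hinj : Function.Injective f := by
    intro x y hxy
    have h' : pget p (gidx x).val = pget p (gidx y).val := by rw [← hf, ← hf, hxy]
    exact gidx_injective (Fin.ext (List.inj_on_of_nodup_map hnd (mem_bits24.2 (gidx x).isLt)
      (mem_bits24.2 (gidx y).isLt) h'))
  let g : Equiv.Perm GolayPt := Equiv.ofBijective f (Finite.injective_iff_bijective.1 hinj)
  have hrep : Rep g p := hf
  refine ⟨g, ⟨rep_mem_M24 hrep (List.all_eq_true.2 fun b hb => ?_), fun m hm => ?_⟩, hrep⟩
  · simp only [Bool.and_eq_true, decide_eq_true_eq]; exact hcode b hb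
  · rw [hrep.smul_mset, hms m hm]

/-- The packed permutations of a list are pairwise different. -/
def sepList (L : List ℕ) : Bool :=
  L.all fun a => L.all fun b => Nat.beq a b || bits24.any (fun i => !(Nat.beq (pget a i) (pget b i)))

theorem rep_unique {L : List ℕ} (hsep : sepList L = true) {g : Equiv.Perm GolayPt} {p q : ℕ} (hp : p ∈ L)
    (hq : q ∈ L) (h1 : Rep g p) (h2 : Rep g q) : p = q := by
  have := List.all_eq_true.1 (List.all_eq_true.1 hsep p hp) q hq
  rw [Bool.or_eq_true, Nat.beq_eq] at this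
  refine this.resolve_right fun h => ?_
  obtain ⟨i, hi, hne⟩ := List.any_eq_true.1 h
  have e1 := h1.apply ⟨i, mem_bits24.1 hi⟩
  have e2 := h2.apply ⟨i, mem_bits24.1 hi⟩
  rw [e1] at e2
  simp [e2] at hne

/-- A list of the right length exhausts the subgroup. -/
theorem complete {K : Subgroup (Equiv.Perm GolayPt)} {L : List ℕ} (hex : ∀ p ∈ L, ∃ g ∈ K, Rep g p)
    (hsep : sepList L = true) (hn : L.Nodup) (hcard : Nat.card K = L.length) :
    ∀ g ∈ K, ∃ p ∈ L, Rep g p := by
  choose F hF hR using hex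
  have hbij : Function.Bijective (fun p : {p // p ∈ L.toFinset} =>
      (⟨F p.1 (List.mem_toFinset.1 p.2), hF _ _⟩ : K)) := by
    rw [Nat.bijective_iff_injective_and_card]
    refine ⟨fun p q h => Subtype.ext ?_, ?_⟩
    · have e : F p.1 (List.mem_toFinset.1 p.2) = F q.1 (List.mem_toFinset.1 q.2) := congrArg Subtype.val h
      have h1 := hR p.1 (List.mem_toFinset.1 p.2)
      rw [e] at h1
      exact rep_unique hsep (List.mem_toFinset.1 p.2) (List.mem_toFinset.1 q.2) h1 (hR _ _)
    · rw [Nat.card_eq_fintype_card, Fintype.card_coe, List.toFinset_card_of_nodup hn, hcard]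
  intro g hg
  obtain ⟨p, hp⟩ := hbij.2 ⟨g, hg⟩
  have e : F p.1 (List.mem_toFinset.1 p.2) = g := congrArg Subtype.val hp
  exact ⟨p.1, List.mem_toFinset.1 p.2, e ▸ hR _ (List.mem_toFinset.1 p.2)⟩

theorem pow_eq_one_iff {g : Equiv.Perm GolayPt} {p : ℕ} (hg : Rep g p) (n : ℕ) :
    g ^ n = 1 ↔ (bits24.all fun i => Nat.beq (piter p n i) i) = true := by
  simp only [List.all_eq_true, Nat.beq_eq]
  constructor
  · intro h i hi
    have := piter_eq hg n (gpt ⟨i, mem_bits24.1 hi⟩)
    rw [h, Equiv.Perm.one_apply, gidx_gpt] at this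
    exact this.symm
  · intro h
    refine Equiv.ext fun x => gidx_injective (Fin.ext ?_)
    rw [piter_eq hg, h _ (mem_bits24.2 (gidx x).isLt), Equiv.Perm.one_apply]

/-- Number of elements killed by `n`. -/
theorem card_killed {K : Subgroup (Equiv.Perm GolayPt)} {L : List ℕ} (hex : ∀ p ∈ L, ∃ g ∈ K, Rep g p)
    (hsep : sepList L = true) (hn : L.Nodup) (hcard : Nat.card K = L.length) (n : ℕ) :
    Nat.card {g : K // g ^ n = 1} =
      (L.filter fun p => bits24.all fun i => Nat.beq (piter p n i) i).length := by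
  have hall := complete hex hsep hn hcard
  choose F hF hR using hex
  rw [← List.toFinset_card_of_nodup (hn.filter _), ← Fintype.card_coe, ← Nat.card_eq_fintype_card]
  refine (Nat.card_congr (Equiv.ofBijective (fun p : {p // p ∈ (L.filter fun p =>
    bits24.all fun i => Nat.beq (piter p n i) i).toFinset} =>
      (⟨⟨F p.1 (List.mem_filter.1 (List.mem_toFinset.1 p.2)).1, hF _ _⟩, Subtype.ext (by
        rw [SubmonoidClass.coe_pow, Subgroup.coe_one]
        exact (pow_eq_one_iff (hR _ _) n).2 (List.mem_filter.1 (List.mem_toFinset.1 p.2)).2)⟩ :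
        {g : K // g ^ n = 1})) ⟨fun p q h => Subtype.ext ?_, fun g => ?_⟩)).symm
  · have hp := (List.mem_filter.1 (List.mem_toFinset.1 p.2)).1
    have hq := (List.mem_filter.1 (List.mem_toFinset.1 q.2)).1
    have e : F p.1 hp = F q.1 hq := congrArg (fun g : {g : K // g ^ n = 1} => (g.1 : Equiv.Perm GolayPt)) h
    have h1 := hR p.1 hp
    rw [e] at h1
    exact rep_unique hsep hp hq h1 (hR _ _)
  · obtain ⟨p, hp, hr⟩ := hall g.1.1 g.1.2
    have hk : (bits24.all fun i => Nat.beq (piter p n i) i) = true :=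
      (pow_eq_one_iff hr n).1 (by rw [← SubmonoidClass.coe_pow, g.2, Subgroup.coe_one])
    exact ⟨⟨p, List.mem_toFinset.2 (List.mem_filter.2 ⟨hp, hk⟩)⟩, Subtype.ext (Subtype.ext ((hR p hp).ext hr))⟩

end Cfsg.Lib.H3.PermList

namespace Cfsg.Lib.H3.PermList

open Cfsg.Lib.Concrete

/-- The order of a subgroup listed completely. -/
theorem card_of_list {K : Subgroup (Equiv.Perm GolayPt)} {L : List ℕ} (hex : ∀ p ∈ L, ∃ g ∈ K, Rep g p)
    (hall : ∀ g ∈ K, ∃ p ∈ L, Rep g p) (hsep : sepList L = true) (hn : L.Nodup) : Nat.card K = L.length := by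
  choose F hF hR using hex
  rw [← List.toFinset_card_of_nodup hn, ← Fintype.card_coe, ← Nat.card_eq_fintype_card]
  refine (Nat.card_congr (Equiv.ofBijective (fun p : {p // p ∈ L.toFinset} =>
    (⟨F p.1 (List.mem_toFinset.1 p.2), hF _ _⟩ : K)) ⟨fun p q h => Subtype.ext ?_, fun g => ?_⟩)).symm
  · have e : F p.1 (List.mem_toFinset.1 p.2) = F q.1 (List.mem_toFinset.1 q.2) := congrArg Subtype.val h
    have h1 := hR p.1 (List.mem_toFinset.1 p.2)
    rw [e] at h1
    exact rep_unique hsep (List.mem_toFinset.1 p.2) (List.mem_toFinset.1 q.2) h1 (hR _ _)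
  · obtain ⟨p, hp, hr⟩ := hall g.1 g.2
    exact ⟨⟨p, List.mem_toFinset.2 hp⟩, Subtype.ext ((hR p hp).ext hr)⟩

/-- Two packed permutations compose in both orders alike. -/
def commCheck (p q : ℕ) : Bool := bits24.all fun i => Nat.beq (pget p (pget q i)) (pget q (pget p i))

theorem comm_iff {g h : Equiv.Perm GolayPt} {p q : ℕ} (hg : Rep g p) (hh : Rep h q) :
    g * h = h * g ↔ commCheck p q = true := by
  rw [commCheck, List.all_eq_true]
  simp only [Nat.beq_eq]
  constructor
  · intro e i hi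
    have h1 := congrArg (fun z : Equiv.Perm GolayPt => (gidx (z (gpt ⟨i, mem_bits24.1 hi⟩))).val) e
    simp only [Equiv.Perm.mul_apply] at h1
    rwa [hg, hh.apply, hh, hg.apply] at h1
  · intro hall
    refine Equiv.ext fun x => gidx_injective (Fin.ext ?_)
    rw [Equiv.Perm.mul_apply, Equiv.Perm.mul_apply, hg, hh, hh, hg]
    exact hall _ (mem_bits24.2 (gidx x).isLt)

end Cfsg.Lib.H3.PermList
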