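import Cfsg.Agent.Lib.Linear.OrthSimple
import Cfsg.Agent.Lib.Linear.OrthSpinor
import Cfsg.Agent.Lib.Linear.OrthStdBasis
import Cfsg.Prelude.Def_LieTypeDatum

/-!
# The conformal orthogonal group modulo the special orthogonal group, inside `Aut PΩ`
-/

set_option autoImplicit false

namespace Cfsg.Lib.H3

open Module Cfsg.Lib.Linear.Orth
open scoped Matrix

universe u

variable {ι : Type} [Fintype ι] [DecidableEq ι] {F : Type u} [Field F]
  {Q : (ι → F) → F} {B : LinearMap.BilinForm F (ι → F)}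

theorem conj_mem_iso {g x : GL ι F} (hg : g ∈ Cfsg.Geo.quadSimilarityGroup Q)
    (hx : x ∈ isometryGroup F Q) : g * x * g⁻¹ ∈ isometryGroup F Q := by
  obtain ⟨c, hc⟩ := hg
  rw [mem_iso] at hx ⊢
  intro v
  rw [mul_act, mul_act, hc, hx, ← hc, act_inv]

/-- Conjugation by a similarity on the isometry group. -/
def simIso (g : ↥(Cfsg.Geo.quadSimilarityGroup (F := F) Q)) :
    ↥(isometryGroup F Q) ≃* ↥(isometryGroup F Q) where
  toFun x := ⟨(g : GL ι F) * x * (g : GL ι F)⁻¹, conj_mem_iso g.2 x.2⟩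
  invFun x := ⟨(g : GL ι F)⁻¹ * x * (g : GL ι F), by
    simpa using conj_mem_iso (inv_mem g.2) x.2⟩
  left_inv x := Subtype.ext (by simp [mul_assoc])
  right_inv x := Subtype.ext (by simp [mul_assoc])
  map_mul' x y := Subtype.ext (by simp [mul_assoc])

theorem simIso_map_omega (g : ↥(Cfsg.Geo.quadSimilarityGroup (F := F) Q)) :
    (Cfsg.Omega F Q).map (simIso g).toMonoidHom = Cfsg.Omega F Q := by
  show (commutator ↥(isometryGroup F Q)).map _ = commutator ↥(isometryGroup F Q)
  rw [_root_.commutator_def, Subgroup.map_commutator,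
    Subgroup.map_top_of_surjective _ (simIso g).surjective]

/-- Conjugation by a similarity on `Ω`. -/
def simOmega (g : ↥(Cfsg.Geo.quadSimilarityGroup (F := F) Q)) :
    ↥(Cfsg.Omega F Q) ≃* ↥(Cfsg.Omega F Q) :=
  ((simIso g).subgroupMap (Cfsg.Omega F Q)).trans (MulEquiv.subgroupCongr (simIso_map_omega g))

theorem simOmega_val (g : ↥(Cfsg.Geo.quadSimilarityGroup (F := F) Q)) (s : ↥(Cfsg.Omega F Q)) :
    ((simOmega g s : ↥(isometryGroup F Q)) : GL ι F) =
      (g : GL ι F) * ((s : ↥(isometryGroup F Q)) : GL ι F) * (g : GL ι F)⁻¹ := rfl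

theorem simOmega_center (g : ↥(Cfsg.Geo.quadSimilarityGroup (F := F) Q)) :
    (Subgroup.center ↥(Cfsg.Omega F Q)).map (simOmega g).toMonoidHom =
      Subgroup.center ↥(Cfsg.Omega F Q) := by
  ext x
  constructor
  · rintro ⟨y, hy, rfl⟩
    rw [Subgroup.mem_center_iff]
    intro z
    obtain ⟨w, rfl⟩ := (simOmega g).surjective z
    show simOmega g w * simOmega g y = simOmega g y * simOmega g w
    rw [← map_mul, ← map_mul, Subgroup.mem_center_iff.1 hy w]
  · intro hx
    refine ⟨(simOmega g).symm x, ?_, (simOmega g).apply_symm_apply x⟩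
    rw [SetLike.mem_coe, Subgroup.mem_center_iff]
    intro z
    apply (simOmega g).injective
    rw [map_mul, map_mul, (simOmega g).apply_symm_apply, Subgroup.mem_center_iff.1 hx]

/-- The automorphism of `PΩ` induced by a similarity. -/
def simAut : ↥(Cfsg.Geo.quadSimilarityGroup (F := F) Q) →* MulAut (Cfsg.POmega F Q) where
  toFun g := QuotientGroup.congr _ _ (simOmega g) (simOmega_center g)
  map_one' := MulEquiv.ext fun x => by
    obtain ⟨s, rfl⟩ := QuotientGroup.mk_surjective x
    show QuotientGroup.mk (simOmega 1 s) = QuotientGroup.mk s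
    exact congrArg _ (Subtype.ext (Subtype.ext (by rw [simOmega_val]; simp)))
  map_mul' g h := MulEquiv.ext fun x => by
    obtain ⟨s, rfl⟩ := QuotientGroup.mk_surjective x
    show QuotientGroup.mk (simOmega (g * h) s) = QuotientGroup.mk (simOmega g (simOmega h s))
    exact congrArg _ (Subtype.ext (Subtype.ext (by
      rw [simOmega_val, simOmega_val, simOmega_val]; simp [mul_assoc])))

theorem induced_iff (g : ↥(Cfsg.Geo.quadSimilarityGroup (F := F) Q))
    (β : MulAut (Cfsg.POmega F Q)) :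
    Cfsg.IsInducedBySemilinearPOmega Q (g : GL ι F) (RingEquiv.refl F) β ↔ β = simAut g := by
  constructor
  · intro h
    refine MulEquiv.ext fun x => ?_
    obtain ⟨s, rfl⟩ := QuotientGroup.mk_surjective x
    exact h s (simOmega g s) (by rw [simOmega_val, Units.val_mul, Units.val_mul]; simp)
  · rintro rfl s s' hs
    show QuotientGroup.mk (simOmega g s) = QuotientGroup.mk s'
    exact congrArg _ (Subtype.ext (Subtype.ext (Units.ext (by
      rw [simOmega_val, hs, Units.val_mul, Units.val_mul]; simp))))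

theorem iso_le_sim : isometryGroup F Q ≤ Cfsg.Geo.quadSimilarityGroup (F := F) Q :=
  fun g hg => ⟨1, fun v => by rw [mem_iso.1 hg]; simp⟩

theorem pgoAut_eq : Cfsg.pgoAut F Q = (simAut (F := F) (Q := Q)).range := by
  refine le_antisymm ((Subgroup.closure_le _).2 ?_) ?_
  · rintro β ⟨g, hg, hβ⟩
    exact ⟨⟨g, hg⟩, ((induced_iff ⟨g, hg⟩ β).1 hβ).symm⟩
  · rintro _ ⟨g, rfl⟩
    exact Subgroup.subset_closure ⟨g, g.2, (induced_iff g _).2 rfl⟩

theorem psoAut_eq : Cfsg.psoAut F Q =
    ((Cfsg.specialIsometryGL F Q).subgroupOf (Cfsg.Geo.quadSimilarityGroup Q)).map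
      (simAut (F := F) (Q := Q)) := by
  refine le_antisymm ((Subgroup.closure_le _).2 ?_) ?_
  · rintro β ⟨g, hg, hβ⟩
    exact ⟨⟨g, iso_le_sim hg.1⟩, hg, ((induced_iff ⟨g, iso_le_sim hg.1⟩ β).1 hβ).symm⟩
  · rintro _ ⟨g, hg, rfl⟩
    exact Subgroup.subset_closure ⟨g, hg, (induced_iff g _).2 rfl⟩

theorem omega_perfect [Finite F] (C : Space Q B) (h7 : 7 ≤ Fintype.card ι) :
    commutator ↥(Cfsg.Omega F Q) = ⊤ := by
  have h5 : 5 ≤ Fintype.card ι := by omega
  let f : ↥(Cfsg.Omega F Q) →* GL ι F :=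
    (isometryGroup F Q).subtype.comp (Cfsg.Omega F Q).subtype
  have hf : Function.Injective f := fun a b e => Subtype.ext (Subtype.ext e)
  have hrange : f.range = Root Q B ⊤ := by
    rw [← omegaGL_eq C h5]
    show MonoidHom.range _ = (Cfsg.Omega F Q).map _
    rw [MonoidHom.range_comp, Subgroup.range_subtype]
  refine Subgroup.map_injective hf (le_antisymm (Subgroup.map_mono le_top) ?_)
  rw [_root_.commutator_def, Subgroup.map_commutator, ← MonoidHom.range_eq_map, hrange]
  exact root_le_commutator C h7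

/-- A matrix commuting with the root elements is scalar. -/
theorem scalar_of_comm [Finite F] (C : Space Q B) (h7 : 7 ≤ Fintype.card ι) {g : GL ι F}
    (hg : ∀ r ∈ Root Q B ⊤, g * r = r * g) : ∃ c : F, ∀ x, g.val *ᵥ x = c • x := by
  refine scalar_of_lines C h7 fun e he => ?_
  by_cases he0 : e = 0
  · simp [he0]
  have hker : finrank F (LinearMap.ker (B e)) + 1 ≥ Fintype.card ι := by
    have h := finrank_inf_ker_ge (F := F) (⊤ : Submodule F (ι → F)) (B e)
    rw [top_inf_eq, finrank_top, finrank_fintype_fun_eq_card] at h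
    exact h
  -- `g e` lies in every plane `⟨e, a⟩` with `a ⊥ e`
  have step : ∀ a, B e a = 0 → a ∉ Submodule.span F {e} →
      g.val *ᵥ e ∈ Submodule.span F {e, a} := by
    intro a ha hae
    obtain ⟨x, hex, hax⟩ : ∃ x, B e x = 0 ∧ B a x ≠ 0 := by
      by_contra hno
      push Not at hno
      obtain ⟨u, hu⟩ := C.exists_pair he0
      refine hae (Submodule.mem_span_singleton.2 ⟨B a u, ?_⟩)
      refine (sub_eq_zero.1 (C.nondeg' fun v => ?_)).symm
      have h3 := hno (v - B e v • u) (by rw [map_sub, map_smul, hu, smul_eq_mul, mul_one, sub_self])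
      rw [map_sub, map_smul, smul_eq_mul, sub_eq_zero] at h3
      rw [map_sub, map_smul, LinearMap.sub_apply, LinearMap.smul_apply, h3, smul_eq_mul]
      ring
    have hr := hg _ (sGL_mem_root trivial trivial he ha)
    have h := congrArg (fun t : GL ι F => t.val *ᵥ x) hr
    simp only [mul_act] at h
    rw [sGL_act C he ha, sGL_act C he ha, hex] at h
    simp only [zero_smul, mul_zero, add_zero, sub_zero, Matrix.mulVec_add, Matrix.mulVec_sub,
      Matrix.mulVec_smul] at h
    have h' : B a x • (g.val *ᵥ e) ∈ Submodule.span F {e, a} :=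
      Submodule.mem_span_pair.2 ⟨B a (g.val *ᵥ x) + Q a * B e (g.val *ᵥ x), -B e (g.val *ᵥ x), by
        linear_combination (norm := module) h⟩
    simpa [hax] using (Submodule.span F {e, a}).smul_mem (B a x)⁻¹ h'
  obtain ⟨a, ha, hae⟩ : ∃ a, B e a = 0 ∧ a ∉ Submodule.span F {e} := by
    by_contra hno
    push Not at hno
    have := Submodule.finrank_mono (fun a ha => hno a (LinearMap.mem_ker.1 ha) :
      LinearMap.ker (B e) ≤ Submodule.span F {e})
    rw [finrank_span_singleton he0] at this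
    omega
  obtain ⟨b, hb, hbea⟩ : ∃ b, B e b = 0 ∧ b ∉ Submodule.span F {e, a} := by
    by_contra hno
    push Not at hno
    have := Submodule.finrank_mono (fun b hb => hno b (LinearMap.mem_ker.1 hb) :
      LinearMap.ker (B e) ≤ Submodule.span F {e, a})
    have := finrank_span_pair_le (F := F) e a
    omega
  have h1 := Submodule.mem_span_pair.1 (step a ha hae)
  have h2 := Submodule.mem_span_pair.1 (step b hb (fun h => hbea
    (Submodule.span_mono (Set.singleton_subset_iff.2 (Set.mem_insert _ _)) h)))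
  obtain ⟨p, q, hpq⟩ := h1
  obtain ⟨r, s, hrs⟩ := h2
  have hs : s = 0 := by
    by_contra hs
    refine hbea (Submodule.mem_span_pair.2 ⟨s⁻¹ * (p - r), s⁻¹ * q, ?_⟩)
    have : s • b = (p - r) • e + q • a := by linear_combination (norm := module) hrs - hpq
    rw [mul_smul, mul_smul, ← smul_add, ← this, inv_smul_smul₀ hs]
  rw [← hrs, hs, zero_smul, add_zero]
  exact Submodule.smul_mem _ _ (Submodule.mem_span_singleton_self e)

theorem simAut_ker [Finite F] (C : Space Q B) (h7 : 7 ≤ Fintype.card ι)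
    {g : ↥(Cfsg.Geo.quadSimilarityGroup (F := F) Q)} (hg : simAut g = 1) :
    ∃ c : F, ∀ x, (g : GL ι F).val *ᵥ x = c • x := by
  have hz : ∀ s, s⁻¹ * simOmega g s ∈ Subgroup.center ↥(Cfsg.Omega F Q) := fun s => by
    rw [← QuotientGroup.eq]
    exact (congrArg (fun β : MulAut (Cfsg.POmega F Q) => β (QuotientGroup.mk s)) hg).symm
  let z : ↥(Cfsg.Omega F Q) →* ↥(Subgroup.center ↥(Cfsg.Omega F Q)) :=
    MonoidHom.mk' (fun s => ⟨s⁻¹ * simOmega g s, hz s⟩) (fun s t => Subtype.ext (by
      show (s * t)⁻¹ * simOmega g (s * t) = s⁻¹ * simOmega g s * (t⁻¹ * simOmega g t)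
      rw [map_mul, mul_inv_rev, ← mul_assoc, mul_assoc t⁻¹,
        Subgroup.mem_center_iff.1 (hz s) t⁻¹]
      simp [mul_assoc]))
  have hz1 : z = 1 := by
    rw [← MonoidHom.ker_eq_top_iff, eq_top_iff, ← omega_perfect C h7, _root_.commutator_def,
      Subgroup.commutator_le]
    intro a _ b _
    rw [MonoidHom.mem_ker, map_commutatorElement, commutatorElement_eq_one_iff_mul_comm]
    exact Subtype.ext (Subgroup.mem_center_iff.1 (z b).2 (z a : ↥(Cfsg.Omega F Q)))
  refine scalar_of_comm C h7 fun r hr => ?_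
  rw [← omegaGL_eq C (by omega)] at hr
  obtain ⟨y, hy, rfl⟩ := hr
  have h := congrArg Subtype.val (DFunLike.congr_fun hz1 ⟨y, hy⟩)
  change (⟨y, hy⟩ : ↥(Cfsg.Omega F Q))⁻¹ * simOmega g ⟨y, hy⟩ = 1 at h
  rw [inv_mul_eq_one] at h
  have h' := congrArg (fun t : ↥(Cfsg.Omega F Q) => ((t : ↥(isometryGroup F Q)) : GL ι F)) h
  simp only [simOmega_val] at h'
  exact (eq_mul_inv_iff_mul_eq.1 h').symm

/-- `PGO / PSO` is a four-group in even dimension and odd characteristic. -/
theorem pgo_mod_pso [Fintype F] (C : Space Q B) (hodd : (2 : F) ≠ 0) {k : ℕ}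
    (hcard : Fintype.card ι = 2 * k) (h7 : 7 ≤ Fintype.card ι)
    (hsim : ∀ c : F, c ≠ 0 → ∃ g : GL ι F, ∀ v, Q (g.val *ᵥ v) = c * Q v) :
    ∃ φ : ↥(Cfsg.pgoAut F Q) →* Multiplicative (ZMod 2 × ZMod 2), Function.Surjective φ ∧
      φ.ker = (Cfsg.psoAut F Q).subgroupOf (Cfsg.pgoAut F Q) := by
  classical
  obtain ⟨v0, -, hv0⟩ := exists_nonsing C C.ndeg_top (fun h => by
    have := congrArg (fun U : Submodule F (ι → F) => finrank F U) h
    simp [finrank_fintype_fun_eq_card] at this
    omega)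
  let S := Cfsg.Geo.quadSimilarityGroup (F := F) Q
  choose μ0 hμ0 using fun g : ↥S => g.2
  have hμu : ∀ (g : ↥S) (c : F), (∀ v, Q ((g : GL ι F).val *ᵥ v) = c * Q v) → (μ0 g : F) = c :=
    fun g c h => mul_right_cancel₀ hv0 ((hμ0 g v0).symm.trans (h v0))
  let μ : ↥S →* Fˣ := MonoidHom.mk' μ0 (fun g h => Units.ext (hμu _ _ fun v => by
    rw [Subgroup.coe_mul, mul_act, hμ0, hμ0, Units.val_mul, mul_assoc]))
  let D : ↥S →* Fˣ :=
    (Matrix.GeneralLinearGroup.det.comp S.subtype) * (μ ^ k)⁻¹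
  -- discriminant comparison
  have hdet : ∀ g : ↥S, ((g : GL ι F).val.det) ^ 2 = ((μ0 g : F)) ^ (2 * k) := by
    intro g
    let M : Matrix ι ι F := Matrix.of fun i j => B (Pi.single i 1) (Pi.single j 1)
    have hM : M.det ≠ 0 := by
      intro h0
      obtain ⟨v, hv, hMv⟩ := Matrix.exists_mulVec_eq_zero_iff.2 h0
      refine hv (C.nondeg v fun u => ?_)
      have e : v = ∑ j, v j • (Pi.single j 1 : ι → F) := pi_eq_sum_univ' v
      have hi : ∀ i, B (Pi.single i 1) v = 0 := fun i => by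
        have := congrFun hMv i
        rw [e, map_sum]
        simp only [map_smul, smul_eq_mul]
        simpa [M, Matrix.mulVec, dotProduct, mul_comm] using this
      rw [show u = ∑ j, u j • (Pi.single j 1 : ι → F) from pi_eq_sum_univ' u, map_sum,
        LinearMap.sum_apply]
      exact Finset.sum_eq_zero fun j _ => by rw [map_smul, LinearMap.smul_apply, hi, smul_zero]
    have hB : ∀ u v, B ((g : GL ι F).val *ᵥ u) ((g : GL ι F).val *ᵥ v) = (μ0 g : F) * B u v := by
      intro u v
      rw [← C.polar, ← C.polar, QuadraticMap.polar, QuadraticMap.polar, ← Matrix.mulVec_add, hμ0, hμ0,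
        hμ0]
      ring
    set A := (g : GL ι F).val with hA
    have hmat : A.transpose * M * A = (μ0 g : F) • M := by
      ext i j
      rw [Matrix.smul_apply, smul_eq_mul, show M i j = B (Pi.single i 1) (Pi.single j 1) from rfl,
        ← hB, Matrix.mulVec_single_one, Matrix.mulVec_single_one,
        show A.col i = ∑ a, A a i • (Pi.single a 1 : ι → F) from pi_eq_sum_univ' (A.col i),
        show A.col j = ∑ b, A b j • (Pi.single b 1 : ι → F) from pi_eq_sum_univ' (A.col j),
        ]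
      simp only [map_sum, LinearMap.sum_apply, map_smul, LinearMap.smul_apply, smul_eq_mul, Matrix.mul_apply,
        Matrix.transpose_apply, Finset.sum_mul, Finset.mul_sum]
      refine Finset.sum_congr rfl fun a _ => Finset.sum_congr rfl fun b _ => ?_
      show _ = _
      simp only [M, Matrix.of_apply]
      ring
    have h := congrArg Matrix.det hmat
    rw [Matrix.det_mul, Matrix.det_mul, Matrix.det_transpose, Matrix.det_smul, hcard] at h
    refine mul_right_cancel₀ hM ?_
    linear_combination h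
  have hD2 : ∀ g, D g ^ 2 = 1 := fun g => Units.ext (by
    show ((((g : GL ι F).val.det)) * ((μ g ^ k)⁻¹ : Fˣ).val) ^ 2 = 1
    rw [mul_pow, hdet, pow_mul', ← mul_pow, ← Units.val_pow_eq_pow_val]
    show ((μ0 g ^ k : Fˣ).val * ((μ0 g ^ k)⁻¹ : Fˣ).val) ^ 2 = 1
    rw [Units.mul_inv, one_pow])
  have hchar : ringChar F ≠ 2 := fun hc => hodd (by
    haveI := ringChar.charP F
    have := CharP.cast_eq_zero F (ringChar F)
    rw [hc] at this
    exact_mod_cast this)
  let E : ↥S →* Fˣ := μ ^ (Fintype.card F / 2)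
  have hE2 : ∀ g, E g ^ 2 = 1 := fun g => by
    show (μ0 g ^ (Fintype.card F / 2)) ^ 2 = 1
    have hq := FiniteField.odd_card_of_char_ne_two hchar
    rw [← pow_mul, show Fintype.card F / 2 * 2 = Fintype.card F - 1 by
      omega, ← Fintype.card_units, pow_card_eq_one]
  have hne : (-1 : Fˣ) ≠ 1 := fun e => hodd (by
    have e' : (-1 : F) = 1 := by simpa using congrArg Units.val e
    linear_combination -e')
  let f : Fˣ → ZMod 2 := fun u => if u = 1 then 0 else 1
  have hsq : ∀ u : Fˣ, u ^ 2 = 1 → u = 1 ∨ u = -1 := fun u hu => by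
    have h : (u : F) * u = 1 := by rw [← pow_two, ← Units.val_pow_eq_pow_val, hu, Units.val_one]
    rcases mul_self_eq_one_iff.1 h with h | h
    · exact Or.inl (Units.ext h)
    · exact Or.inr (Units.ext h)
  have hfadd : ∀ u v : Fˣ, u ^ 2 = 1 → v ^ 2 = 1 → f (u * v) = f u + f v := by
    intro u v hu hv
    rcases hsq u hu with rfl | rfl <;> rcases hsq v hv with rfl | rfl <;>
      simp [f, hne, show (1 : ZMod 2) + 1 = 0 from by decide]
  let χ : ↥S →* Multiplicative (ZMod 2 × ZMod 2) := MonoidHom.mk'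
    (fun g => Multiplicative.ofAdd (f (E g), f (D g))) (fun g h => by
      rw [map_mul, map_mul, hfadd _ _ (hE2 g) (hE2 h), hfadd _ _ (hD2 g) (hD2 h), ← ofAdd_add]
      rfl)
  have hχ : ∀ g, χ g = 1 ↔ E g = 1 ∧ D g = 1 := fun g => by
    show Multiplicative.ofAdd (f (E g), f (D g)) = 1 ↔ _
    rw [ofAdd_eq_one, Prod.mk_eq_zero]
    simp only [f]
    constructor
    · rintro ⟨h1, h2⟩
      constructor
      · by_contra h; simp [h] at h1
      · by_contra h; simp [h] at h2
    · rintro ⟨h1, h2⟩; simp [h1, h2]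
  -- scalars
  have hscal : ∀ g : ↥S, simAut g = 1 → χ g = 1 := by
    intro g hg
    obtain ⟨c, hc⟩ := simAut_ker C h7 hg
    have hmc : (μ0 g : F) = c * c := hμu g _ fun v => by rw [hc, C.smul, sq]
    have hc0 : c ≠ 0 := fun h0 => (μ0 g).ne_zero (by rw [hmc, h0, mul_zero])
    have hAc : (g : GL ι F).val = c • (1 : Matrix ι ι F) := mat_ext fun x => by
      rw [hc, Matrix.smul_mulVec, Matrix.one_mulVec]
    rw [hχ]
    constructor
    · refine Units.ext ?_
      show ((μ0 g ^ (Fintype.card F / 2) : Fˣ) : F) = 1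
      rw [Units.val_pow_eq_pow_val, hmc,
        (FiniteField.isSquare_iff hchar (mul_ne_zero hc0 hc0)).1 ⟨c, rfl⟩]
    · refine Units.ext ?_
      show (g : GL ι F).val.det * ((μ0 g ^ k)⁻¹ : Fˣ).val = 1
      rw [hAc, Matrix.det_smul, Matrix.det_one, mul_one, hcard, Units.val_inv_eq_inv_val,
        Units.val_pow_eq_pow_val, hmc, pow_mul, sq, mul_inv_cancel₀]
      exact pow_ne_zero k (mul_ne_zero hc0 hc0)
  have hlift : ∀ β : ↥(Cfsg.pgoAut F Q), ∃ g : ↥S, simAut g = (β : MulAut (Cfsg.POmega F Q)) :=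
    fun β => by
      exact MonoidHom.mem_range.1 ((SetLike.ext_iff.1 pgoAut_eq _).1 β.2)
  choose l hl using hlift
  have hwd : ∀ g h : ↥S, simAut g = simAut h → χ g = χ h := fun g h e => by
    have h1 := hscal (h⁻¹ * g) (by rw [map_mul, map_inv, e, inv_mul_cancel])
    rwa [map_mul, map_inv, inv_mul_eq_one, eq_comm] at h1
  let φ : ↥(Cfsg.pgoAut F Q) →* Multiplicative (ZMod 2 × ZMod 2) :=
    MonoidHom.mk' (fun β => χ (l β)) (fun β γ => by
      rw [← map_mul]
      exact hwd _ _ (by rw [map_mul, hl, hl, hl, Subgroup.coe_mul]))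
  have hφ : ∀ g : ↥S, φ ⟨simAut g, by rw [pgoAut_eq]; exact ⟨g, rfl⟩⟩ = χ g := fun g =>
    hwd _ _ (hl _)
  refine ⟨φ, ?_, ?_⟩
  · -- surjective
    obtain ⟨α, hα⟩ := FiniteField.exists_nonsquare hchar
    have hα0 : α ≠ 0 := fun h => hα (h ▸ ⟨0, (mul_zero 0).symm⟩)
    obtain ⟨s0, hs0⟩ := hsim α hα0
    let s : ↥S := ⟨s0, ⟨Units.mk0 α hα0, hs0⟩⟩
    let r : ↥S := ⟨rGL Q v0, iso_le_sim (rGL_mem C hv0)⟩
    have hμs : (μ0 s : F) = α := hμu s α hs0
    have hμr : μ0 r = 1 := Units.ext (hμu r 1 fun v => by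
      rw [one_mul]; exact mem_iso.1 (rGL_mem C hv0) v)
    have hEs : E s ≠ 1 := fun h => hα ((FiniteField.isSquare_iff hchar hα0).2 (by
      have := congrArg Units.val h
      rw [show E s = μ0 s ^ (Fintype.card F / 2) from rfl, Units.val_pow_eq_pow_val, hμs] at this
      exact this))
    have hEr : E r = 1 := by rw [show E r = μ0 r ^ (Fintype.card F / 2) from rfl, hμr, one_pow]
    have hDr : D r ≠ 1 := fun h => hne (by
      refine (Units.ext ?_ : (-1 : Fˣ) = D r).trans h
      show ((-1 : Fˣ) : F) = (r : GL ι F).val.det * ((μ0 r ^ k)⁻¹ : Fˣ).val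
      rw [hμr, one_pow, inv_one, Units.val_one, mul_one, Units.val_neg, Units.val_one]
      exact (rGL_det C hv0).symm)
    intro t
    obtain ⟨g, hg⟩ : ∃ g : ↥S, χ g = t := by
      have e1 : χ r = Multiplicative.ofAdd (0, 1) := by
        show Multiplicative.ofAdd (f (E r), f (D r)) = _
        simp [f, hEr, hDr]
      have e2 : Multiplicative.toAdd (χ s) = (1, f (D s)) := by
        show (f (E s), f (D s)) = _
        simp [f, hEs]
      obtain ⟨⟨x, y⟩, rfl⟩ := Multiplicative.ofAdd.surjective t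
      refine ⟨s ^ x.val * r ^ (y - x * f (D s)).val, Multiplicative.toAdd.injective ?_⟩
      rw [map_mul, map_pow, map_pow, toAdd_mul, toAdd_pow, toAdd_pow, e1, e2, toAdd_ofAdd, toAdd_ofAdd]
      simp only [Prod.smul_mk, Prod.mk_add_mk, nsmul_eq_mul, ZMod.natCast_val, ZMod.cast_id', id_eq,
        mul_zero, mul_one, add_zero]
      exact Prod.ext rfl (by ring)
    exact ⟨_, (hφ g).trans hg⟩
  · ext β
    rw [MonoidHom.mem_ker, Subgroup.mem_subgroupOf, psoAut_eq]
    constructor
    · intro h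
      obtain ⟨hE, hD⟩ := (hχ _).1 (show χ (l β) = 1 from h)
      obtain ⟨c, hc⟩ := (FiniteField.isSquare_iff hchar (μ0 (l β)).ne_zero).2 (by
        have := congrArg Units.val hE
        rw [show E (l β) = μ0 (l β) ^ (Fintype.card F / 2) from rfl, Units.val_pow_eq_pow_val] at this
        exact this)
      have hc0 : c ≠ 0 := fun h0 => (μ0 (l β)).ne_zero (by rw [hc, h0, mul_zero])
      let z : GL ι F := Units.map (Matrix.scalar ι).toMonoidHom (Units.mk0 c hc0)⁻¹
      have hz : ∀ x, z.val *ᵥ x = c⁻¹ • x := fun x => by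
        show Matrix.scalar ι ((Units.mk0 c hc0)⁻¹ : Fˣ).val *ᵥ x = _
        rw [Units.val_inv_eq_inv_val, Units.val_mk0, Matrix.scalar_apply, ← Matrix.smul_one_eq_diagonal,
          Matrix.smul_mulVec, Matrix.one_mulVec]
      have hzS : z ∈ S := ⟨(Units.mk0 c hc0)⁻¹ ^ 2, fun v => by
        rw [hz, C.smul]; simp⟩
      refine ⟨⟨z, hzS⟩ * l β, ⟨?_, ?_⟩, ?_⟩
      · refine mem_iso.2 fun v => ?_
        show Q ((z * (l β : GL ι F)).val *ᵥ v) = Q v
        rw [mul_act, hz, C.smul, hμ0, hc]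
        field_simp
      · show Matrix.GeneralLinearGroup.det (z * (l β : GL ι F)) = 1
        refine Units.ext ?_
        have hD' := congrArg Units.val hD
        change (l β : GL ι F).val.det * ((μ0 (l β) ^ k)⁻¹ : Fˣ).val = 1 at hD'
        rw [Units.val_inv_eq_inv_val, Units.val_pow_eq_pow_val, hc] at hD'
        rw [map_mul, Units.val_mul, Matrix.GeneralLinearGroup.val_det_apply,
          Matrix.GeneralLinearGroup.val_det_apply, Units.val_one]
        rw [show z.val = c⁻¹ • (1 : Matrix ι ι F) from mat_ext fun x => by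
          rw [hz, Matrix.smul_mulVec, Matrix.one_mulVec], Matrix.det_smul, Matrix.det_one, hcard,
          mul_one, pow_mul, ← hD', sq, ← inv_pow, mul_inv, mul_comm]
      · rw [map_mul, hl]
        have : simAut (⟨z, hzS⟩ : ↥S) = 1 := MulEquiv.ext fun x => by
          obtain ⟨s, rfl⟩ := QuotientGroup.mk_surjective x
          show QuotientGroup.mk (simOmega _ s) = QuotientGroup.mk s
          refine congrArg _ (Subtype.ext (Subtype.ext ?_))
          rw [simOmega_val, mul_inv_eq_iff_eq_mul]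
          exact gl_ext fun x => by rw [mul_act, mul_act, hz, hz, Matrix.mulVec_smul]
        rw [this, one_mul]
    · rintro ⟨g, hg, hgβ⟩
      show χ (l β) = 1
      rw [hwd (l β) g (by rw [hl, hgβ]), hχ]
      have hμg : μ0 g = 1 := Units.ext (hμu g 1 fun v => by
        rw [one_mul]; exact mem_iso.1 hg.1 v)
      refine ⟨by rw [show E g = μ0 g ^ (Fintype.card F / 2) from rfl, hμg, one_pow], Units.ext ?_⟩
      show (g : GL ι F).val.det * ((μ0 g ^ k)⁻¹ : Fˣ).val = 1
      rw [hμg, one_pow, inv_one, Units.val_one, mul_one]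
      exact congrArg Units.val (MonoidHom.mem_ker.1 hg.2)

end Cfsg.Lib.H3
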