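import Cfsg.Agent.Lib.Concrete.Mathieu
import Cfsg.Agent.Lib.Concrete.M24Fix

/-!
The action of the stabiliser of a dodecad on five of its points.
-/

set_option autoImplicit false

namespace Cfsg.Lib.H3.DodecadTools

open Finset Cfsg.Lib.Concrete
open scoped Pointwise

theorem exists_emb_of_card {s : Finset GolayPt} (h : 5 ≤ s.card) : ∃ x : Fin 5 ↪ GolayPt, ∀ i, x i ∈ s := by
  have h5 : 5 ≤ Fintype.card {p // p ∈ s} := by rwa [Fintype.card_coe]
  exact ⟨((Fin.castLEEmb h5).trans (Fintype.equivFin {p // p ∈ s}).symm.toEmbedding).trans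
    (Function.Embedding.subtype _), fun i => Subtype.prop _⟩

/-- A stabiliser element fixing five points of its dodecad is trivial. -/
theorem eq_one_of_five {d : Finset GolayPt} (hd : d ∈ dodecads) {g : Equiv.Perm GolayPt} (hg : g ∈ M24)
    (hgd : g • d = d) (x : Fin 5 ↪ GolayPt) (hx : ∀ i, x i ∈ d) (hfix : ∀ i, g (x i) = x i) : g = 1 := by
  obtain ⟨k, hk, hkd, hkx⟩ := exists_dodecad_map hd x hx
  have h1 : k⁻¹ * g * k = 1 := by
    refine eq_one_of_fix_dodecad ⟨mul_mem (mul_mem (inv_mem hk) hg) hk, fun j hj => ?_⟩ ?_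
    · rw [Equiv.Perm.mul_apply, Equiv.Perm.mul_apply, hkx ⟨j, hj⟩, hfix ⟨j, hj⟩, ← hkx ⟨j, hj⟩]
      simp
    · rw [mul_smul, mul_smul, hkd, hgd, ← hkd, inv_smul_smul]
  calc g = k * (k⁻¹ * g * k) * k⁻¹ := by group
    _ = 1 := by rw [h1]; group

/-- The stabiliser of a dodecad is transitive on five-tuples of its points. -/
theorem map_five {d : Finset GolayPt} (hd : d ∈ dodecads) (x y : Fin 5 ↪ GolayPt) (hx : ∀ i, x i ∈ d)
    (hy : ∀ i, y i ∈ d) : ∃ g ∈ M24, g • d = d ∧ ∀ i, g (x i) = y i := by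
  obtain ⟨k, hk, hkd, hkx⟩ := exists_dodecad_map hd x hx
  obtain ⟨l, hl, hld, hly⟩ := exists_dodecad_map hd y hy
  refine ⟨l * k⁻¹, mul_mem hl (inv_mem hk), ?_, fun i => ?_⟩
  · nth_rewrite 1 [← hkd]
    rw [mul_smul, inv_smul_smul, hld]
  · rw [Equiv.Perm.mul_apply, ← hkx i]
    simp [hly i]

end Cfsg.Lib.H3.DodecadTools
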