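import Cfsg.Agent.Lib.H3.InndiagMod
import Cfsg.Agent.Lib.Linear.AutPSL.FieldClass
import Cfsg.Agent.Lib.Linear.SingularVectors
import Cfsg.Agent.Lib.H3.OmegaAdjust

/-!
# The classes of involutory graph automorphisms of `PΩ±` under the inner automorphisms
-/

set_option autoImplicit false

namespace Cfsg.Lib.H3.GraphSplit

open Module Cfsg.Lib.Linear.Orth Cfsg.Lib.Linear.AutPO Cfsg.Lib.H3.InndiagMod
open Cfsg.Lib.Linear.Descent (sc sc_val)
open scoped Matrix

set_option quotPrecheck false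

section Group

variable {X : Type*} [Group X]

theorem comm_of_relIndex {D N : Subgroup X} [N.Normal] (h : N.relIndex D = 2 ∨ N.relIndex D = 4)
    {a b : X} (ha : a ∈ D) (hb : b ∈ D) : a * b * a⁻¹ * b⁻¹ ∈ N := by
  have hcard := card_quot D N
  haveI : Fact (Nat.Prime 2) := ⟨Nat.prime_two⟩
  have hc : ∀ x y : ↥D ⧸ N.subgroupOf D, x * y = y * x := by
    rcases h with h | h
    · haveI := isCyclic_of_prime_card (hcard.trans h)
      intro x y
      obtain ⟨g, hg⟩ := IsCyclic.exists_generator (α := ↥D ⧸ N.subgroupOf D)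
      obtain ⟨i, rfl⟩ := hg x
      obtain ⟨j, rfl⟩ := hg y
      show g ^ i * g ^ j = g ^ j * g ^ i
      rw [← zpow_add, ← zpow_add, add_comm]
    · exact IsPGroup.commutative_of_card_eq_prime_sq (p := 2) (hcard.trans h)
  have := hc (QuotientGroup.mk ⟨a, ha⟩) (QuotientGroup.mk ⟨b, hb⟩)
  rw [← QuotientGroup.mk_mul, ← QuotientGroup.mk_mul, eq_comm, QuotientGroup.eq, Subgroup.mem_subgroupOf] at this
  have h2 : (b * a) * ((b * a)⁻¹ * (a * b)) * (b * a)⁻¹ ∈ N := ‹N.Normal›.conj_mem _ (by simpa using this) _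
  simpa [mul_assoc] using h2

/-- The split count inside a subgroup that is abelian modulo `N`. -/
theorem splitClassCount_comm {D N : Subgroup X} [N.Normal] (hN : N ≤ D)
    (hcomm : ∀ a ∈ D, ∀ b ∈ D, a * b * a⁻¹ * b⁻¹ ∈ N) (x : X) :
    Cfsg.splitClassCount D N x = (N ⊔ D ⊓ Subgroup.centralizer {x}).relIndex D := by
  set M := N ⊔ D ⊓ Subgroup.centralizer {x} with hM
  haveI : (M.subgroupOf D).Normal := ⟨fun m hm a => by
    rw [Subgroup.mem_subgroupOf] at hm ⊢
    have h := mul_mem (Subgroup.mem_sup_left (hcomm a a.2 m m.2) : _ ∈ M) hm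
    simpa [mul_assoc] using h⟩
  have h := Cfsg.Lib.Linear.AutPSL.splitClassCount_eq D.subtype N (by rwa [Subgroup.range_subtype]) x
    (QuotientGroup.mk' (M.subgroupOf D)) (QuotientGroup.mk'_surjective _) fun g => by
    rw [QuotientGroup.mk'_apply, QuotientGroup.eq_one_iff, Subgroup.mem_subgroupOf, hM,
      Subgroup.mem_sup_of_normal_left]
    constructor
    · rintro ⟨k, hk, c, hc, e⟩
      exact ⟨k, hk, ⟨c, hc.1⟩, Subgroup.mem_centralizer_singleton_iff.1 hc.2, e.symm⟩
    · rintro ⟨k, hk, c, hc, e⟩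
      exact ⟨k, hk, c, ⟨c.2, Subgroup.mem_centralizer_singleton_iff.2 hc⟩, e.symm⟩
  rwa [Subgroup.range_subtype] at h

end Group

section Endo

variable {F V : Type*} [Field F] [AddCommGroup V] [Module F V] [FiniteDimensional F V]

theorem isCompl_eigen (h2 : (2 : F) ≠ 0) (T : V →ₗ[F] V) (hT : ∀ v, T (T v) = v) :
    IsCompl (LinearMap.ker (T - LinearMap.id)) (LinearMap.ker (T + LinearMap.id)) := by
  constructor
  · rw [Submodule.disjoint_def]
    intro v h1 h1'
    rw [LinearMap.mem_ker, LinearMap.sub_apply, LinearMap.id_apply, sub_eq_zero] at h1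
    rw [LinearMap.mem_ker, LinearMap.add_apply, LinearMap.id_apply, h1, ← two_smul F] at h1'
    exact (smul_eq_zero.1 h1').resolve_left h2
  · rw [codisjoint_iff, eq_top_iff]
    intro v _
    refine Submodule.mem_sup.2 ⟨(2⁻¹ : F) • (v + T v), ?_, (2⁻¹ : F) • (v - T v), ?_, ?_⟩
    · rw [LinearMap.mem_ker, LinearMap.sub_apply, LinearMap.id_apply, map_smul, map_add, hT, sub_eq_zero,
        add_comm]
    · rw [LinearMap.mem_ker, LinearMap.add_apply, LinearMap.id_apply, map_smul, map_sub, hT, ← smul_add]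
      simp
    · rw [← smul_add, show v + T v + (v - T v) = (2 : F) • v by rw [two_smul]; abel, smul_smul,
        inv_mul_cancel₀ h2, one_smul]

theorem det_involution (T : V →ₗ[F] V) (hT : ∀ v, T (T v) = v) :
    LinearMap.det T = (-1) ^ (finrank F V - finrank F (LinearMap.ker (T - LinearMap.id))) := by
  set W := LinearMap.ker (T - LinearMap.id) with hW
  have hfix : ∀ w ∈ W, T w = w := fun w hw => by
    rw [hW, LinearMap.mem_ker, LinearMap.sub_apply, LinearMap.id_apply, sub_eq_zero] at hw; exact hw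
  have hle : W ≤ W.comap T := fun w hw => by rw [Submodule.mem_comap, hfix w hw]; exact hw
  have h1 : T.restrict hle = LinearMap.id := LinearMap.ext fun w => Subtype.ext (hfix w w.2)
  have h2 : W.mapQ W T hle = (-1 : F) • LinearMap.id := by
    refine LinearMap.ext fun q => ?_
    obtain ⟨v, rfl⟩ := Submodule.Quotient.mk_surjective W q
    rw [Submodule.mapQ_apply, LinearMap.smul_apply, LinearMap.id_apply, neg_one_smul,
      ← Submodule.Quotient.mk_neg, Submodule.Quotient.eq, sub_neg_eq_add, hW, LinearMap.mem_ker,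
      LinearMap.sub_apply, LinearMap.id_apply, map_add, hT]
    abel
  rw [LinearMap.det_eq_det_mul_det W T hle, h1, h2, LinearMap.det_id, one_mul, LinearMap.det_smul,
    LinearMap.det_id, mul_one, Submodule.finrank_quotient]

/-- A square root of a nonsquare scalar. -/
theorem det_sqrt {c : F} (hc : ¬ IsSquare c) : ∀ (k : ℕ) {V : Type _} [AddCommGroup V] [Module F V]
    [FiniteDimensional F V] (T : V →ₗ[F] V), (∀ v, T (T v) = c • v) → finrank F V = 2 * k →
    LinearMap.det T = (-c) ^ k := by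
  intro k
  induction k with
  | zero =>
    intro V _ _ _ T _ hV
    rw [pow_zero]
    exact LinearMap.det_eq_one_of_finrank_eq_zero (by simpa using hV) T
  | succ k ih =>
    intro V _ _ _ T hT hV
    haveI : Nontrivial V := Module.nontrivial_of_finrank_pos (R := F) (by omega)
    obtain ⟨v, hv⟩ := exists_ne (0 : V)
    have hli : LinearIndependent F ![v, T v] := by
      rw [LinearIndependent.pair_iff]
      intro s t hst
      by_cases ht : t = 0
      · subst ht
        rw [zero_smul, add_zero, smul_eq_zero] at hst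
        exact ⟨hst.resolve_right hv, rfl⟩
      · exfalso
        have h1 : T v = (-(t⁻¹ * s)) • v := by
          rw [neg_smul, ← smul_smul, eq_neg_of_add_eq_zero_left hst, smul_neg, neg_neg, smul_smul,
            inv_mul_cancel₀ ht, one_smul]
        have h2 := hT v
        rw [h1, map_smul, h1, smul_smul] at h2
        exact hc ⟨-(t⁻¹ * s), (smul_left_injective F hv h2).symm⟩
    set W := Submodule.span F (Set.range ![v, T v]) with hW
    let b : Basis (Fin 2) F W := Basis.span hli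
    have hvW : v ∈ W := Submodule.subset_span ⟨0, rfl⟩
    have hTW : T v ∈ W := Submodule.subset_span ⟨1, rfl⟩
    have hle : W ≤ W.comap T := by
      rw [hW, Submodule.span_le]
      rintro _ ⟨i, rfl⟩
      fin_cases i
      · exact hTW
      · show T (T v) ∈ W
        rw [hT]; exact W.smul_mem _ hvW
    have hb0 : (b 0 : V) = v := congrArg Subtype.val (Basis.span_apply hli 0) |>.trans rfl
    have hb1 : (b 1 : V) = T v := congrArg Subtype.val (Basis.span_apply hli 1) |>.trans rfl
    have hres : LinearMap.det (T.restrict hle) = -c := by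
      rw [← LinearMap.det_toMatrix b]
      have e0 : T.restrict hle (b 0) = b 1 := Subtype.ext (by
        show T (b 0 : V) = (b 1 : V)
        rw [hb0, hb1])
      have e1 : T.restrict hle (b 1) = c • b 0 := Subtype.ext (by
        show T (b 1 : V) = c • (b 0 : V)
        rw [hb0, hb1, hT])
      rw [Matrix.det_fin_two]
      simp [LinearMap.toMatrix_apply, e0, e1]
    have hq : ∀ q, (W.mapQ W T hle) ((W.mapQ W T hle) q) = c • q := fun q => by
      obtain ⟨u, rfl⟩ := Submodule.Quotient.mk_surjective W q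
      rw [Submodule.mapQ_apply, Submodule.mapQ_apply, hT, Submodule.Quotient.mk_smul]
    have hdim : finrank F (V ⧸ W) = 2 * k := by
      rw [Submodule.finrank_quotient, Module.finrank_eq_card_basis b, hV, Fintype.card_fin]
      omega
    rw [LinearMap.det_eq_det_mul_det W T hle, hres, ih _ hq hdim, pow_succ]
    ring

end Endo

variable {ι : Type} [Fintype ι] [DecidableEq ι] {F : Type*} [Field F] [Fintype F]
  {Q : (ι → F) → F} {B : LinearMap.BilinForm F (ι → F)}

local notation "GS" => ↥(Cfsg.Geo.quadSimilarityGroup (F := F) Q)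
local notation "O" => ↥(isometryGroup F Q)
local notation "P" => Cfsg.POmega F Q

variable (C : Space Q B) (h7 : 7 ≤ Fintype.card ι) {n : ℕ} (hn : Fintype.card ι = 2 * n) (h2 : (2 : F) ≠ 0)

include C

omit [Fintype F] in
theorem refl_comm {g : GL ι F} {c : F} (hc : c ≠ 0) (hg : ∀ v, Q (g.val *ᵥ v) = c * Q v) {v : ι → F}
    (hv : Q v ≠ 0) : g * rGL Q v = rGL Q (g.val *ᵥ v) * g := by
  have hv' : Q (g.val *ᵥ v) ≠ 0 := by rw [hg]; exact mul_ne_zero hc hv
  refine gl_ext fun y => ?_
  rw [mul_act, mul_act, rGL_act C hv, rGL_act C hv', Matrix.mulVec_sub, Matrix.mulVec_smul]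
  congr 2
  rw [← C.polar (g.val *ᵥ v), QuadraticMap.polar, ← Matrix.mulVec_add, hg, hg, hg, ← C.polar v,
    QuadraticMap.polar]
  field_simp

include h7 hn h2

omit [Fintype F] in
/-- The square of a representative of an involution outside the inner-diagonal group. -/
theorem sqrt_scalar {g : GL ι F} {c : F} {lam : F} (hc0 : c ≠ 0) (hg : ∀ v, Q (g.val *ᵥ v) = c * Q v)
    (hdet : g.val.det ≠ c ^ n) (hgg : ∀ v, g.val *ᵥ (g.val *ᵥ v) = lam • v) : lam = c := by
  obtain ⟨v0, hv0⟩ := Cfsg.Lib.H3.exists_nonsing_vec C (by omega)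
  have h := congrArg Q (hgg v0)
  rw [hg, hg, C.smul, ← mul_assoc] at h
  have hsq : lam * lam = c * c := by rw [← sq]; exact (mul_right_cancel₀ hv0 h).symm
  rcases mul_self_eq_mul_self_iff.1 hsq with h1 | h1
  · exact h1
  exfalso
  set T : (ι → F) →ₗ[F] (ι → F) := Matrix.toLin' g.val with hT
  have hTa : ∀ v, T v = g.val *ᵥ v := fun v => Matrix.toLin'_apply _ _
  by_cases hsqr : IsSquare lam
  · obtain ⟨e, he⟩ := hsqr
    have he0 : e ≠ 0 := fun h => hc0 (by rw [h, mul_zero] at he; rw [he] at h1; linear_combination h1)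
    set S : (ι → F) →ₗ[F] (ι → F) := e⁻¹ • T with hS
    have hSS : ∀ v, S (S v) = v := fun v => by
      simp only [hS, LinearMap.smul_apply, map_smul, smul_smul, hTa, hgg, he]
      field_simp
      simp
    have hts : ∀ (U : Submodule F (ι → F)) (ε : F), ε * ε = 1 → (∀ v ∈ U, S v = ε • v) →
        2 * finrank F U ≤ Fintype.card ι := fun U ε hε hU => ts_bound C fun v hv => by
      have hgv : g.val *ᵥ v = (e * ε) • v := by
        rw [← smul_smul, ← hU v hv]
        simp [hS, hTa, smul_smul, mul_inv_cancel₀ he0]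
      have hQ := hg v
      rw [hgv, C.smul] at hQ
      refine (mul_eq_zero.1 (show ((2 : F) * c) * Q v = 0 by
        linear_combination -hQ + (e * e * Q v) * hε - (Q v) * he + (Q v) * h1)).resolve_left
        (mul_ne_zero h2 hc0)
    have hP := hts (LinearMap.ker (S - LinearMap.id)) 1 (one_mul 1) fun v hv => by
      rw [LinearMap.mem_ker, LinearMap.sub_apply, LinearMap.id_apply, sub_eq_zero] at hv
      rw [hv, one_smul]
    have hM := hts (LinearMap.ker (S + LinearMap.id)) (-1) (by ring) fun v hv => by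
      rw [LinearMap.mem_ker, LinearMap.add_apply, LinearMap.id_apply] at hv
      rw [neg_one_smul]; exact eq_neg_of_add_eq_zero_left hv
    have hsum := Submodule.finrank_add_eq_of_isCompl (isCompl_eigen h2 S hSS)
    rw [finrank_fintype_fun_eq_card] at hsum
    have hd := det_involution S hSS
    rw [finrank_fintype_fun_eq_card, show Fintype.card ι - finrank F (LinearMap.ker (S - LinearMap.id)) = n by omega,
      hS, LinearMap.det_smul, hT, LinearMap.det_toLin', finrank_fintype_fun_eq_card, hn] at hd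
    refine hdet ?_
    rw [inv_pow, inv_mul_eq_iff_eq_mul₀ (pow_ne_zero _ he0)] at hd
    rw [hd, pow_mul, sq, ← he, ← mul_pow, h1]
    ring
  · refine hdet ?_
    have hd := det_sqrt (F := F) hsqr n T (fun v => by rw [hTa, hTa, hgg])
      (by rw [finrank_fintype_fun_eq_card, hn])
    rw [hT, LinearMap.det_toLin'] at hd
    rw [hd, h1, neg_neg]

omit [Fintype F] in
theorem not_pres {g : GL ι F} {c : F} (hg : ∀ v, Q (g.val *ᵥ v) = c * Q v) (hdet : g.val.det ≠ c ^ n) :
    g.val.det = -c ^ n :=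
  (det_eq_or C hn hg).resolve_left hdet

omit [Fintype F] in
/-- The eigenspaces of an involutory isometry of determinant `-1`. -/
theorem exists_eigen {g : GL ι F} {c d : F} (hd : c = d * d) (hd0 : d ≠ 0)
    (hg : ∀ v, Q (g.val *ᵥ v) = c * Q v) (hdet : g.val.det = -c ^ n)
    (hgg : ∀ v, g.val *ᵥ (g.val *ᵥ v) = c • v) :
    ∃ U W : Submodule F (ι → F), NDeg B U ∧ NDeg B W ∧ (∀ v, v ∈ U ↔ g.val *ᵥ v = d • v) ∧
      (∀ v, v ∈ W ↔ g.val *ᵥ v = (-d) • v) ∧ finrank F U + finrank F W = 2 * n ∧ Odd (finrank F U) := by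
  set T : (ι → F) →ₗ[F] (ι → F) := d⁻¹ • Matrix.toLin' g.val with hT
  have hTa : ∀ v, T v = d⁻¹ • (g.val *ᵥ v) := fun v => by rw [hT, LinearMap.smul_apply, Matrix.toLin'_apply]
  have hTT : ∀ v, T (T v) = v := fun v => by
    rw [hTa, hTa, Matrix.mulVec_smul, hgg, smul_smul, smul_smul, hd]
    field_simp
    simp
  have hB : ∀ u v, B (T u) (T v) = B u v := fun u v => by
    rw [hTa, hTa]
    simp only [map_smul, LinearMap.smul_apply, smul_eq_mul]
    rw [← C.polar,
      QuadraticMap.polar, ← Matrix.mulVec_add, hg, hg, hg, ← C.polar, QuadraticMap.polar, hd]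
    field_simp
  set U := LinearMap.ker (T - LinearMap.id) with hU
  set W := LinearMap.ker (T + LinearMap.id) with hW
  have hUm : ∀ v, v ∈ U ↔ T v = v := fun v => by
    rw [hU, LinearMap.mem_ker, LinearMap.sub_apply, LinearMap.id_apply, sub_eq_zero]
  have hWm : ∀ v, v ∈ W ↔ T v = -v := fun v => by
    rw [hW, LinearMap.mem_ker, LinearMap.add_apply, LinearMap.id_apply, add_eq_zero_iff_eq_neg]
  have hcompl : IsCompl U W := isCompl_eigen h2 T hTT
  have horth : ∀ u ∈ U, ∀ w ∈ W, B u w = 0 := fun u hu w hw => by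
    have h := hB u w
    rw [(hUm u).1 hu, (hWm w).1 hw, map_neg] at h
    exact (mul_eq_zero.1 (show (2 : F) * B u w = 0 by linear_combination -h)).resolve_left h2
  have hnd : ∀ (U W : Submodule F (ι → F)), IsCompl U W → (∀ u ∈ U, ∀ w ∈ W, B u w = 0) → NDeg B U := by
    intro U W hc ho x hx hxy
    refine C.nondeg' fun y => ?_
    obtain ⟨a, ha, b, hb, rfl⟩ := Submodule.mem_sup.1 (hc.sup_eq_top ▸ Submodule.mem_top : y ∈ U ⊔ W)
    rw [map_add, hxy a ha, ho x hx b hb, add_zero]
  have hsum := Submodule.finrank_add_eq_of_isCompl hcompl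
  rw [finrank_fintype_fun_eq_card, hn] at hsum
  refine ⟨U, W, hnd U W hcompl horth, hnd W U hcompl.symm fun w hw u hu => by rw [C.symm]; exact horth u hu w hw,
    fun v => ?_, fun v => ?_, hsum, ?_⟩
  · rw [hUm, hTa, inv_smul_eq_iff₀ hd0]
  · rw [hWm, hTa, inv_smul_eq_iff₀ hd0, smul_neg, neg_smul]
  · have hdT := det_involution T hTT
    rw [← hU, finrank_fintype_fun_eq_card, hn] at hdT
    have h1 : LinearMap.det T = -1 := by
      rw [hT, LinearMap.det_smul, LinearMap.det_toLin', hdet, finrank_fintype_fun_eq_card, hn, hd, inv_pow,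
        pow_mul, sq, mul_neg, inv_mul_cancel₀ (pow_ne_zero _ (mul_ne_zero hd0 hd0))]
    rw [h1] at hdT
    by_contra hev
    rw [Nat.not_odd_iff_even] at hev
    have : Even (2 * n - finrank F U) := by rw [Nat.even_iff] at hev ⊢; omega
    rw [this.neg_one_pow] at hdT
    exact h2 (by linear_combination -hdT)

/-- A rotation of spinor norm `-1` commuting with the involution. -/
theorem exists_comm_spin {g : GL ι F} {c : F} (hc0 : c ≠ 0) (hg : ∀ v, Q (g.val *ᵥ v) = c * Q v)
    (hdet : g.val.det = -c ^ n) (hgg : ∀ v, g.val *ᵥ (g.val *ᵥ v) = c • v) :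
    ∃ s : O, (s : GL ι F).val.det = 1 ∧ spin Q s = -1 ∧ (s : GL ι F) * g = g * (s : GL ι F) := by
  classical
  have hfin : ∀ v w : ι → F, (hv : Q v ≠ 0) → (hw : Q w ≠ 0) → IsSquare (Q v) → ¬ IsSquare (Q w) →
      g * (rGL Q v * rGL Q w) = rGL Q v * rGL Q w * g →
      ∃ s : O, (s : GL ι F).val.det = 1 ∧ spin Q s = -1 ∧ (s : GL ι F) * g = g * (s : GL ι F) := by
    intro v w hv hw hsv hsw hcomm
    refine ⟨rI C v hv * rI C w hw, ?_, ?_, ?_⟩
    · rw [Subgroup.coe_mul, Units.val_mul, Matrix.det_mul, rI_val, rI_val, rGL_det C hv, rGL_det C hw]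
      norm_num
    · rw [map_mul, spin_rI C h2, spin_rI C h2, if_pos hsv, if_neg hsw, mul_one]
    · rw [Subgroup.coe_mul, rI_val, rI_val]
      exact hcomm.symm
  obtain ⟨α, hα⟩ := FiniteField.exists_nonsquare (F := F) (fun hc => h2 (by
    haveI := ringChar.of_eq hc; exact CharTwo.two_eq_zero))
  have hα0 : α ≠ 0 := fun h => hα (h ▸ ⟨0, (mul_zero 0).symm⟩)
  by_cases hsq : IsSquare c
  · obtain ⟨d, hd⟩ := hsq
    have hd0 : d ≠ 0 := fun h => hc0 (by rw [hd, h, mul_zero])
    obtain ⟨U, W, hU, hW, hUm, hWm, hsum, -⟩ := exists_eigen C h7 hn h2 hd hd0 hg hdet hgg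
    have key : ∀ (X : Submodule F (ι → F)) (ε : F), ε ≠ 0 → NDeg B X → 2 ≤ finrank F X →
        (∀ v ∈ X, g.val *ᵥ v = ε • v) →
        ∃ s : O, (s : GL ι F).val.det = 1 ∧ spin Q s = -1 ∧ (s : GL ι F) * g = g * (s : GL ι F) := by
      intro X ε hε hX h2X hXe
      obtain ⟨v, hvX, hv⟩ := exists_value_sub C h2 hX h2X (one_ne_zero : (1 : F) ≠ 0)
      obtain ⟨w, hwX, hw⟩ := exists_value_sub C h2 hX h2X hα0
      have hv0 : Q v ≠ 0 := by rw [hv]; exact one_ne_zero
      have hw0 : Q w ≠ 0 := by rw [hw]; exact hα0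
      refine hfin v w hv0 hw0 (hv ▸ IsSquare.one) (hw ▸ hα) ?_
      rw [← mul_assoc, refl_comm C hc0 hg hv0, hXe v hvX, rGL_smul C hv0 hε, mul_assoc,
        refl_comm C hc0 hg hw0, hXe w hwX, rGL_smul C hw0 hε, mul_assoc]
    rcases (show 2 ≤ finrank F U ∨ 2 ≤ finrank F W by omega) with h | h
    · exact key U d hd0 hU h fun v hv => (hUm v).1 hv
    · exact key W (-d) (neg_ne_zero.2 hd0) hW h fun v hv => (hWm v).1 hv
  · have hB : ∀ u v, B (g.val *ᵥ u) (g.val *ᵥ v) = c * B u v := fun u v => by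
      rw [← C.polar, ← C.polar, QuadraticMap.polar, QuadraticMap.polar, ← Matrix.mulVec_add, hg, hg, hg]
      ring
    have hself : ∀ u v, B (g.val *ᵥ u) v = B u (g.val *ᵥ v) := fun u v => by
      have h := hB (g.val *ᵥ u) v
      rw [hgg, map_smul, LinearMap.smul_apply, smul_eq_mul] at h
      exact (mul_left_cancel₀ hc0 h).symm
    -- a vector orthogonal to its image
    obtain ⟨x, hx, hxg⟩ : ∃ x, Q x ≠ 0 ∧ B x (g.val *ᵥ x) = 0 := by
      let Q' : (ι → F) → F := fun v => B v (g.val *ᵥ v)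
      let B' : LinearMap.BilinForm F (ι → F) := (2 : F) • B.compl₂ (Matrix.toLin' g.val)
      obtain ⟨v, -, hv0, hv⟩ := Cfsg.Lib.Linear.Sing.exists_singular (Q := Q') (B := B')
        (fun a v => by simp [Q', Matrix.mulVec_smul]; ring)
        (fun u v => by
          simp only [QuadraticMap.polar, Q', B', Matrix.mulVec_add, map_add, LinearMap.add_apply,
            LinearMap.smul_apply, LinearMap.compl₂_apply, Matrix.toLin'_apply, smul_eq_mul]
          linear_combination (hself v u).symm + C.symm (g.val *ᵥ v) u)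
        ⊤ (by rw [finrank_top, finrank_fintype_fun_eq_card]; omega)
      change B v (g.val *ᵥ v) = 0 at hv
      by_cases hQv : Q v = 0
      swap
      · exact ⟨v, hQv, hv⟩
      set u := g.val *ᵥ v with hu
      obtain ⟨y, hy1, hy2⟩ : ∃ y, B u y = 0 ∧ B v y ≠ 0 := by
        by_contra hno
        push Not at hno
        obtain ⟨y0, hy0⟩ := C.exists_pair (act_ne_zero (g := g) hv0)
        have hlin : v - B v y0 • u = 0 := C.nondeg' fun y => by
          have h := hno (y - B u y • y0) (by rw [map_sub, map_smul, hy0, smul_eq_mul, mul_one, sub_self])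
          rw [map_sub, map_smul, smul_eq_mul, sub_eq_zero] at h
          rw [map_sub, map_smul, LinearMap.sub_apply, LinearMap.smul_apply, smul_eq_mul, h]
          ring
        set t := B v y0
        have e : v = t • u := sub_eq_zero.1 hlin
        have e2 : u = (t * c) • v := by
          conv_lhs => rw [hu, e, Matrix.mulVec_smul, hu, hgg, smul_smul]
        rw [e2, smul_smul] at e
        have e' : (t * (t * c)) • v = (1 : F) • v := by rw [one_smul, ← e]
        have h1 := smul_left_injective F hv0 e'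
        have ht : t ≠ 0 := fun h => by simp [h] at h1
        exact hsq ⟨t⁻¹, by field_simp; linear_combination h1⟩
      obtain ⟨w, hw1, hw2⟩ : ∃ w, B v w = 1 ∧ B u w = 0 :=
        ⟨(B v y)⁻¹ • y, by rw [map_smul, smul_eq_mul, inv_mul_cancel₀ hy2], by rw [map_smul, hy1, smul_zero]⟩
      set s := -(B w (g.val *ᵥ w)) / (2 * c) with hs
      obtain ⟨w', hw'⟩ : ∃ w', w' = w + s • u := ⟨_, rfl⟩
      have hgu : g.val *ᵥ u = c • v := hgg v
      have hQu : Q u = 0 := by rw [hu, hg, hQv, mul_zero]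
      have hBvu : B v u = 0 := hv
      have hBuv : B u v = 0 := by rw [C.symm]; exact hv
      have hw'1 : B v w' = 1 := by rw [hw', map_add, map_smul, hw1, hBvu, smul_zero, add_zero]
      have hw'2 : B u w' = 0 := by rw [hw', map_add, map_smul, hw2, C.self, hQu, mul_zero, smul_zero, add_zero]
      have hgw : B u (g.val *ᵥ w) = c := by rw [← hself, hgu, map_smul, LinearMap.smul_apply, hw1, smul_eq_mul, mul_one]
      have hw'3 : B w' (g.val *ᵥ w') = 0 := by
        rw [hw', Matrix.mulVec_add, Matrix.mulVec_smul, hgu]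
        simp only [map_add, map_smul, LinearMap.add_apply, LinearMap.smul_apply, smul_eq_mul]
        rw [C.symm w v, hw1, hgw, C.symm u v, hBvu]
        rw [hs]
        field_simp
        ring
      have key : ∀ t : F, Q (v + t • w') = t + t ^ 2 * Q w' ∧
          B (v + t • w') (g.val *ᵥ (v + t • w')) = 0 := fun t => by
        constructor
        · rw [C.add, hQv, C.smul, map_smul, hw'1, smul_eq_mul]
          ring
        · rw [Matrix.mulVec_add, Matrix.mulVec_smul]
          simp only [map_add, map_smul, LinearMap.add_apply, LinearMap.smul_apply, smul_eq_mul]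
          rw [hw'3, ← hu, hBvu, C.symm w' u, hw'2, ← hself v w', hw'2]
          ring
      by_cases hp : Q (v + (1 : F) • w') = 0
      · refine ⟨v + (-1 : F) • w', fun hm => ?_, (key _).2⟩
        rw [(key 1).1] at hp
        rw [(key (-1)).1] at hm
        exact h2 (by linear_combination hp - hm)
      · exact ⟨_, hp, (key 1).2⟩
    have hgx : Q (g.val *ᵥ x) ≠ 0 := by rw [hg]; exact mul_ne_zero hc0 hx
    have hswap : rGL Q (g.val *ᵥ x) * rGL Q x = rGL Q x * rGL Q (g.val *ᵥ x) := by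
      have h := refl_comm C (one_ne_zero : (1 : F) ≠ 0)
        (g := rGL Q x) (fun v => by rw [one_mul]; exact mem_iso.1 (rGL_mem C hx) v) hgx
      rw [rGL_fix C hx hxg] at h
      exact h.symm
    have hcomm : g * (rGL Q x * rGL Q (g.val *ᵥ x)) = rGL Q x * rGL Q (g.val *ᵥ x) * g := by
      rw [← mul_assoc, refl_comm C hc0 hg hx, mul_assoc, refl_comm C hc0 hg hgx, hgg,
        rGL_smul C hx hc0, ← mul_assoc, hswap]
    by_cases hsx : IsSquare (Q x)
    · refine hfin x _ hx hgx hsx (fun h => hsq ?_) hcomm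
      rw [hg] at h
      have := h.mul (isSquare_inv.2 hsx)
      rwa [mul_inv_cancel_right₀ hx] at this
    · refine hfin _ x hgx hx ?_ hsx (by rw [hswap]; exact hcomm)
      rw [hg, ← quadraticChar_one_iff_isSquare (mul_ne_zero hc0 hx), map_mul,
        quadraticChar_neg_one_iff_not_isSquare.2 hsq, quadraticChar_neg_one_iff_not_isSquare.2 hsx]
      norm_num

variable (p : ℕ) [Fact p.Prime] [CharP F p]
variable (hsim : ∀ c : F, c ≠ 0 → ∃ g : GL ι F, ∀ v, Q (g.val *ᵥ v) = c * Q v)

include p hsim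

theorem centralizer_mem_soImage (hz : ∃ g : O, g ∈ Cfsg.Omega F Q ∧ (g : GL ι F).val = -1)
    {A : GS} {c : F} (hA : ∀ v, Q (A.1.val *ᵥ v) = c * Q v) (hdet : A.1.val.det ≠ c ^ n)
    {H : GS} (hH : H ∈ pos Q n) (hcomm : innd H * innd A = innd A * innd H) :
    innd H ∈ (soImage : Subgroup (MulAut P)) := by
  obtain ⟨ν, hν, hνd⟩ := id hH
  by_cases hsq : IsSquare (ν : F)
  · obtain ⟨d, hd⟩ := hsq
    have hd0 : d ≠ 0 := fun h => ν.ne_zero (by rw [hd, h, mul_zero])
    refine innd_mem_soImage C h7 p hn (d := Units.mk0 d hd0) (fun v => ?_) ?_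
    · rw [hν, hd, Units.val_mk0, sq]
    · rw [hνd, hd, Units.val_mk0, sq]
  exfalso
  obtain ⟨v, hv⟩ := Cfsg.Lib.H3.exists_nonsing_vec C (by omega)
  set R : GS := isoSim (rI C v hv) with hR
  have hAneg := not_pres C h7 hn h2 hA hdet
  have hK : R * A ∈ pos Q n := by
    obtain ⟨cu, hcu⟩ := A.2
    have e : (cu : F) = c := mult_unique C h7 hcu hA
    refine ⟨cu, fun x => ?_, ?_⟩
    · rw [Subgroup.coe_mul, mul_act]
      exact (mem_iso.1 (rI C v hv).2 _).trans (hcu x)
    · rw [Subgroup.coe_mul, Units.val_mul, Matrix.det_mul, hR]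
      show (rI C v hv : GL ι F).val.det * _ = _
      rw [rI_val, rGL_det C hv, hAneg, e]; ring
  obtain ⟨h4, -⟩ := (relIndex_inn_map C h7 p hn h2 hsim).1 hz
  have hκ := comm_of_relIndex (Or.inr h4) (Subgroup.mem_map_of_mem (innd : GS →* MulAut P) hH)
    (Subgroup.mem_map_of_mem (innd : GS →* MulAut P) hK)
  obtain ⟨u', hu', hspin⟩ := spin_conj C h7 p h2 hsq hν (rI C v hv)
  have hu : isoSim u' = H * R * H⁻¹ := Subtype.ext (by
    show (u' : GL ι F) = _
    rw [hu']; rfl)
  have hRR : R * R = 1 := by rw [hR, ← map_mul, rI_sq, map_one]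
  have hmem : innd (isoSim (u' * rI C v hv)) ∈ Cfsg.Inn P := by
    have e : innd (isoSim (u' * rI C v hv)) =
        innd R * (innd H * innd (R * A) * (innd H)⁻¹ * (innd (R * A))⁻¹)⁻¹ * (innd R)⁻¹ := by
      rw [map_mul, hu, ← hR, map_mul, map_mul, map_inv, map_mul, map_mul]
      have hr : (innd R)⁻¹ = innd R := inv_eq_of_mul_eq_one_right (by rw [← map_mul, hRR, map_one])
      have hr2 : innd R * innd R = 1 := by rw [← map_mul, hRR, map_one]
      have h1 : innd A * innd H * (innd A)⁻¹ = innd H := by rw [← hcomm]; group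
      calc innd H * innd R * (innd H)⁻¹ * innd R
          = innd H * (innd R)⁻¹ * (innd H)⁻¹ * (innd R)⁻¹ := by rw [hr]
        _ = innd R * innd R * (innd A * innd H * (innd A)⁻¹) * (innd R)⁻¹ * (innd H)⁻¹ * (innd R)⁻¹ := by
            rw [hr2, h1, one_mul]
        _ = _ := by group
    rw [e]
    exact (inferInstance : (Cfsg.Inn P).Normal).conj_mem _ (inv_mem hκ) _
  have hdu : (u' : GL ι F).val.det = -1 := by
    have e' : Matrix.GeneralLinearGroup.det (H.1 * (rI C v hv : GL ι F) * H.1⁻¹) =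
        Matrix.GeneralLinearGroup.det (rI C v hv : GL ι F) := by simp
    rw [hu']
    refine (congrArg Units.val e').trans ?_
    show (rI C v hv : GL ι F).val.det = -1
    rw [rI_val, rGL_det C hv]
  have hdet1 : ((u' * rI C v hv : O) : GL ι F).val.det = 1 := by
    rw [Subgroup.coe_mul, Units.val_mul, Matrix.det_mul, hdu, rI_val, rGL_det C hv]; ring
  have hs := spin_of_inn C h7 p h2 hz hdet1 hmem
  rw [map_mul] at hs
  rw [hs, map_one] at hspin
  have h3 := congrArg Units.val hspin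
  change (1 : F) = (rI C v hv : GL ι F).val.det at h3
  rw [rI_val, rGL_det C hv] at h3
  exact h2 (by linear_combination h3)

omit [Fact p.Prime] [CharP F p] hsim in
theorem sq_sc {A : GS} {c : F} (hp : Fact p.Prime) (hc : CharP F p) (hA : ∀ v, Q (A.1.val *ᵥ v) = c * Q v)
    (hdet : A.1.val.det ≠ c ^ n) (h : innd A * innd A = (1 : MulAut P)) :
    c ≠ 0 ∧ ∀ v, A.1.val *ᵥ (A.1.val *ᵥ v) = c • v := by
  obtain ⟨cu, hcu⟩ := A.2
  have hc0 : c ≠ 0 := mult_unique C h7 hA hcu ▸ cu.ne_zero
  rw [← map_mul] at h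
  obtain ⟨l, hl⟩ := (innd_eq_sc C h7 p).1 h
  have hll : ∀ v, A.1.val *ᵥ (A.1.val *ᵥ v) = (l : F) • v := fun v => by
    rw [← mul_act, ← sc_act]
    exact congrArg (fun x : GL ι F => x.val *ᵥ v) hl
  exact ⟨hc0, fun v => by rw [hll, sqrt_scalar C h7 hn h2 hc0 hA hdet hll]⟩

/-- With `-1` in `Ω` the class splits into exactly two. -/
theorem count_two (hz : ∃ g : O, g ∈ Cfsg.Omega F Q ∧ (g : GL ι F).val = -1)
    {A : GS} {c : F} (hA : ∀ v, Q (A.1.val *ᵥ v) = c * Q v) (hdet : A.1.val.det ≠ c ^ n)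
    (hsq : innd A * innd A = (1 : MulAut P)) :
    Cfsg.splitClassCount ((pos Q n).map (innd : GS →* MulAut P)) (Cfsg.Inn P) (innd A) = 2 := by
  set D := (pos Q n).map (innd : GS →* MulAut P) with hD
  obtain ⟨h4, -⟩ := (relIndex_inn_map C h7 p hn h2 hsim).1 hz
  have hle : Cfsg.Inn P ≤ D := (inn_le_soImage C).trans (soImage_le_map C h7 p hn h2)
  rw [splitClassCount_comm hle (fun a ha b hb => comm_of_relIndex (Or.inr h4) ha hb)]
  set M := Cfsg.Inn P ⊔ D ⊓ Subgroup.centralizer {innd A} with hM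
  obtain ⟨hc0, hgg⟩ := sq_sc C h7 hn h2 p ‹_› ‹_› hA hdet hsq
  obtain ⟨s, hsd, hss, hsg⟩ := exists_comm_spin C h7 hn h2 hc0 hA (not_pres C h7 hn h2 hA hdet) hgg
  have hsM : innd (isoSim s) ∈ M := by
    refine Subgroup.mem_sup_right ⟨soImage_le_map C h7 p hn h2 (mem_soImage.2 ⟨s, hsd, rfl⟩),
      Subgroup.mem_centralizer_singleton_iff.2 ?_⟩
    rw [← map_mul, ← map_mul]
    exact congrArg innd (Subtype.ext hsg)
  have hMso : M ≤ (soImage : Subgroup (MulAut P)) := by
    refine sup_le (inn_le_soImage C) ?_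
    rintro _ ⟨⟨H, hH, rfl⟩, hcomm⟩
    exact centralizer_mem_soImage C h7 hn h2 p hsim hz hA hdet hH (Subgroup.mem_centralizer_singleton_iff.1 hcomm)
  have hso2 := (Cfsg.Lib.H3.inn_relIndex_pso C h2 ⟨n, by omega⟩ h7).1 hz
  rw [← soImage_eq_pso, ← Subgroup.relIndex_mul_relIndex _ _ _ le_sup_left hMso] at hso2
  have hne : (Cfsg.Inn P).relIndex M ≠ 1 := fun h => by
    rw [Subgroup.relIndex_eq_one] at h
    have := spin_of_inn C h7 p h2 hz hsd (h hsM)
    rw [hss] at this
    exact absurd this (by decide)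
  have hIM : (Cfsg.Inn P).relIndex M = 2 :=
    ((Nat.dvd_prime Nat.prime_two).1 (Dvd.intro _ hso2)).resolve_left hne
  have h := Subgroup.relIndex_mul_relIndex (Cfsg.Inn P) M D le_sup_left (sup_le hle inf_le_left)
  rw [h4, hIM] at h
  omega

theorem count_le_two (hno : ¬ ∃ g : O, g ∈ Cfsg.Omega F Q ∧ (g : GL ι F).val = -1) (x : MulAut P) :
    Cfsg.splitClassCount ((pos Q n).map (innd : GS →* MulAut P)) (Cfsg.Inn P) x = 1 ∨
      Cfsg.splitClassCount ((pos Q n).map (innd : GS →* MulAut P)) (Cfsg.Inn P) x = 2 := by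
  have h2' := (relIndex_inn_map C h7 p hn h2 hsim).2 hno
  have hle : Cfsg.Inn P ≤ (pos Q n).map (innd : GS →* MulAut P) :=
    (inn_le_soImage C).trans (soImage_le_map C h7 p hn h2)
  rw [splitClassCount_comm hle (fun a ha b hb => comm_of_relIndex (Or.inl h2') ha hb)]
  refine (Nat.dvd_prime Nat.prime_two).1 ?_
  rw [← h2', ← Subgroup.relIndex_mul_relIndex _ _ _ (le_sup_left (b := _ ⊓ Subgroup.centralizer {x}))
    (sup_le hle inf_le_left)]
  exact Dvd.intro_left _ rfl

/-- Without `-1` in `Ω` and with `n` even the class splits into two. -/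
theorem count_two_of_even (hno : ¬ ∃ g : O, g ∈ Cfsg.Omega F Q ∧ (g : GL ι F).val = -1) (hev : Even n)
    {A : GS} {c : F} (hA : ∀ v, Q (A.1.val *ᵥ v) = c * Q v) (hdet : A.1.val.det ≠ c ^ n)
    (hsq : innd A * innd A = (1 : MulAut P)) :
    Cfsg.splitClassCount ((pos Q n).map (innd : GS →* MulAut P)) (Cfsg.Inn P) (innd A) = 2 := by
  set D := (pos Q n).map (innd : GS →* MulAut P) with hD
  have h2' := (relIndex_inn_map C h7 p hn h2 hsim).2 hno
  have hle : Cfsg.Inn P ≤ D := (inn_le_soImage C).trans (soImage_le_map C h7 p hn h2)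
  rw [splitClassCount_comm hle (fun a ha b hb => comm_of_relIndex (Or.inl h2') ha hb)]
  suffices h : Cfsg.Inn P ⊔ D ⊓ Subgroup.centralizer {innd A} = Cfsg.Inn P by rw [h, h2']
  refine sup_eq_left.2 ?_
  rintro _ ⟨⟨H, hH, rfl⟩, hcomm⟩
  have hso1 := (Cfsg.Lib.H3.inn_relIndex_pso C h2 ⟨n, by omega⟩ h7).2 hno
  rw [← soImage_eq_pso, Subgroup.relIndex_eq_one] at hso1
  obtain ⟨ν, hν, hνd⟩ := id hH
  by_cases hνs : IsSquare (ν : F)
  · obtain ⟨d, hd⟩ := hνs
    have hd0 : d ≠ 0 := fun h => ν.ne_zero (by rw [hd, h, mul_zero])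
    refine hso1 (innd_mem_soImage C h7 p hn (d := Units.mk0 d hd0) (fun v => ?_) ?_)
    · rw [hν, hd, Units.val_mk0, sq]
    · rw [hνd, hd, Units.val_mk0, sq]
  exfalso
  have hAneg := not_pres C h7 hn h2 hA hdet
  obtain ⟨hc0, hgg⟩ := sq_sc C h7 hn h2 p ‹_› ‹_› hA hdet hsq
  have hcs : IsSquare c := by
    by_contra hns
    have hd := det_sqrt (F := F) hns n (Matrix.toLin' A.1.val)
      (fun v => by rw [Matrix.toLin'_apply, Matrix.toLin'_apply, hgg])
      (by rw [finrank_fintype_fun_eq_card, hn])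
    rw [LinearMap.det_toLin', hev.neg_pow] at hd
    exact hdet hd
  obtain ⟨d, hd⟩ := hcs
  have hd0 : d ≠ 0 := fun h => hc0 (by rw [hd, h, mul_zero])
  obtain ⟨U, W, -, -, hUm, hWm, hsum, hodd⟩ := exists_eigen C h7 hn h2 hd hd0 hA hAneg hgg
  have hc' := Subgroup.mem_centralizer_singleton_iff.1 hcomm
  rw [← map_mul, ← map_mul] at hc'
  obtain ⟨t, ht⟩ := (innd_eq_innd_sc C h7 p).1 hc'
  have hta : ∀ x, H.1.val *ᵥ (A.1.val *ᵥ x) = (t : F) • (A.1.val *ᵥ (H.1.val *ᵥ x)) := fun x => by
    rw [← mul_act, ← mul_act, ← sc_act, ← mul_act]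
    exact congrArg (fun z : GL ι F => z.val *ᵥ x) ht
  have htt : (t : F) * t = 1 := by
    obtain ⟨v, hv⟩ := Cfsg.Lib.H3.exists_nonsing_vec C (by omega)
    have hne : c • (H.1.val *ᵥ v) ≠ 0 := by
      refine smul_ne_zero hc0 (act_ne_zero fun h => hv ?_)
      rw [h, C.zero]
    have h1 := hta (A.1.val *ᵥ v)
    rw [hgg, Matrix.mulVec_smul, hta, Matrix.mulVec_smul, hgg, smul_smul] at h1
    have h2'' : ((t : F) * t) • (c • (H.1.val *ᵥ v)) = (1 : F) • (c • (H.1.val *ᵥ v)) := by rw [one_smul, ← h1]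
    exact smul_left_injective F hne h2''
  rcases mul_self_eq_one_iff.1 htt with h1 | h1
  · let T : O := ⟨sc (Units.mk0 d hd0)⁻¹ * A.1, mem_iso.2 fun x => by
      rw [mul_act, sc_act, C.smul, hA, hd, Units.val_inv_eq_inv_val, Units.val_mk0]
      field_simp⟩
    obtain ⟨u', hu', hspin⟩ := spin_conj C h7 p h2 hνs hν T
    have hTT : u' = T := by
      refine Subtype.ext ?_
      rw [hu', mul_inv_eq_iff_eq_mul]
      refine gl_ext fun x => ?_
      show (H.1 * (sc (Units.mk0 d hd0)⁻¹ * A.1)).val *ᵥ x = (sc (Units.mk0 d hd0)⁻¹ * A.1 * H.1).val *ᵥ x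
      rw [mul_act, mul_act, mul_act, mul_act, sc_act, sc_act, Matrix.mulVec_smul, hta, h1, one_smul]
    rw [hTT, Int.units_mul_self, map_one] at hspin
    have h3 := congrArg Units.val hspin
    change (1 : F) = (sc (Units.mk0 d hd0)⁻¹ * A.1).val.det at h3
    rw [Units.val_mul, sc_val, Matrix.smul_mul, Matrix.one_mul, Matrix.det_smul, hAneg, hn,
      Units.val_inv_eq_inv_val, Units.val_mk0, hd, inv_pow, pow_mul, sq, mul_neg,
      inv_mul_cancel₀ (pow_ne_zero _ (mul_ne_zero hd0 hd0))] at h3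
    exact h2 (by linear_combination h3)
  · have hswap : ∀ (X Y : Submodule F (ι → F)) (ε : F), (∀ x, x ∈ X ↔ A.1.val *ᵥ x = ε • x) →
        (∀ x, x ∈ Y ↔ A.1.val *ᵥ x = (-ε) • x) → finrank F X ≤ finrank F Y := by
      intro X Y ε hX hY
      let f : X →ₗ[F] Y := ((Matrix.toLin' H.1.val).comp X.subtype).codRestrict Y fun x => by
        rw [hY, LinearMap.comp_apply, Matrix.toLin'_apply, Submodule.subtype_apply]
        have h := hta x
        rw [(hX x).1 x.2, Matrix.mulVec_smul, h1, neg_one_smul] at h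
        rw [neg_smul, h, neg_neg]
      refine LinearMap.finrank_le_finrank_of_injective (f := f) fun x y e => ?_
      have e' := congrArg Subtype.val e
      simp only [f, LinearMap.codRestrict_apply, LinearMap.comp_apply, Matrix.toLin'_apply,
        Submodule.subtype_apply] at e'
      exact Subtype.ext (act_injective H.1 e')
    have e1 := hswap U W d hUm hWm
    have e2 := hswap W U (-d) hWm (fun x => by rw [neg_neg]; exact hUm x)
    rw [Nat.odd_iff] at hodd
    rw [Nat.even_iff] at hev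
    omega

end Cfsg.Lib.H3.GraphSplit
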