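import Cfsg.Agent.Lib.Linear.AutPO.MinusOut
import Cfsg.Agent.Lib.H3.PGOQuot
import Cfsg.Agent.Lib.H3.PGOIndex

/-!
# The conformal group and the inner-diagonal group of `PΩ±` modulo the inner automorphisms
-/

set_option autoImplicit false

namespace Cfsg.Lib.H3.InndiagMod

open Module Cfsg.Lib.Linear.Orth Cfsg.Lib.Linear.AutPO
open Cfsg.Lib.Linear.Descent (sc sc_val)
open scoped Matrix

set_option quotPrecheck false

theorem exists_hom_of_quot {G T : Type*} [Group G] [Group T] (H : Subgroup G) (N : Subgroup G) [N.Normal]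
    (e : Nonempty ((↥H ⧸ N.subgroupOf H) ≃* T)) :
    ∃ φ : ↥H →* T, Function.Surjective φ ∧ φ.ker = N.subgroupOf H := by
  obtain ⟨e⟩ := e
  refine ⟨e.toMonoidHom.comp (QuotientGroup.mk' (N.subgroupOf H)),
    e.surjective.comp (QuotientGroup.mk'_surjective _), ?_⟩
  ext x
  simp only [MonoidHom.mem_ker, MonoidHom.comp_apply, MulEquiv.coe_toMonoidHom, EmbeddingLike.map_eq_one_iff,
    QuotientGroup.mk'_apply, QuotientGroup.eq_one_iff]

theorem card_quot {G : Type*} [Group G] (H N : Subgroup G) [N.Normal] :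
    Nat.card (↥H ⧸ N.subgroupOf H) = N.relIndex H := rfl

theorem klein_of_card {D : Type*} [Group D] (hD : Nat.card D = 4) {a d : D} (ha : a * a = 1) (hd : d * d = 1)
    (ha1 : a ≠ 1) (hd1 : d ≠ 1) (had : a ≠ d) : Nonempty (D ≃* Multiplicative (ZMod 2 × ZMod 2)) := by
  classical
  haveI : Finite D := Nat.finite_of_card_ne_zero (by omega)
  have hsq : ∀ x : D, x ^ 2 = 1 := by
    intro x
    by_contra hx
    have h4 : orderOf x ∣ 2 ^ 2 := by rw [show (2 : ℕ) ^ 2 = 4 by norm_num, ← hD]; exact orderOf_dvd_natCard x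
    obtain ⟨k, hk, e⟩ := (Nat.dvd_prime_pow Nat.prime_two).1 h4
    have hk2 : k = 2 := by
      interval_cases k
      · exact absurd (by rw [orderOf_eq_one_iff.1 e, one_pow]) hx
      · exact absurd (by have := pow_orderOf_eq_one x; rwa [e] at this) hx
      · rfl
    subst hk2
    have htop : Subgroup.zpowers x = ⊤ := Subgroup.eq_top_of_card_eq _ (by rw [Nat.card_zpowers, e, hD]; norm_num)
    have key : ∀ y : D, y * y = 1 → y ≠ 1 → y = x ^ 2 := fun y hy hy1 => by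
      have hmem : y ∈ Subgroup.zpowers x := htop ▸ Subgroup.mem_top y
      obtain ⟨i, hi, rfl⟩ := (isOfFinOrder_of_finite x).mem_zpowers_iff_mem_range_orderOf.1 hmem |>
        Finset.mem_image.1
      rw [Finset.mem_range, e] at hi
      rw [← pow_add] at hy
      have hdvd := orderOf_dvd_of_pow_eq_one hy
      rw [e] at hdvd
      rcases (show i = 0 ∨ i = 2 by norm_num at hi hdvd; omega) with rfl | rfl
      · exact absurd (pow_zero x) hy1
      · rfl
    exact had ((key a ha ha1).trans (key d hd hd1).symm)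
  haveI : IsKleinFour D := ⟨hD, by
    rcases (Nat.dvd_prime Nat.prime_two).1 (Monoid.exponent_dvd_of_forall_pow_eq_one hsq) with h | h
    · exfalso
      exact ha1 (by simpa [h] using Monoid.pow_exponent_eq_one a)
    · exact h⟩
  exact IsKleinFour.nonempty_mulEquiv

variable {ι : Type} [Fintype ι] [DecidableEq ι] {F : Type*} [Field F]
  {Q : (ι → F) → F} {B : LinearMap.BilinForm F (ι → F)}

local notation "GS" => ↥(Cfsg.Geo.quadSimilarityGroup (F := F) Q)
local notation "O" => ↥(isometryGroup F Q)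
local notation "P" => Cfsg.POmega F Q

/-- The similarities of multiplier `c` and determinant `c ^ n`. -/
def pos (Q : (ι → F) → F) (n : ℕ) : Subgroup ↥(Cfsg.Geo.quadSimilarityGroup (F := F) Q) where
  carrier := {A | ∃ c : Fˣ, (∀ v, Q (A.1.val *ᵥ v) = c * Q v) ∧ A.1.val.det = (c : F) ^ n}
  one_mem' := ⟨1, fun v => by simp, by simp⟩
  mul_mem' := by
    rintro A A' ⟨c, hc, hd⟩ ⟨c', hc', hd'⟩
    refine ⟨c * c', fun v => ?_, ?_⟩
    · rw [Subgroup.coe_mul, mul_act, hc, hc', Units.val_mul, mul_assoc]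
    · rw [Subgroup.coe_mul, Units.val_mul, Matrix.det_mul, hd, hd', Units.val_mul, mul_pow]
  inv_mem' := by
    rintro A ⟨c, hc, hd⟩
    refine ⟨c⁻¹, fun v => ?_, ?_⟩
    · have h := hc ((A.1⁻¹ : GL ι F).val *ᵥ v)
      rw [act_inv] at h
      rw [Subgroup.coe_inv, h, Units.inv_mul_cancel_left]
    · have h1 : (A.1⁻¹ : GL ι F).val.det * A.1.val.det = 1 := by
        rw [← Matrix.det_mul, ← Units.val_mul, inv_mul_cancel, Units.val_one, Matrix.det_one]
      rw [hd] at h1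
      rw [Subgroup.coe_inv, eq_inv_of_mul_eq_one_left h1, Units.val_inv_eq_inv_val, inv_pow]

variable [Fintype F] (C : Space Q B) (h7 : 7 ≤ Fintype.card ι) (p : ℕ) [Fact p.Prime] [CharP F p]
  {n : ℕ} (hn : Fintype.card ι = 2 * n) (h2 : (2 : F) ≠ 0)

include C h7

omit [Fintype F] in
theorem mult_unique {A : GL ι F} {c c' : F} (h : ∀ v, Q (A.val *ᵥ v) = c * Q v)
    (h' : ∀ v, Q (A.val *ᵥ v) = c' * Q v) : c = c' := by
  obtain ⟨v, hv⟩ := Cfsg.Lib.H3.exists_nonsing_vec C (by omega)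
  exact mul_right_cancel₀ hv ((h v).symm.trans (h' v))

include p

theorem mem_pos_of_innd_eq {A A' : GS} (h : innd A = innd A') (hA' : A' ∈ pos Q n)
    (hn : Fintype.card ι = 2 * n) : A ∈ pos Q n := by
  obtain ⟨d, hd⟩ := (innd_eq_innd_sc C h7 p).1 h
  obtain ⟨c, hc, hdet⟩ := hA'
  refine ⟨d ^ 2 * c, fun v => ?_, ?_⟩
  · rw [hd, mul_act, sc_act, C.smul, hc, Units.val_mul, Units.val_pow_eq_pow_val, mul_assoc]
  · rw [hd, Units.val_mul, sc_val, Matrix.smul_mul, Matrix.one_mul, Matrix.det_smul, hdet, hn,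
      Units.val_mul, Units.val_pow_eq_pow_val, mul_pow, pow_mul]

theorem inner_of_omega {s : O} (h2 : (2 : F) ≠ 0) (hd : (s : GL ι F).val.det = 1) (hs : spin Q s = 1) :
    innd (isoSim s) ∈ Cfsg.Inn P := by
  obtain ⟨A, hA, hA'⟩ := conj_mk_eq C h7 p (⟨s, by
    show s ∈ commutator _
    rw [(omega_odd C h2 (by omega)).1, MonoidHom.mem_ker]
    exact Prod.ext (Units.ext hd) hs⟩ : ↥(Cfsg.Omega F Q))
  exact ⟨_, hA'.symm.trans (congrArg innd (Subtype.ext hA))⟩

include hn h2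

variable (hsim : ∀ c : F, c ≠ 0 → ∃ g : GL ι F, ∀ v, Q (g.val *ᵥ v) = c * Q v)

omit p [Fact p.Prime] [CharP F p] in
include hsim in
theorem exists_pos_nonsquare : ∃ A ∈ pos Q n, ∃ c : F, ¬ IsSquare c ∧ ∀ v, Q (A.1.val *ᵥ v) = c * Q v := by
  obtain ⟨α, hα⟩ := FiniteField.exists_nonsquare (F := F) (fun hc => h2 (by
    haveI := ringChar.of_eq hc; exact CharTwo.two_eq_zero))
  have hα0 : α ≠ 0 := fun h => hα (h ▸ ⟨0, (mul_zero 0).symm⟩)
  obtain ⟨g, hg⟩ := hsim α hα0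
  rcases det_eq_or C hn hg with h | h
  · exact ⟨⟨g, Units.mk0 α hα0, hg⟩, ⟨Units.mk0 α hα0, hg, h⟩, α, hα, hg⟩
  · obtain ⟨v, hv⟩ := Cfsg.Lib.H3.exists_nonsing_vec C (by omega)
    have hg' : ∀ x, Q ((rGL Q v * g).val *ᵥ x) = α * Q x := fun x => by
      rw [mul_act, mem_iso.1 (rGL_mem C hv), hg]
    refine ⟨⟨rGL Q v * g, Units.mk0 α hα0, hg'⟩, ⟨Units.mk0 α hα0, hg', ?_⟩, α, hα, hg'⟩
    show (rGL Q v * g).val.det = _
    rw [Units.val_mul, Matrix.det_mul, rGL_det C hv, h, Units.val_mk0]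
    ring

omit hsim

theorem soImage_le_map : (soImage : Subgroup (MulAut P)) ≤ (pos Q n).map (innd : GS →* MulAut P) := by
  intro β hβ
  obtain ⟨s, hs, rfl⟩ := mem_soImage.1 hβ
  exact ⟨isoSim s, ⟨1, fun v => by rw [Units.val_one, one_mul]; exact mem_iso.1 s.2 v,
    by rw [Units.val_one, one_pow]; exact hs⟩, rfl⟩

theorem not_mem_soImage {A : GS} {c : F} (hA : ∀ v, Q (A.1.val *ᵥ v) = c * Q v) (hc : ¬ IsSquare c) :
    innd A ∉ (soImage : Subgroup (MulAut P)) := by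
  intro h
  obtain ⟨s, -, e⟩ := mem_soImage.1 h
  obtain ⟨d, hd⟩ := (innd_eq_innd_sc C h7 p).1 e.symm
  change A.1 = sc d * (s : GL ι F) at hd
  refine hc ⟨d, mult_unique C h7 hA fun v => ?_⟩
  rw [hd, mul_act, sc_act, C.smul, mem_iso.1 s.2, sq]

theorem refl_not_mem_map {v : ι → F} (hv : Q v ≠ 0) :
    innd (isoSim (rI C v hv)) ∉ (pos Q n).map (innd : GS →* MulAut P) := by
  rintro ⟨A, hA, e⟩
  obtain ⟨c, hc, hd⟩ := mem_pos_of_innd_eq C h7 p e.symm hA hn
  have h1 : (c : F) = 1 := mult_unique C h7 hc fun x => by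
    rw [one_mul]; exact mem_iso.1 (rI C v hv).2 x
  rw [h1, one_pow] at hd
  change (rI C v hv : GL ι F).val.det = 1 at hd
  rw [rI_val, rGL_det C hv] at hd
  exact h2 (by linear_combination -hd)

include hsim

theorem relIndex_map : (soImage : Subgroup (MulAut P)).relIndex ((pos Q n).map (innd : GS →* MulAut P)) = 2 ∧
    ((pos Q n).map (innd : GS →* MulAut P)).relIndex (Cfsg.pgoAut F Q) = 2 := by
  set K := (pos Q n).map (innd : GS →* MulAut P) with hK
  have hKle : K ≤ Cfsg.pgoAut F Q := by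
    rw [← range_eq_pgo, hK]; exact Subgroup.map_le_range _ _
  obtain ⟨φ, hφ, hker⟩ := Cfsg.Lib.H3.pgo_mod_pso C h2 hn h7 hsim
  have h4 : (Cfsg.psoAut F Q).relIndex (Cfsg.pgoAut F Q) = 4 := by
    rw [Subgroup.relIndex, ← hker, Subgroup.index_ker, MonoidHom.range_eq_top.2 hφ, Subgroup.card_top,
      Nat.card_congr Multiplicative.toAdd, Nat.card_prod, Nat.card_zmod]
  rw [← soImage_eq_pso, ← Subgroup.relIndex_mul_relIndex _ _ _ (soImage_le_map C h7 p hn h2) hKle] at h4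
  have hne1 : (soImage : Subgroup (MulAut P)).relIndex K ≠ 1 := by
    rw [Ne, Subgroup.relIndex_eq_one]
    intro h
    obtain ⟨A, hA, c, hc, hAc⟩ := exists_pos_nonsquare C h7 hn h2 hsim
    exact not_mem_soImage C h7 p hn h2 hAc hc (h ⟨A, hA, rfl⟩)
  have hne2 : K.relIndex (Cfsg.pgoAut F Q) ≠ 1 := by
    rw [Ne, Subgroup.relIndex_eq_one]
    intro h
    obtain ⟨v, hv⟩ := Cfsg.Lib.H3.exists_nonsing_vec C (by omega)
    exact refl_not_mem_map C h7 p hn h2 hv (h (by rw [← range_eq_pgo]; exact ⟨_, rfl⟩))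
  obtain ⟨k, hk, e⟩ := (Nat.dvd_prime_pow Nat.prime_two).1 (Dvd.intro _ h4 : _ ∣ 2 ^ 2)
  interval_cases k
  · exact absurd e hne1
  · rw [e, pow_one] at h4
    exact ⟨by rw [hK, e, pow_one], by rw [hK]; omega⟩
  · rw [e, show (2 : ℕ) ^ 2 = 4 by norm_num] at h4
    exact absurd (by rw [hK]; omega) hne2

theorem relIndex_inn_map :
    ((∃ g : O, g ∈ Cfsg.Omega F Q ∧ (g : GL ι F).val = -1) →
      (Cfsg.Inn P).relIndex ((pos Q n).map (innd : GS →* MulAut P)) = 4 ∧
      (Cfsg.Inn P).relIndex (Cfsg.pgoAut F Q) = 8) ∧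
    ((¬ ∃ g : O, g ∈ Cfsg.Omega F Q ∧ (g : GL ι F).val = -1) →
      (Cfsg.Inn P).relIndex ((pos Q n).map (innd : GS →* MulAut P)) = 2) := by
  obtain ⟨hA, hB⟩ := Cfsg.Lib.H3.inn_relIndex_pso C h2 ⟨n, by omega⟩ h7
  obtain ⟨h21, h22⟩ := relIndex_map C h7 p hn h2 hsim
  have hle2 := soImage_le_map C h7 p hn h2
  have hle3 : (pos Q n).map (innd : GS →* MulAut P) ≤ Cfsg.pgoAut F Q := by
    rw [← range_eq_pgo]; exact Subgroup.map_le_range _ _
  have e1 := Subgroup.relIndex_mul_relIndex _ _ _ (inn_le_soImage C) hle2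
  have e2 := Subgroup.relIndex_mul_relIndex (Cfsg.Inn P) _ _ ((inn_le_soImage C).trans hle2) hle3
  rw [soImage_eq_pso] at e1 h21
  rw [h21] at e1
  rw [h22] at e2
  refine ⟨fun h => ?_, fun h => ?_⟩
  · rw [hA h] at e1
    rw [← e1] at e2 ⊢
    exact ⟨rfl, e2.symm⟩
  · rw [hB h] at e1
    exact e1.symm

/-- Without `-1` in `Ω` the conformal group is a four-group modulo inner automorphisms. -/
theorem pgo_klein (hno : ¬ ∃ g : O, g ∈ Cfsg.Omega F Q ∧ (g : GL ι F).val = -1) :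
    ∃ φ : ↥(Cfsg.pgoAut F Q) →* Multiplicative (ZMod 2 × ZMod 2), Function.Surjective φ ∧
      φ.ker = (Cfsg.Inn P).subgroupOf (Cfsg.pgoAut F Q) := by
  have h1 := (Cfsg.Lib.H3.inn_relIndex_pso C h2 ⟨n, by omega⟩ h7).2 hno
  rw [Subgroup.relIndex_eq_one] at h1
  rw [le_antisymm (((inn_le_soImage C).trans_eq soImage_eq_pso)) h1]
  exact Cfsg.Lib.H3.pgo_mod_pso C h2 hn h7 hsim

set_option maxHeartbeats 1600000 in
/-- With `-1` in `Ω` it is dihedral of order eight. -/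
theorem pgo_dihedral (hz : ∃ g : O, g ∈ Cfsg.Omega F Q ∧ (g : GL ι F).val = -1) :
    ∃ φ : ↥(Cfsg.pgoAut F Q) →* DihedralGroup 4, Function.Surjective φ ∧
      φ.ker = (Cfsg.Inn P).subgroupOf (Cfsg.pgoAut F Q) := by
  refine exists_hom_of_quot _ _ ?_
  have h8 := ((relIndex_inn_map C h7 p hn h2 hsim).1 hz).2
  have hcard : Nat.card (↥(Cfsg.pgoAut F Q) ⧸ (Cfsg.Inn P).subgroupOf (Cfsg.pgoAut F Q)) = 8 :=
    (card_quot _ _).trans h8
  haveI := Nat.finite_of_card_ne_zero (by rw [hcard]; omega : Nat.card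
    (↥(Cfsg.pgoAut F Q) ⧸ (Cfsg.Inn P).subgroupOf (Cfsg.pgoAut F Q)) ≠ 0)
  have hmem : ∀ X : GS, innd X ∈ Cfsg.pgoAut F Q := fun X => by rw [← range_eq_pgo]; exact ⟨X, rfl⟩
  let π : GS →* (↥(Cfsg.pgoAut F Q) ⧸ (Cfsg.Inn P).subgroupOf (Cfsg.pgoAut F Q)) :=
    (QuotientGroup.mk' _).comp ((innd : GS →* MulAut P).codRestrict _ hmem)
  have hπ : ∀ X, π X = 1 → innd X ∈ Cfsg.Inn P := fun X h => by
    simpa [π, QuotientGroup.eq_one_iff, Subgroup.mem_subgroupOf] using h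
  obtain ⟨v, hv⟩ := Cfsg.Lib.H3.exists_nonsing_vec C (by omega)
  obtain ⟨A, hApos, c, hc, hAc⟩ := exists_pos_nonsquare C h7 hn h2 hsim
  set r := rI C v hv with hr
  refine iso_dihedral hcard (s := π (isoSim r)) (d := π A) ?_ fun h => ?_
  · rw [← map_mul, ← map_mul, hr, rI_sq, map_one, map_one]
  obtain ⟨u', hu', hspin⟩ := spin_conj C h7 p h2 hc hAc r
  have hdetu : (u' : GL ι F).val.det = -1 := by
    have e' : Matrix.GeneralLinearGroup.det (A.1 * (r : GL ι F) * A.1⁻¹) =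
        Matrix.GeneralLinearGroup.det (r : GL ι F) := by simp
    rw [hu']
    refine (congrArg Units.val e').trans ?_
    show (r : GL ι F).val.det = -1
    rw [hr, rI_val, rGL_det C hv]
  have hcomm : A * isoSim r = isoSim u' * A := Subtype.ext (by
    show A.1 * (r : GL ι F) = (u' : GL ι F) * A.1
    rw [hu', inv_mul_cancel_right])
  rw [← map_mul π A, hcomm, map_mul] at h
  have h1 : π (isoSim (u'⁻¹ * r)) = 1 := by
    rw [map_mul, map_inv, map_mul, map_inv, inv_mul_eq_one, mul_right_cancel h]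
  have hvdet : ((u'⁻¹ * r : O) : GL ι F).val.det = 1 := by
    have e' : Matrix.GeneralLinearGroup.det (((u'⁻¹ * r : O)) : GL ι F) =
        (Matrix.GeneralLinearGroup.det (u' : GL ι F))⁻¹ * Matrix.GeneralLinearGroup.det (r : GL ι F) := by simp
    refine (congrArg Units.val e').trans ?_
    rw [Units.val_mul, Units.val_inv_eq_inv_val]
    show (u' : GL ι F).val.det⁻¹ * (r : GL ι F).val.det = 1
    rw [hdetu, hr, rI_val, rGL_det C hv]; norm_num
  have hs1 := spin_of_inn C h7 p h2 hz hvdet (hπ _ h1)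
  rw [map_mul, map_inv, inv_mul_eq_one] at hs1
  rw [← hs1, Int.units_mul_self, map_one] at hspin
  have h3 := congrArg Units.val hspin
  change (1 : F) = (r : GL ι F).val.det at h3
  rw [hr, rI_val, rGL_det C hv] at h3
  exact h2 (by linear_combination h3)

/-- Without `-1` in `Ω` the inner-diagonal group has index two over the inner automorphisms. -/
theorem pos_two (hno : ¬ ∃ g : O, g ∈ Cfsg.Omega F Q ∧ (g : GL ι F).val = -1) :
    ∃ φ : ↥((pos Q n).map (innd : GS →* MulAut P)) →* Multiplicative (ZMod 2), Function.Surjective φ ∧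
      φ.ker = (Cfsg.Inn P).subgroupOf ((pos Q n).map (innd : GS →* MulAut P)) := by
  refine exists_hom_of_quot _ _ ?_
  have hcard : Nat.card (↥((pos Q n).map (innd : GS →* MulAut P)) ⧸
      (Cfsg.Inn P).subgroupOf ((pos Q n).map (innd : GS →* MulAut P))) = 2 :=
    (card_quot _ _).trans ((relIndex_inn_map C h7 p hn h2 hsim).2 hno)
  haveI : Fact (Nat.Prime 2) := ⟨Nat.prime_two⟩
  haveI := isCyclic_of_prime_card hcard
  exact ⟨mulEquivOfCyclicCardEq (by rw [hcard, Nat.card_congr Multiplicative.toAdd, Nat.card_zmod])⟩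

set_option maxHeartbeats 1600000 in
/-- With `-1` in `Ω`: the square of a nonsquare-multiplier element decides the shape. -/
theorem pos_four_klein (hz : ∃ g : O, g ∈ Cfsg.Omega F Q ∧ (g : GL ι F).val = -1)
    {A : GS} (hA : A ∈ pos Q n) {c : F} (hc : ¬ IsSquare c) (hAc : ∀ v, Q (A.1.val *ᵥ v) = c * Q v)
    {s : O} {d : Fˣ} (hAA : A.1 * A.1 = sc d * (s : GL ι F)) (hsdet : (s : GL ι F).val.det = 1) :
    (spin Q s = 1 → ∃ φ : ↥((pos Q n).map (innd : GS →* MulAut P)) →* Multiplicative (ZMod 2 × ZMod 2),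
      Function.Surjective φ ∧ φ.ker = (Cfsg.Inn P).subgroupOf ((pos Q n).map (innd : GS →* MulAut P))) := by
  set K := (pos Q n).map (innd : GS →* MulAut P) with hK
  have hcard : Nat.card (↥K ⧸ (Cfsg.Inn P).subgroupOf K) = 4 :=
    (card_quot _ _).trans ((relIndex_inn_map C h7 p hn h2 hsim).1 hz).1
  haveI := Nat.finite_of_card_ne_zero (by rw [hcard]; omega : Nat.card (↥K ⧸ (Cfsg.Inn P).subgroupOf K) ≠ 0)
  let π : ↥(pos Q n) →* (↥K ⧸ (Cfsg.Inn P).subgroupOf K) :=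
    (QuotientGroup.mk' _).comp ((innd : GS →* MulAut P).subgroupMap (pos Q n))
  have hπ : ∀ X, π X = 1 ↔ innd (X : GS) ∈ Cfsg.Inn P := fun X => by
    rw [MonoidHom.comp_apply, QuotientGroup.mk'_apply, QuotientGroup.eq_one_iff, Subgroup.mem_subgroupOf,
      MonoidHom.subgroupMap_apply_coe]
  set δ : ↥K ⧸ (Cfsg.Inn P).subgroupOf K := π ⟨A, hA⟩ with hδ
  have hsq : innd (A * A) = innd (isoSim s) := (innd_eq_innd_sc C h7 p).2 ⟨d, hAA⟩
  have hδ1 : δ ≠ 1 := by
    intro h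
    rw [hδ] at h
    have h' := (hπ ⟨A, hA⟩).1 h
    simp only [Subgroup.coe_mk] at h'
    exact not_mem_soImage C h7 p hn h2 hAc hc (inn_le_soImage C h')
  have hδ2 : δ * δ = 1 ↔ spin Q s = 1 := by
    rw [hδ, ← map_mul, hπ, Subgroup.coe_mul]
    simp only [Subgroup.coe_mk]
    rw [hsq]
    exact ⟨spin_of_inn C h7 p h2 hz hsdet, inner_of_omega C h7 p h2 hsdet⟩
  intro h
  · refine exists_hom_of_quot _ _ ?_
    obtain ⟨α, hα⟩ := FiniteField.exists_nonsquare (F := F) (fun hc => h2 (by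
      haveI := ringChar.of_eq hc; exact CharTwo.two_eq_zero))
    have hα0 : α ≠ 0 := fun h => hα (h ▸ ⟨0, (mul_zero 0).symm⟩)
    obtain ⟨v1, hv1⟩ := exists_value C h2 (by omega) (one_ne_zero : (1 : F) ≠ 0)
    obtain ⟨va, hva⟩ := exists_value C h2 (by omega) hα0
    have h1 : Q v1 ≠ 0 := by rw [hv1]; exact one_ne_zero
    have ha : Q va ≠ 0 := by rw [hva]; exact hα0
    set t := rI C v1 h1 * rI C va ha with htdef
    have htd : (t : GL ι F).val.det = 1 := by
      rw [htdef, Subgroup.coe_mul, Units.val_mul, Matrix.det_mul, rI_val, rI_val, rGL_det C h1, rGL_det C ha]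
      norm_num
    have hts : spin Q t = -1 := by
      rw [htdef, map_mul, spin_rI C h2, spin_rI C h2, hv1, hva, if_pos IsSquare.one, if_neg hα, mul_one]
    have htp : isoSim t ∈ pos Q n :=
      ⟨1, fun v => by rw [Units.val_one, one_mul]; exact mem_iso.1 t.2 v,
        by rw [Units.val_one, one_pow]; exact htd⟩
    have htt : spin Q (t * t) = 1 := by rw [map_mul, Int.units_mul_self]
    have hττ : π ⟨isoSim t, htp⟩ * π ⟨isoSim t, htp⟩ = 1 := by
      rw [← map_mul, hπ, Subgroup.coe_mul]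
      simp only [Subgroup.coe_mk]
      rw [← map_mul isoSim]
      exact inner_of_omega C h7 p h2 (by rw [Subgroup.coe_mul, Units.val_mul, Matrix.det_mul, htd, one_mul]) htt
    refine klein_of_card hcard hττ (hδ2.2 h) (fun e => ?_) hδ1 fun e => ?_
    · have e' := (hπ ⟨isoSim t, htp⟩).1 e
      simp only [Subgroup.coe_mk] at e'
      have := spin_of_inn C h7 p h2 hz htd e'
      rw [hts] at this
      exact absurd this (by decide)
    · rw [hδ, ← inv_mul_eq_one, ← map_inv, ← map_mul, hπ, Subgroup.coe_mul, Subgroup.coe_inv] at e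
      simp only [Subgroup.coe_mk, map_mul, map_inv] at e
      have hm : innd (isoSim t) * ((innd (isoSim t))⁻¹ * innd A) ∈ (soImage : Subgroup (MulAut P)) := by
        exact mul_mem (mem_soImage.2 ⟨t, htd, rfl⟩) (inn_le_soImage C e)
      rw [mul_inv_cancel_left] at hm
      exact not_mem_soImage C h7 p hn h2 hAc hc hm

set_option maxHeartbeats 1600000 in
/-- With `-1` in `Ω`: the square of a nonsquare-multiplier element decides the shape. -/
theorem pos_four_cyclic (hz : ∃ g : O, g ∈ Cfsg.Omega F Q ∧ (g : GL ι F).val = -1)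
    {A : GS} (hA : A ∈ pos Q n) {c : F} (hc : ¬ IsSquare c) (hAc : ∀ v, Q (A.1.val *ᵥ v) = c * Q v)
    {s : O} {d : Fˣ} (hAA : A.1 * A.1 = sc d * (s : GL ι F)) (hsdet : (s : GL ι F).val.det = 1) :
    (spin Q s = -1 → ∃ φ : ↥((pos Q n).map (innd : GS →* MulAut P)) →* Multiplicative (ZMod 4),
      Function.Surjective φ ∧ φ.ker = (Cfsg.Inn P).subgroupOf ((pos Q n).map (innd : GS →* MulAut P))) := by
  set K := (pos Q n).map (innd : GS →* MulAut P) with hK
  have hcard : Nat.card (↥K ⧸ (Cfsg.Inn P).subgroupOf K) = 4 :=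
    (card_quot _ _).trans ((relIndex_inn_map C h7 p hn h2 hsim).1 hz).1
  haveI := Nat.finite_of_card_ne_zero (by rw [hcard]; omega : Nat.card (↥K ⧸ (Cfsg.Inn P).subgroupOf K) ≠ 0)
  let π : ↥(pos Q n) →* (↥K ⧸ (Cfsg.Inn P).subgroupOf K) :=
    (QuotientGroup.mk' _).comp ((innd : GS →* MulAut P).subgroupMap (pos Q n))
  have hπ : ∀ X, π X = 1 ↔ innd (X : GS) ∈ Cfsg.Inn P := fun X => by
    rw [MonoidHom.comp_apply, QuotientGroup.mk'_apply, QuotientGroup.eq_one_iff, Subgroup.mem_subgroupOf,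
      MonoidHom.subgroupMap_apply_coe]
  set δ : ↥K ⧸ (Cfsg.Inn P).subgroupOf K := π ⟨A, hA⟩ with hδ
  have hsq : innd (A * A) = innd (isoSim s) := (innd_eq_innd_sc C h7 p).2 ⟨d, hAA⟩
  have hδ1 : δ ≠ 1 := by
    intro h
    rw [hδ] at h
    have h' := (hπ ⟨A, hA⟩).1 h
    simp only [Subgroup.coe_mk] at h'
    exact not_mem_soImage C h7 p hn h2 hAc hc (inn_le_soImage C h')
  have hδ2 : δ * δ = 1 ↔ spin Q s = 1 := by
    rw [hδ, ← map_mul, hπ, Subgroup.coe_mul]
    simp only [Subgroup.coe_mk]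
    rw [hsq]
    exact ⟨spin_of_inn C h7 p h2 hz hsdet, inner_of_omega C h7 p h2 hsdet⟩
  intro h
  · refine exists_hom_of_quot _ _ ?_
    have hord : orderOf δ = 2 ^ (1 + 1) := by
      haveI : Fact (Nat.Prime 2) := ⟨Nat.prime_two⟩
      refine orderOf_eq_prime_pow ?_ ?_
      · rw [pow_one, sq, hδ2, h]; decide
      · rw [show (2 : ℕ) ^ (1 + 1) = 4 by norm_num, ← hcard, pow_card_eq_one']
    haveI := isCyclic_of_orderOf_eq_card δ (by rw [hord, hcard]; norm_num)
    exact ⟨mulEquivOfCyclicCardEq (by rw [hcard, Nat.card_congr Multiplicative.toAdd, Nat.card_zmod])⟩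


end Cfsg.Lib.H3.InndiagMod
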