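import Cfsg.Agent.Lib.H3.SingularClass
import Cfsg.Agent.Lib.H3.InndiagMod
import Cfsg.Agent.Lib.Linear.OrthForms
import Cfsg.Agent.Lib.Linear.OrthLevi

/-!
# Inputs for the structure of `Inndiag / Inn` for `PΩ±`
-/

set_option autoImplicit false

namespace Cfsg.Lib.H3.InndiagMod

open Module Cfsg.Lib.Linear.Orth Cfsg.Lib.Linear.AutPO
open Cfsg.Lib.Linear.Descent (sc sc_val)
open scoped Matrix

set_option quotPrecheck false

variable {F : Type*} [Field F] [Fintype F] {m : ℕ}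

theorem inndiag_plus_eq (h2 : (2 : F) ≠ 0) :
    Cfsg.inndiagPOmegaPlus m F = (pos (Cfsg.quadFormPlus m F) m).map innd := by
  obtain ⟨B, C⟩ := exists_space_plus (F := F) m
  refine le_antisymm ((Subgroup.closure_le _).2 ?_) ?_
  · rintro β ⟨g, hg, hp, hβ⟩
    obtain ⟨c, hc⟩ := id hg
    exact ⟨⟨g, hg⟩, ⟨c, hc, (Singular.preserves_plus_iff h2 m c.ne_zero hc C).1 hp⟩,
      (eq_semiAut (isSemi_sim ⟨g, hg⟩) hβ).symm⟩
  · rintro _ ⟨A, ⟨c, hc, hd⟩, rfl⟩
    exact Subgroup.subset_closure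
      ⟨A.1, A.2, (Singular.preserves_plus_iff h2 m c.ne_zero hc C).2 hd, isInduced_innd A⟩

theorem inndiag_minus_eq (h2 : (2 : F) ≠ 0) {a b : F}
    (hab : ∀ z₁ z₂ : F, z₁ ^ 2 + a * z₁ * z₂ + b * z₂ ^ 2 = 0 → z₁ = 0 ∧ z₂ = 0) :
    Cfsg.inndiagPOmegaMinus m F a b = (pos (Cfsg.quadFormMinus m F a b) (m + 1)).map innd := by
  obtain ⟨B, C⟩ := exists_space_minus (F := F) m a b hab
  refine le_antisymm ((Subgroup.closure_le _).2 ?_) ?_
  · rintro β ⟨g, hg, hp, hβ⟩
    obtain ⟨c, hc⟩ := id hg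
    exact ⟨⟨g, hg⟩, ⟨c, hc, (Singular.preserves_minus_iff hab h2 m c.ne_zero hc C).1 hp⟩,
      (eq_semiAut (isSemi_sim ⟨g, hg⟩) hβ).symm⟩
  · rintro _ ⟨A, ⟨c, hc, hd⟩, rfl⟩
    exact Subgroup.subset_closure
      ⟨A.1, A.2, (Singular.preserves_minus_iff hab h2 m c.ne_zero hc C).2 hd, isInduced_innd A⟩

theorem exists_sim_plus (hm : 1 ≤ m) {c : F} (hc : c ≠ 0) :
    ∃ g : GL (Fin m ⊕ Fin m) F, ∀ v, Cfsg.quadFormPlus m F (g.val *ᵥ v) = c * Cfsg.quadFormPlus m F v := by
  have hM : Matrix.fromBlocks (Matrix.diagonal fun _ : Fin m => c) 0 0 (1 : Matrix (Fin m) (Fin m) F) *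
      Matrix.fromBlocks (Matrix.diagonal fun _ : Fin m => c⁻¹) 0 0 1 = 1 := by
    simp [Matrix.fromBlocks_multiply, hc]
  refine ⟨toGL (Matrix.fromBlocks (Matrix.diagonal fun _ : Fin m => c) 0 0 (1 : Matrix (Fin m) (Fin m) F)), fun v => ?_⟩
  rw [toGL_val hM, Matrix.fromBlocks_mulVec]
  simp only [Cfsg.quadFormPlus, Sum.elim_inl, Sum.elim_inr, Matrix.zero_mulVec, add_zero, zero_add,
    Matrix.one_mulVec, Matrix.mulVec_diagonal, Finset.mul_sum, Function.comp_apply, mul_assoc]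

/-- The standard element of nonsquare multiplier, plus type. -/
theorem exists_element_plus (h2 : (2 : F) ≠ 0) :
    ∃ A ∈ pos (Cfsg.quadFormPlus m F) m, ∃ c : F, ¬ IsSquare c ∧
      (∀ v, Cfsg.quadFormPlus m F (A.1.val *ᵥ v) = c * Cfsg.quadFormPlus m F v) ∧
      ∃ (s : ↥(isometryGroup F (Cfsg.quadFormPlus m F))) (d : Fˣ),
        A.1 * A.1 = sc d * (s : GL (Fin m ⊕ Fin m) F) ∧ (s : GL (Fin m ⊕ Fin m) F).val.det = 1 ∧
        spin (Cfsg.quadFormPlus m F) s = (-1) ^ m := by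
  classical
  obtain ⟨α, hα⟩ := FiniteField.exists_nonsquare (F := F) (fun hc => h2 (by
    haveI := ringChar.of_eq hc; exact CharTwo.two_eq_zero))
  have hc : α ≠ 0 := fun h => hα (h ▸ ⟨0, (mul_zero 0).symm⟩)
  let c : Fˣ := Units.mk0 α hc
  have hM : Matrix.fromBlocks (Matrix.diagonal fun _ : Fin m => α) 0 0 (1 : Matrix (Fin m) (Fin m) F) *
      Matrix.fromBlocks (Matrix.diagonal fun _ : Fin m => α⁻¹) 0 0 1 = 1 := by
    simp [Matrix.fromBlocks_multiply, hc]
  set g := toGL (Matrix.fromBlocks (Matrix.diagonal fun _ : Fin m => α) 0 0 (1 : Matrix (Fin m) (Fin m) F)) with hg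
  have hgv : g.val = Matrix.fromBlocks (Matrix.diagonal fun _ : Fin m => α) 0 0 (1 : Matrix (Fin m) (Fin m) F) := toGL_val hM
  have hgs : ∀ v, Cfsg.quadFormPlus m F (g.val *ᵥ v) = (c : F) * Cfsg.quadFormPlus m F v := fun v => by
    rw [hgv, Matrix.fromBlocks_mulVec]
    simp only [Cfsg.quadFormPlus, Sum.elim_inl, Sum.elim_inr, Matrix.zero_mulVec, add_zero, zero_add,
      Matrix.one_mulVec, Matrix.mulVec_diagonal, Finset.mul_sum, Function.comp_apply, mul_assoc, c, Units.val_mk0]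
  have hgd : g.val.det = (c : F) ^ m := by
    rw [hgv, Matrix.det_fromBlocks_zero₂₁, Matrix.det_one, mul_one, Matrix.det_diagonal, Finset.prod_const,
      Finset.card_univ, Fintype.card_fin]
    rfl
  refine ⟨⟨g, c, hgs⟩, ⟨c, hgs, hgd⟩, α, hα, hgs, lev m (dUnit fun _ => c), c, ?_, ?_, ?_⟩
  · refine Units.ext ?_
    rw [Units.val_mul, Units.val_mul, hgv, sc_val, Matrix.smul_mul, Matrix.one_mul, lev_val,
      Matrix.fromBlocks_multiply, Matrix.fromBlocks_smul]
    have hi : ((dUnit fun _ : Fin m => c)⁻¹ : GL (Fin m) F).val = Matrix.diagonal fun _ => α⁻¹ := by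
      rw [show ((dUnit fun _ : Fin m => c)⁻¹ : GL (Fin m) F).val = Matrix.diagonal fun _ => ((c⁻¹ : Fˣ) : F)
        from rfl]
      simp [c]
    rw [hi]
    ext (i | i) (j | j) <;>
      simp [dUnit, c, Matrix.diagonal_apply, Matrix.one_apply, apply_ite (α * ·), hc]
  · have h := congrArg Prod.fst (detSpin_lev_diag (F := F) (m := m) h2 fun _ => c)
    exact congrArg Units.val h
  · have h := congrArg Prod.snd (detSpin_lev_diag (F := F) (m := m) h2 fun _ => c)
    refine h.trans ?_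
    show sqSign (∏ _i : Fin m, (c : F)) = _
    rw [Finset.prod_const, Finset.card_univ, Fintype.card_fin]
    have key : ∀ k, sqSign ((c : F) ^ k) = (-1 : ℤˣ) ^ k := fun k => by
      induction k with
      | zero => rw [pow_zero, pow_zero, sqSign_eq_one]; exact IsSquare.one
      | succ k ih =>
        rw [pow_succ, sqSign_mul h2 (pow_ne_zero _ c.ne_zero) c.ne_zero, ih, pow_succ]
        congr 1
        show (if IsSquare α then (1 : ℤˣ) else -1) = -1
        rw [if_neg hα]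
    exact key m

set_option maxHeartbeats 1000000 in
/-- The standard element of multiplier `-1`, minus type with `q ≡ 3 (mod 4)` and `m` even. -/
theorem exists_element_minus (h2 : (2 : F) ≠ 0) {a b : F}
    (hab : ∀ z₁ z₂ : F, z₁ ^ 2 + a * z₁ * z₂ + b * z₂ ^ 2 = 0 → z₁ = 0 ∧ z₂ = 0)
    (hm : Even m) (hneg : ¬ IsSquare (-1 : F)) :
    ∃ A ∈ pos (Cfsg.quadFormMinus m F a b) (m + 1), ∃ c : F, ¬ IsSquare c ∧
      (∀ v, Cfsg.quadFormMinus m F a b (A.1.val *ᵥ v) = c * Cfsg.quadFormMinus m F a b v) ∧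
      ∃ (s : ↥(isometryGroup F (Cfsg.quadFormMinus m F a b))) (d : Fˣ),
        A.1 * A.1 = sc d * (s : GL ((Fin m ⊕ Fin m) ⊕ Fin 2) F) ∧
        (s : GL ((Fin m ⊕ Fin m) ⊕ Fin 2) F).val.det = 1 ∧ spin (Cfsg.quadFormMinus m F a b) s = -1 := by
  classical
  obtain ⟨B, C⟩ := exists_space_minus (F := F) m a b hab
  have hD : ¬ IsSquare (a ^ 2 - 4 * b) := Singular.disc_not_square h2 hab
  have hchar : ringChar F ≠ 2 := fun hc => h2 (by haveI := ringChar.of_eq hc; exact CharTwo.two_eq_zero)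
  obtain ⟨u, v, huv⟩ : ∃ u v : F, u ^ 2 + a * u * v + b * v ^ 2 = -1 := by
    obtain ⟨h, ha⟩ : ∃ h, a = 2 * h := ⟨a / 2, by field_simp⟩
    have hδ : b - h ^ 2 ≠ 0 := fun e => hD (by
      rw [show a ^ 2 - 4 * b = 0 by linear_combination (-4 : F) * e + (a + 2 * h) * ha]
      exact IsSquare.zero)
    obtain ⟨x, y, hxy⟩ := FiniteField.exists_root_sum_quadratic (R := F)
      (f := Polynomial.X ^ 2 + Polynomial.C 1) (g := Polynomial.C (b - h ^ 2) * Polynomial.X ^ 2)
      (Polynomial.degree_X_pow_add_C two_pos 1) (Polynomial.degree_C_mul_X_pow 2 hδ)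
      (FiniteField.odd_card_of_char_ne_two hchar)
    simp only [Polynomial.eval_add, Polynomial.eval_pow, Polynomial.eval_X, Polynomial.eval_C,
      Polynomial.eval_mul] at hxy
    refine ⟨x - h * y, y, ?_⟩
    linear_combination hxy + (x * y - h * y ^ 2) * ha
  set Q := Cfsg.quadFormMinus m F a b with hQ
  let D : Matrix (Fin 2) (Fin 2) F := !![u, -(b * v); v, u + a * v]
  let D' : Matrix (Fin 2) (Fin 2) F := !![-(u + a * v), -(b * v); v, -u]
  let T : Matrix (Fin m ⊕ Fin m) (Fin m ⊕ Fin m) F := Matrix.fromBlocks (-1) 0 0 1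
  have hM : Matrix.fromBlocks T 0 0 D * Matrix.fromBlocks T 0 0 D' = 1 := by
    rw [Matrix.fromBlocks_multiply]
    simp only [Matrix.mul_zero, Matrix.zero_mul, add_zero, zero_add]
    rw [show T * T = 1 by simp [T, Matrix.fromBlocks_multiply], show D * D' = 1 by
      ext i j
      fin_cases i <;> fin_cases j <;> simp [D, D', Matrix.mul_apply, Fin.sum_univ_two] <;>
        first | ring1 | linear_combination -huv, Matrix.fromBlocks_one]
  set g := toGL (Matrix.fromBlocks T 0 0 D) with hg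
  have hgv : g.val = Matrix.fromBlocks T 0 0 D := toGL_val hM
  have hgx : ∀ x, g.val *ᵥ x = Sum.elim (Sum.elim (fun i => -x (.inl (.inl i))) (fun i => x (.inl (.inr i))))
      ![u * x (.inr 0) - b * v * x (.inr 1), v * x (.inr 0) + (u + a * v) * x (.inr 1)] := fun x => by
    rw [hgv, Matrix.fromBlocks_mulVec]
    funext i
    rcases i with (i | i) | i
    · simp [T, Matrix.fromBlocks_mulVec, Matrix.neg_mulVec]
    · simp [T, Matrix.fromBlocks_mulVec]
    · fin_cases i <;> simp [D, Matrix.mulVec, dotProduct, Fin.sum_univ_two] <;> ring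
  have hgs : ∀ x, Q (g.val *ᵥ x) = ((-1 : Fˣ) : F) * Q x := fun x => by
    rw [hgx, hQ]
    simp [Cfsg.quadFormMinus, Finset.sum_neg_distrib]
    linear_combination (x (.inr 0) ^ 2 + a * x (.inr 0) * x (.inr 1) + b * x (.inr 1) ^ 2) * huv
  have hgd : g.val.det = ((-1 : Fˣ) : F) ^ (m + 1) := by
    rw [hgv, Matrix.det_fromBlocks_zero₂₁]
    simp only [T, D, Matrix.det_fromBlocks_zero₂₁, Matrix.det_one, mul_one, Matrix.det_neg, Fintype.card_fin,
      Matrix.det_fin_two_of, hm.neg_one_pow, one_mul, Units.val_neg, Units.val_one, pow_succ]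
    linear_combination huv
  -- the square as a product of reflections
  let e : (Fin m ⊕ Fin m) ⊕ Fin 2 → F := Sum.elim 0 ![1, 0]
  let f : (Fin m ⊕ Fin m) ⊕ Fin 2 → F := Sum.elim 0 ![a, -2]
  let w : (Fin m ⊕ Fin m) ⊕ Fin 2 → F := Sum.elim 0 ![u, v]
  have hQe : Q e = 1 := by simp [hQ, Cfsg.quadFormMinus, e]
  have hQf : Q f = -(a ^ 2 - 4 * b) := by simp [hQ, Cfsg.quadFormMinus, f]; ring
  have hQw : Q w = -1 := by simp [hQ, Cfsg.quadFormMinus, w]; linear_combination huv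
  have he : Q e ≠ 0 := by rw [hQe]; exact one_ne_zero
  have hf : Q f ≠ 0 := by
    rw [hQf, neg_ne_zero]; exact fun h => hD (h ▸ ⟨0, (mul_zero 0).symm⟩)
  have hw : Q w ≠ 0 := by rw [hQw]; simp
  set s := rI C e he * rI C f hf * (rI C w hw * rI C e he) with hs
  have hB : ∀ (p q : F) x, B (Sum.elim 0 ![p, q]) x =
      2 * p * x (.inr 0) + a * (p * x (.inr 1) + q * x (.inr 0)) + 2 * b * q * x (.inr 1) := fun p q x => by
    rw [← C.polar, QuadraticMap.polar]
    simp [hQ, Cfsg.quadFormMinus]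
    ring
  refine ⟨⟨g, -1, hgs⟩, ⟨-1, hgs, hgd⟩, -1, hneg, (fun x => (hgs x).trans (by simp)), s, 1, ?_, ?_, ?_⟩
  · rw [map_one, one_mul]
    refine gl_ext fun x => ?_
    show (g * g).val *ᵥ x = (rGL Q e * rGL Q f * (rGL Q w * rGL Q e)).val *ᵥ x
    have hne : a ^ 2 - 4 * b ≠ 0 := fun h => hD (h ▸ ⟨0, (mul_zero 0).symm⟩)
    have re : ∀ y, (rGL Q e).val *ᵥ y = Sum.elim (fun i => y (.inl i)) ![-y (.inr 0) - a * y (.inr 1), y (.inr 1)] :=
      fun y => by
      rw [rGL_act C he, hQe, hB]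
      funext i
      rcases i with i | i
      · simp [e]
      · fin_cases i <;> simp [e] <;> ring
    have rf : ∀ y, (rGL Q f).val *ᵥ y = Sum.elim (fun i => y (.inl i)) ![y (.inr 0) + a * y (.inr 1), -y (.inr 1)] :=
      fun y => by
      have hBf : B f y = (a ^ 2 - 4 * b) * y (.inr 1) := by
        show B (Sum.elim 0 ![a, -2]) y = _
        rw [hB]; ring
      rw [rGL_act C hf, hQf, hBf, ← mul_assoc, inv_neg, neg_mul, inv_mul_cancel₀ hne, neg_one_mul]
      funext i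
      rcases i with i | i
      · simp [f]
      · fin_cases i <;> simp [f] <;> ring
    have rw' : ∀ y, (rGL Q w).val *ᵥ y = Sum.elim (fun i => y (.inl i))
        ![y (.inr 0) + (2 * u * y (.inr 0) + a * (u * y (.inr 1) + v * y (.inr 0)) + 2 * b * v * y (.inr 1)) * u,
          y (.inr 1) + (2 * u * y (.inr 0) + a * (u * y (.inr 1) + v * y (.inr 0)) + 2 * b * v * y (.inr 1)) * v] :=
      fun y => by
      rw [rGL_act C hw, hQw, hB]
      funext i
      rcases i with i | i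
      · simp [w]
      · fin_cases i <;> simp [w] <;> ring
    simp only [mul_act, hgx, re, rf, rw', Sum.elim_inl, Sum.elim_inr, Matrix.cons_val_zero, Matrix.cons_val_one,
      neg_neg]
    funext i
    rcases i with (i | i) | i
    · simp
    · simp
    · fin_cases i
      · simp
        linear_combination (-(x (.inr 0)) - a * x (.inr 1)) * huv
      · simp
        linear_combination (x (.inr 1)) * huv
  · rw [hs, Subgroup.coe_mul, Subgroup.coe_mul, Subgroup.coe_mul, Units.val_mul, Units.val_mul, Units.val_mul,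
      Matrix.det_mul, Matrix.det_mul, Matrix.det_mul, rI_val, rI_val, rI_val, rGL_det C he, rGL_det C hf,
      rGL_det C hw]
    ring
  · have hne : a ^ 2 - 4 * b ≠ 0 := fun h => hD (h ▸ ⟨0, (mul_zero 0).symm⟩)
    have hsq : IsSquare (Q f) := by
      rw [hQf, ← quadraticChar_one_iff_isSquare (neg_ne_zero.2 hne), ← neg_one_mul, map_mul,
        quadraticChar_neg_one_iff_not_isSquare.2 hneg, quadraticChar_neg_one_iff_not_isSquare.2 hD]
      norm_num
    have hwns : ¬ IsSquare (Q w) := hQw.symm ▸ hneg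
    rw [hs, map_mul, map_mul, map_mul, spin_rI C h2, spin_rI C h2, spin_rI C h2]
    simp [hQe, hsq, hwns]

end Cfsg.Lib.H3.InndiagMod
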