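import Cfsg.Agent.Lib.Concrete.OctadStab
import Cfsg.Agent.Lib.H3.PermList
import Cfsg.Agent.S0445

/-!
The centraliser in M24 of an involution fixing an octad pointwise, as the centraliser of a transvection in SL(5, 2):
the octad stabiliser acts on the sixteen outside points as the affine group of dimension four.
-/

set_option autoImplicit false
set_option linter.style.haveILetI false

namespace Cfsg.Lib.H3.OctadInvolution

open Cfsg.Lib.Concrete Cfsg.Lib.H3.PermList MulAction
open scoped Pointwise

abbrev V4 : Type := Fin 4 → ZMod 2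

def transList : List ℕ := [984818244535754528103549039458486304, 976448692869377735270425038196672544, 965128854020860192151391391390468128, 983548720921252936276249910206105632, 963721886883755259286232606933354528, 980224387687010295957922729495201824, 961365507626256404119956257276790816, 972512676110088067912772961567868960, 968708902336673183175954409307867168, 981818691054096003685363657089320992, 970499966350631336865513127433832480, 966182099583441531322624363496310816, 971592882964418941354553515258775584, 979121071158219704299181131031480352, 967812279691448225500382947153381408, 975346028712660580592452217730074656]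

/-- The packed translation of a vector. -/
def tpk (v : V4) : ℕ := transList.getD ((v 0).val + 2 * (v 1).val + 4 * (v 2).val + 8 * (v 3).val) 0

/-- The origin among the sixteen points. -/
def origin : GolayPt := gpt 4

theorem tpk_ok : ∀ v : V4, okIn [] (tpk v) = true ∧
    (bits24.all fun i => !(Nat.testBit m24BaseOctad i) || Nat.beq (pget (tpk v) i) i) = true := by decide +kernel

theorem tpk_mul : ∀ v w : V4, prodCheck (tpk v) (tpk w) (tpk (v + w)) = true := by decide +kernel

theorem tpk_regular : (∀ v w : V4, pget (tpk v) (gidx origin).val = pget (tpk w) (gidx origin).val → v = w) ∧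
    ∀ v : V4, Nat.testBit m24BaseOctad (pget (tpk v) (gidx origin).val) = false := by decide +kernel

theorem exists_tr (v : V4) : ∃ g ∈ fixSet baseOctad, Rep g (tpk v) := by
  obtain ⟨g, hg, hr⟩ := exists_in (tpk_ok v).1
  refine ⟨g, mem_fixSet.2 ⟨hg.1, fun a ha => gidx_injective (Fin.ext ?_)⟩, hr⟩
  rw [hr]
  have h := List.all_eq_true.1 (tpk_ok v).2 _ (mem_bits24.2 (gidx a).isLt)
  rw [show Nat.testBit m24BaseOctad (gidx a).val = true from mem_mset.1 ha] at h
  simpa [Nat.beq_eq] using h

/-- The translation of a vector. -/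
noncomputable def tr (v : V4) : Equiv.Perm GolayPt := (exists_tr v).choose

theorem tr_mem (v : V4) : tr v ∈ fixSet baseOctad := (exists_tr v).choose_spec.1

theorem tr_rep (v : V4) : Rep (tr v) (tpk v) := (exists_tr v).choose_spec.2

theorem tr_add (v w : V4) : tr (v + w) = tr v * tr w :=
  (tr_rep (v + w)).ext ((tr_rep v).mul (tr_rep w) (tpk_mul v w))

theorem add_self_v (v : V4) : v + v = 0 := funext fun i => by
  show v i + v i = 0
  generalize v i = a; revert a; decide

theorem tr_zero : tr 0 = 1 := by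
  have h := tr_add 0 0
  rw [add_zero] at h
  exact mul_eq_left.1 h.symm

theorem origin_not_mem : origin ∉ baseOctad := by decide +kernel

theorem tr_origin_inj {v w : V4} (h : tr v origin = tr w origin) : v = w := by
  refine tpk_regular.1 v w ?_
  rw [← tr_rep v, ← tr_rep w, h]

theorem tr_injective : Function.Injective tr := fun v w h => tr_origin_inj (by rw [h])

theorem exists_tr_eq {g : Equiv.Perm GolayPt} (hg : g ∈ fixSet baseOctad) : ∃ v, tr v = g := by
  have hb : Function.Bijective (fun v : V4 => (⟨tr v, tr_mem v⟩ : fixSet baseOctad)) := by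
    rw [Nat.bijective_iff_injective_and_card]
    refine ⟨fun v w h => tr_injective (congrArg Subtype.val h), ?_⟩
    rw [card_fixSet_octad baseOctad_mem, Nat.card_eq_fintype_card]
    rfl
  obtain ⟨v, hv⟩ := hb.2 ⟨g, hg⟩
  exact ⟨v, congrArg Subtype.val hv⟩

theorem exists_tr_origin {x : GolayPt} (hx : x ∉ baseOctad) : ∃ v, tr v origin = x := by
  have hmem : ∀ v, tr v origin ∉ baseOctad := fun v h => by
    have h1 := mem_mset.1 h
    rw [tr_rep v] at h1
    exact absurd (h1.symm.trans (tpk_regular.2 v)) Bool.noConfusion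
  have hcard : baseOctadᶜ.card = Fintype.card V4 := by rw [Finset.card_compl, baseOctad_mem.2]; rfl
  have himg : Finset.univ.image (fun v => tr v origin) = baseOctadᶜ := by
    refine Finset.eq_of_subset_of_card_le (fun y hy => ?_) ?_
    · obtain ⟨v, -, rfl⟩ := Finset.mem_image.1 hy
      exact Finset.mem_compl.2 (hmem v)
    · rw [Finset.card_image_of_injective _ (fun v w h => tr_origin_inj h), hcard, Finset.card_univ]
  obtain ⟨v, -, hv⟩ := Finset.mem_image.1 (himg.symm ▸ Finset.mem_compl.2 hx)
  exact ⟨v, hv⟩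

/-- The first basis vector. -/
def e0 : V4 := ![1, 0, 0, 0]

/-- The involution. -/
noncomputable def zInv : ↥M24 := ⟨tr e0, (mem_fixSet.1 (tr_mem e0)).1⟩

theorem zInv_ne : tr e0 ≠ 1 := fun h => absurd (tr_injective (h.trans tr_zero.symm)) (by decide)

theorem orderOf_zInv : orderOf zInv = 2 := by
  refine orderOf_eq_prime (Subtype.ext ?_) (fun h => zInv_ne (congrArg Subtype.val h))
  show tr e0 ^ 2 = 1
  rw [pow_two, ← tr_add, add_self_v, tr_zero]

theorem zInv_fixed : (Finset.univ.filter fun p => (zInv : Equiv.Perm GolayPt) p = p) = baseOctad := by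
  ext x
  simp only [Finset.mem_filter, Finset.mem_univ, true_and]
  refine ⟨fun h => ?_, (mem_fixSet.1 (tr_mem e0)).2 x⟩
  by_contra hx
  apply zInv_ne
  refine eq_one_of_nine_fixed zInv.2 (s := insert x baseOctad)
    (by rw [Finset.card_insert_of_notMem hx, baseOctad_mem.2]) fun y hy => ?_
  rcases Finset.mem_insert.1 hy with rfl | hy
  · exact h
  · exact (mem_fixSet.1 (tr_mem e0)).2 y hy

/-- The centraliser. -/
noncomputable abbrev cz : Subgroup ↥M24 := Subgroup.centralizer ({zInv} : Set ↥M24)

theorem cz_comm {g : ↥M24} (hg : g ∈ cz) : g.1 * tr e0 = tr e0 * g.1 :=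
  congrArg Subtype.val (Subgroup.mem_centralizer_singleton_iff.1 hg)

theorem cz_octad {g : ↥M24} (hg : g ∈ cz) (x : GolayPt) : g.1 x ∈ baseOctad ↔ x ∈ baseOctad := by
  rw [← zInv_fixed]
  simp only [Finset.mem_filter, Finset.mem_univ, true_and]
  show tr e0 (g.1 x) = g.1 x ↔ tr e0 x = x
  rw [← Equiv.Perm.mul_apply, ← cz_comm hg, Equiv.Perm.mul_apply, g.1.injective.eq_iff]

theorem conj_fixSet {g : Equiv.Perm GolayPt} (hg : g ∈ M24) (hO : ∀ x, g x ∈ baseOctad ↔ x ∈ baseOctad)
    (v : V4) : g * tr v * g⁻¹ ∈ fixSet baseOctad := by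
  refine mem_fixSet.2 ⟨mul_mem (mul_mem hg (mem_fixSet.1 (tr_mem v)).1) (inv_mem hg), fun a ha => ?_⟩
  have h1 : g⁻¹ a ∈ baseOctad := by
    rw [← hO]
    rw [← Equiv.Perm.mul_apply, mul_inv_cancel, Equiv.Perm.one_apply]
    exact ha
  rw [Equiv.Perm.mul_apply, Equiv.Perm.mul_apply, (mem_fixSet.1 (tr_mem v)).2 _ h1, ← Equiv.Perm.mul_apply,
    mul_inv_cancel, Equiv.Perm.one_apply]

/-- The linear part. -/
noncomputable def lin (g : cz) (v : V4) : V4 := (exists_tr_eq (conj_fixSet g.1.2 (cz_octad g.2) v)).choose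

theorem tr_lin (g : cz) (v : V4) : tr (lin g v) = g.1.1 * tr v * g.1.1⁻¹ :=
  (exists_tr_eq (conj_fixSet g.1.2 (cz_octad g.2) v)).choose_spec

theorem lin_add (g : cz) (v w : V4) : lin g (v + w) = lin g v + lin g w := by
  apply tr_injective
  rw [tr_add, tr_lin, tr_lin, tr_lin, tr_add]
  group

theorem lin_zero (g : cz) : lin g 0 = 0 := by
  apply tr_injective
  rw [tr_lin, tr_zero]
  group

theorem lin_smul (g : cz) (k : ZMod 2) (v : V4) : lin g (k • v) = k • lin g v := by
  have hk : k = 0 ∨ k = 1 := by revert k; decide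
  rcases hk with rfl | rfl
  · rw [zero_smul, zero_smul, lin_zero]
  · rw [one_smul, one_smul]

theorem lin_e0 (g : cz) : lin g e0 = e0 := by
  apply tr_injective
  rw [tr_lin, cz_comm g.2, mul_inv_cancel_right]

/-- The translation part. -/
noncomputable def shift (g : cz) : V4 :=
  (exists_tr_origin (fun h => origin_not_mem ((cz_octad g.2 origin).1 h))).choose

theorem tr_shift (g : cz) : tr (shift g) origin = g.1.1 origin :=
  (exists_tr_origin (fun h => origin_not_mem ((cz_octad g.2 origin).1 h))).choose_spec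

theorem lin_mul (g h : cz) (v : V4) : lin (g * h) v = lin g (lin h v) := by
  apply tr_injective
  rw [tr_lin, tr_lin, tr_lin]
  simp only [Subgroup.coe_mul]
  group

theorem shift_mul (g h : cz) : shift (g * h) = lin g (shift h) + shift g := by
  apply tr_origin_inj
  rw [tr_shift, tr_add, tr_lin, Equiv.Perm.mul_apply, tr_shift, Equiv.Perm.mul_apply, Equiv.Perm.mul_apply,
    ← Equiv.Perm.mul_apply g.1.1⁻¹, inv_mul_cancel, Equiv.Perm.one_apply, tr_shift]
  rfl

/-- The linear coordinates. -/
def vOf (x : Fin 5 → ZMod 2) : V4 := ![x 0, x 2, x 3, x 4]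

/-- Assemble a vector. -/
def ins (v : V4) (s : ZMod 2) : Fin 5 → ZMod 2 := ![v 0, s, v 1, v 2, v 3]

theorem vOf_ins (v : V4) (s : ZMod 2) : vOf (ins v s) = v := by
  funext i; fin_cases i <;> rfl

theorem ins_one (v : V4) (s : ZMod 2) : ins v s 1 = s := rfl

theorem ins_vOf (x : Fin 5 → ZMod 2) : ins (vOf x) (x 1) = x := by
  funext i; fin_cases i <;> rfl

theorem ins_add (v w : V4) (s t : ZMod 2) : ins (v + w) (s + t) = ins v s + ins w t := by
  funext i; fin_cases i <;> rfl

theorem ins_smul (k : ZMod 2) (v : V4) (s : ZMod 2) : ins (k • v) (k * s) = k • ins v s := by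
  funext i; fin_cases i <;> rfl

theorem vOf_add (x y : Fin 5 → ZMod 2) : vOf (x + y) = vOf x + vOf y := by
  funext i; fin_cases i <;> rfl

theorem vOf_smul (k : ZMod 2) (x : Fin 5 → ZMod 2) : vOf (k • x) = k • vOf x := by
  funext i; fin_cases i <;> rfl

/-- The affine map of an element of the centraliser. -/
noncomputable def affMap (g : cz) : (Fin 5 → ZMod 2) →ₗ[ZMod 2] (Fin 5 → ZMod 2) where
  toFun x := ins (lin g (vOf x) + x 1 • shift g) (x 1)
  map_add' x y := by
    rw [← ins_add, vOf_add, lin_add, Pi.add_apply, add_smul, add_add_add_comm]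
  map_smul' k x := by
    rw [RingHom.id_apply, ← ins_smul, vOf_smul, lin_smul, Pi.smul_apply, smul_eq_mul, mul_smul, smul_add]

theorem affMap_apply (g : cz) (x : Fin 5 → ZMod 2) :
    affMap g x = ins (lin g (vOf x) + x 1 • shift g) (x 1) := rfl

theorem affMap_one : affMap 1 = LinearMap.id := by
  refine LinearMap.ext fun x => ?_
  have hl : lin 1 (vOf x) = vOf x := by
    apply tr_injective
    rw [tr_lin]; simp
  have hs : shift 1 = 0 := by
    apply tr_origin_inj
    rw [tr_shift, tr_zero]; rfl
  rw [affMap_apply, hl, hs, smul_zero, add_zero, ins_vOf]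
  rfl

theorem affMap_mul (g h : cz) : affMap (g * h) = (affMap g).comp (affMap h) := by
  refine LinearMap.ext fun x => ?_
  rw [LinearMap.comp_apply, affMap_apply, affMap_apply, affMap_apply, vOf_ins, ins_one, lin_add, lin_smul,
    lin_mul, shift_mul, smul_add, add_assoc]

theorem det_affMap (g : cz) : (LinearMap.toMatrix' (affMap g)).det = 1 := by
  have h : LinearMap.toMatrix' (affMap g) * LinearMap.toMatrix' (affMap g⁻¹) = 1 := by
    rw [← LinearMap.toMatrix'_comp, ← affMap_mul, mul_inv_cancel, affMap_one, LinearMap.toMatrix'_id]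
  have h2 := congrArg Matrix.det h
  rw [Matrix.det_mul, Matrix.det_one] at h2
  revert h2
  generalize (LinearMap.toMatrix' (affMap g)).det = a
  generalize (LinearMap.toMatrix' (affMap g⁻¹)).det = b
  revert a b
  decide

/-- The representation. -/
noncomputable def rho : cz →* Matrix.SpecialLinearGroup (Fin 5) (ZMod 2) where
  toFun g := ⟨LinearMap.toMatrix' (affMap g), det_affMap g⟩
  map_one' := by
    apply Subtype.ext
    show LinearMap.toMatrix' (affMap 1) = 1
    rw [affMap_one, LinearMap.toMatrix'_id]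
  map_mul' g h := by
    apply Subtype.ext
    show LinearMap.toMatrix' (affMap (g * h)) = LinearMap.toMatrix' (affMap g) * LinearMap.toMatrix' (affMap h)
    rw [affMap_mul, LinearMap.toMatrix'_comp]

theorem rho_apply (g : cz) (x : Fin 5 → ZMod 2) :
    ((rho g : Matrix.SpecialLinearGroup (Fin 5) (ZMod 2)) : Matrix (Fin 5) (Fin 5) (ZMod 2)).mulVec x = affMap g x := by
  show (LinearMap.toMatrix' (affMap g)).mulVec x = _
  rw [← Matrix.toLin'_apply, Matrix.toLin'_toMatrix']

theorem rho_injective : Function.Injective rho := by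
  rw [injective_iff_map_eq_one]
  intro g hg
  have haff : ∀ x, affMap g x = x := fun x => by
    rw [← rho_apply, hg]
    exact Matrix.one_mulVec x
  have hl : ∀ v, lin g v = v := fun v => by
    have h := congrArg vOf (haff (ins v 0))
    rw [affMap_apply, vOf_ins, vOf_ins, ins_one, zero_smul, add_zero] at h
    exact h
  have hs : shift g = 0 := by
    have h := congrArg vOf (haff (ins 0 1))
    rw [affMap_apply, vOf_ins, vOf_ins, ins_one, one_smul, lin_zero, zero_add] at h
    exact h
  have hp : g.1.1 origin = origin := by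
    rw [← tr_shift, hs, tr_zero]; rfl
  have hfix : ∀ x ∈ baseOctadᶜ, g.1.1 x = x := by
    intro x hx
    obtain ⟨v, rfl⟩ := exists_tr_origin (Finset.mem_compl.1 hx)
    have h := tr_lin g v
    rw [hl] at h
    have h2 : tr v * g.1.1 = g.1.1 * tr v := by
      calc tr v * g.1.1 = g.1.1 * tr v * g.1.1⁻¹ * g.1.1 := by rw [← h]
        _ = g.1.1 * tr v := inv_mul_cancel_right _ _
    rw [← Equiv.Perm.mul_apply, ← h2, Equiv.Perm.mul_apply, hp]
  obtain ⟨s, hs', hcard⟩ := Finset.exists_subset_card_eq (show 9 ≤ baseOctadᶜ.card by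
    rw [Finset.card_compl, baseOctad_mem.2]
    show 9 ≤ 24 - 8
    norm_num)
  exact Subtype.ext (Subtype.ext (eq_one_of_nine_fixed g.1.2 hcard.ge fun x hx => hfix x (hs' hx)))

theorem transvection_mulVec (x : Fin 5 → ZMod 2) :
    (Matrix.transvection (0 : Fin 5) 1 (1 : ZMod 2)).mulVec x = ins (vOf x + x 1 • e0) (x 1) := by
  funext i
  rw [Matrix.transvection, Matrix.add_mulVec, Matrix.one_mulVec]
  fin_cases i <;> simp [Matrix.single, Matrix.mulVec, dotProduct, ins, vOf, e0]

theorem rho_mem (s : Matrix.SpecialLinearGroup (Fin 5) (ZMod 2))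
    (hs : (s : Matrix (Fin 5) (Fin 5) (ZMod 2)) = Matrix.transvection 0 1 1) (g : cz) :
    rho g ∈ Subgroup.centralizer ({s} : Set (Matrix.SpecialLinearGroup (Fin 5) (ZMod 2))) := by
  rw [Subgroup.mem_centralizer_singleton_iff]
  apply Subtype.ext
  apply Matrix.toLin'.injective
  refine LinearMap.ext fun x => ?_
  rw [Matrix.toLin'_apply, Matrix.toLin'_apply, Matrix.SpecialLinearGroup.coe_mul, Matrix.SpecialLinearGroup.coe_mul,
    ← Matrix.mulVec_mulVec, ← Matrix.mulVec_mulVec, hs, transvection_mulVec, rho_apply, rho_apply,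
    transvection_mulVec, affMap_apply, affMap_apply, vOf_ins, vOf_ins, ins_one, ins_one, lin_add, lin_smul, lin_e0]
  congr 1
  abel

theorem card_cz_ge : 21504 ≤ Nat.card cz := by
  classical
  set H : Subgroup ↥M24 := stabilizer M24 baseOctad
  have hv : ∀ h : H, ∃ v : {v : V4 // v ≠ 0}, tr v.1 = h.1.1 * tr e0 * h.1.1⁻¹ := by
    intro h
    obtain ⟨v, hv⟩ := exists_tr_eq (conj_fixSet h.1.2 (fun x => stab_mem_iff h x) e0)
    refine ⟨⟨v, fun h0 => zInv_ne ?_⟩, hv⟩
    rw [h0, tr_zero, eq_comm, conj_eq_one_iff] at hv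
    exact hv
  choose F hF using hv
  choose R hR using fun v : Set.range F => v.2
  have hmem : ∀ h : H, (R ⟨F h, h, rfl⟩).1⁻¹ * h.1 ∈ cz := by
    intro h
    rw [Subgroup.mem_centralizer_singleton_iff]
    apply Subtype.ext
    set r := R ⟨F h, h, rfl⟩
    have h1 : r.1.1 * tr e0 * r.1.1⁻¹ = h.1.1 * tr e0 * h.1.1⁻¹ := by
      rw [← hF r, ← hF h, hR ⟨F h, h, rfl⟩]
    show r.1.1⁻¹ * h.1.1 * tr e0 = tr e0 * (r.1.1⁻¹ * h.1.1)
    calc r.1.1⁻¹ * h.1.1 * tr e0 = r.1.1⁻¹ * (h.1.1 * tr e0 * h.1.1⁻¹) * h.1.1 := by group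
      _ = r.1.1⁻¹ * (r.1.1 * tr e0 * r.1.1⁻¹) * h.1.1 := by rw [h1]
      _ = tr e0 * (r.1.1⁻¹ * h.1.1) := by group
  have hle := Nat.card_le_card_of_injective
    (fun h : H => (F h, (⟨_, hmem h⟩ : cz))) (fun a b hab => by
      simp only [Prod.mk.injEq, Subtype.mk.injEq] at hab
      obtain ⟨h1, h2⟩ := hab
      have : (⟨F a, a, rfl⟩ : Set.range F) = ⟨F b, b, rfl⟩ := Subtype.ext h1
      rw [this] at h2
      exact Subtype.ext (mul_left_cancel h2))
  rw [Nat.card_prod, card_octad_stabilizer baseOctad_mem] at hle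
  have h15 : Nat.card {v : V4 // v ≠ 0} = 15 := by rw [Nat.card_eq_fintype_card]; decide
  rw [h15] at hle
  omega

/-- The isomorphism. -/
theorem cz_equiv (s : Matrix.SpecialLinearGroup (Fin 5) (ZMod 2))
    (hs : (s : Matrix (Fin 5) (Fin 5) (ZMod 2)) = Matrix.transvection 0 1 1) :
    Nonempty (cz ≃* Subgroup.centralizer ({s} : Set (Matrix.SpecialLinearGroup (Fin 5) (ZMod 2)))) := by
  let f := rho.codRestrict _ (rho_mem s hs)
  have hinj : Function.Injective f := fun g h e => rho_injective (congrArg Subtype.val e)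
  refine ⟨MulEquiv.ofBijective f ((Nat.bijective_iff_injective_and_card _).2 ⟨hinj, ?_⟩)⟩
  have h1 := Nat.card_le_card_of_injective f hinj
  have h2 := Cfsg.Agent.S0445.result s hs
  have h3 := card_cz_ge
  omega

end Cfsg.Lib.H3.OctadInvolution
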