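import Cfsg.Agent.Lib.H3.OmegaAdjust

/-!
# `Ω` in characteristic two by the rank of `g - 1`
-/

set_option autoImplicit false

namespace Cfsg.Lib.H3

open Module Cfsg.Lib.Linear.Orth
open scoped Matrix

variable {ι : Type} [Fintype ι] [DecidableEq ι] {F : Type*} [Field F]
  {Q : (ι → F) → F} {B : LinearMap.BilinForm F (ι → F)}

/-- In characteristic two an isometry is in `Ω` exactly when `g - 1` has even rank. -/
theorem mem_omega_iff_even_rank [Fintype F] (C : Space Q B) (h2 : (2 : F) = 0)
    (hn : 2 ≤ Fintype.card ι) (h : Fintype.card F ≠ 2 ∨ Fintype.card ι ≠ 4)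
    (g : ↥(isometryGroup F Q)) :
    g ∈ commutator ↥(isometryGroup F Q) ↔ Even (((g : GL ι F).val - 1).rank) := by
  obtain ⟨δ, hδ, hiff⟩ := omega_char_two C h2 hn h
  have key : ∀ g : ↥(isometryGroup F Q),
      (δ g = 1 ∧ (Fintype.card ι + finrank F (fixSpace (g : GL ι F))) % 2 = 0) ∨
      (δ g = -1 ∧ (Fintype.card ι + finrank F (fixSpace (g : GL ι F))) % 2 = 1) := by
    refine refl_induction C h _ ?_ ?_
    · left
      refine ⟨map_one δ, ?_⟩
      have : fixSpace (1 : GL ι F) = ⊤ := eq_top_iff.mpr fun x _ => mem_fixSpace.mpr (by simp)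
      rw [OneMemClass.coe_one, this, finrank_top, finrank_fintype_fun_eq_card]
      omega
    · intro v hv g ih
      have hf := fixSpace_flip C h2 g.2 hv
      rw [Subgroup.coe_mul, rI_val C hv, map_mul, hδ]
      rcases ih with ⟨hd, hp⟩ | ⟨hd, hp⟩
      · right; rw [hd]; exact ⟨mul_one _, by omega⟩
      · left; rw [hd]; exact ⟨by norm_num, by omega⟩
  have hrank : ((g : GL ι F).val - 1).rank + finrank F (fixSpace (g : GL ι F)) = Fintype.card ι := by
    have h1 := LinearMap.finrank_range_add_finrank_ker (Matrix.mulVecLin ((g : GL ι F).val - 1))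
    rw [finrank_fintype_fun_eq_card] at h1
    have e : fixSpace (g : GL ι F) = LinearMap.ker (Matrix.mulVecLin ((g : GL ι F).val - 1)) := by
      ext x
      rw [mem_fixSpace, LinearMap.mem_ker, Matrix.mulVecLin_apply, Matrix.sub_mulVec,
        Matrix.one_mulVec, sub_eq_zero]
    rw [e]
    exact h1
  rw [Nat.even_iff, hiff]
  rcases key g with ⟨hd, hp⟩ | ⟨hd, hp⟩
  · exact iff_of_true hd (by omega)
  · exact iff_of_false (by rw [hd]; decide) (by omega)

end Cfsg.Lib.H3
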