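import Mathlib

/-!
# Cyclic blocks of a semisimple isometry

For an isometry `S` of odd prime order `r` (prime to the characteristic) of a non-degenerate symmetric
form over a finite field there is a non-degenerate invariant block isomorphic to a quadratic algebra
`K[T]`, `T² = δ`, over an extension field `K`.  This gives similarities of every multiplier commuting
with `S`.
-/

set_option autoImplicit false

namespace Cfsg.Lib.H3.SSBlock

open Module Polynomial

universe u

variable {F : Type u} [Field F]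

section Endo

variable {V : Type u} [AddCommGroup V] [Module F V]

theorem pow_unipotent {N : Module.End F V} {ε : F} (hN : N * N = 0) (k : ℕ) :
    (ε • (1 : Module.End F V) + N) ^ k = ε ^ k • (1 : Module.End F V) + ((k : F) * ε ^ (k - 1)) • N := by
  induction k with
  | zero => simp
  | succ k ih =>
    rw [pow_succ, ih]
    simp only [mul_add, add_mul, smul_mul_assoc, mul_smul_comm, one_mul, mul_one, smul_smul, hN, smul_zero,
      add_zero]
    rcases k with _ | k
    · simp
    · rw [Nat.add_sub_cancel, Nat.add_sub_cancel]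
      push_cast
      match_scalars <;> ring

theorem aeval_adjoint {B : LinearMap.BilinForm F V} {C : Module.End F V}
    (hC : ∀ x y, B (C x) y = B x (C y)) (P : F[X]) (x y : V) :
    B (aeval C P x) y = B x (aeval C P y) := by
  induction P using Polynomial.induction_on' generalizing x y with
  | add P Q hP hQ => simp [map_add, hP, hQ]
  | monomial n a =>
    simp only [aeval_monomial, ← Algebra.smul_def, LinearMap.smul_apply, map_smul, smul_eq_mul]
    congr 1
    induction n generalizing x y with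
    | zero => simp
    | succ n ih =>
      rw [pow_succ', Module.End.mul_apply, hC, ih, ← Module.End.mul_apply, ← pow_succ]
      rw [pow_succ']

theorem aeval_restrict {C : Module.End F V} {W : Submodule F V} (hW : ∀ x ∈ W, C x ∈ W) (P : F[X]) (x : W) :
    (aeval (C.restrict hW) P x : V) = aeval C P (x : V) := by
  induction P using Polynomial.induction_on' generalizing x with
  | add P Q hP hQ => simp [map_add, hP, hQ]
  | monomial n a =>
    simp only [aeval_monomial, ← Algebra.smul_def, LinearMap.smul_apply, Submodule.coe_smul]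
    congr 1
    induction n generalizing x with
    | zero => simp
    | succ n ih => rw [pow_succ', pow_succ', Module.End.mul_apply, Module.End.mul_apply, ← ih]; rfl

end Endo

variable [Fintype F] {V : Type u} [AddCommGroup V] [Module F V] [FiniteDimensional F V]

omit [Fintype F] [FiniteDimensional F V] in
theorem bilin_zero (h2 : (2 : F) ≠ 0) {B : LinearMap.BilinForm F V} (hsymm : ∀ x y, B x y = B y x)
    {W : Submodule F V} (h : ∀ x ∈ W, B x x = 0) {x y : V} (hx : x ∈ W) (hy : y ∈ W) : B x y = 0 := by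
  have h1 := h _ (W.add_mem hx hy)
  simp only [map_add, LinearMap.add_apply] at h1
  rw [h x hx, h y hy, hsymm y x] at h1
  exact (mul_eq_zero.1 (show (2 : F) * B x y = 0 by linear_combination h1)).resolve_left h2

/-- **The block.** -/
theorem exists_block (h2 : (2 : F) ≠ 0) {B : LinearMap.BilinForm F V} (hsymm : ∀ x y, B x y = B y x)
    (hnd : ∀ x, (∀ y, B x y = 0) → x = 0) {S : Module.End F V} (hS : ∀ x y, B (S x) (S y) = B x y)
    {r : ℕ} (hr : r.Prime) (hro : Odd r) (hrF : (r : F) ≠ 0) (hSr : S ^ r = 1) (hS1 : S ≠ 1) :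
    ∃ (K : Type u) (_ : Field K) (_ : Fintype K) (_ : Algebra F K) (δ : K)
      (Ψ : QuadraticAlgebra K δ 0 →ₗ[F] V) (σ₀ : QuadraticAlgebra K δ 0) (L : K →ₗ[F] F),
      δ ≠ 0 ∧ Function.Injective Ψ ∧ L ≠ 0 ∧ (∀ z, S (Ψ z) = Ψ (σ₀ * z)) ∧
      (∀ z z', B (Ψ z) (Ψ z') = L ((star z * z').re)) := by
  classical
  have hne : Nontrivial V := by
    by_contra h
    rw [not_nontrivial_iff_subsingleton] at h
    exact hS1 (LinearMap.ext fun x => Subsingleton.elim _ _)
  set Si : Module.End F V := S ^ (r - 1) with hSi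
  have hSSi : S * Si = 1 := by rw [hSi, ← pow_succ', Nat.sub_add_cancel hr.pos, hSr]
  have hSiS : Si * S = 1 := by rw [hSi, ← pow_succ, Nat.sub_add_cancel hr.pos, hSr]
  have hadj : ∀ x y, B (S x) y = B x (Si y) := fun x y => by
    conv_lhs => rw [← Module.End.one_apply (R := F) y, ← hSSi, Module.End.mul_apply]
    exact hS _ _
  have hadj' : ∀ x y, B (Si x) y = B x (S y) := fun x y => by rw [hsymm, ← hadj, hsymm]
  set C := S + Si with hC
  set T := S - Si with hT
  have hCadj : ∀ x y, B (C x) y = B x (C y) := fun x y => by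
    simp only [hC, LinearMap.add_apply, map_add, hadj, hadj']
    ring
  have hTadj : ∀ x y, B (T x) y = -B x (T y) := fun x y => by
    simp only [hT, LinearMap.sub_apply, map_sub, hadj, hadj']
    ring
  have hCT : C * T = T * C := by
    rw [hC, hT]; simp only [add_mul, mul_add, sub_mul, mul_sub, hSSi, hSiS]; abel
  have hTT : T * T = C * C - algebraMap F _ 4 := by
    rw [hC, hT, show (4 : F) = 1 + 1 + 1 + 1 by norm_num, map_add, map_add, map_add, map_one]
    simp only [add_mul, mul_add, sub_mul, mul_sub, hSSi, hSiS]; abel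
  have hCS : C * S = S * C := by
    rw [hC]; simp only [add_mul, mul_add, hSSi, hSiS]
  -- Frobenius
  set p := ringChar F with hp
  haveI : Fact p.Prime := ⟨CharP.char_is_prime F p⟩
  haveI : CharP (Module.End F V) p := charP_of_injective_algebraMap (algebraMap F (Module.End F V)).injective p
  haveI : ExpChar (Module.End F V) p := ExpChar.prime Fact.out
  obtain ⟨f₀, -, hcard⟩ := FiniteField.card F p
  set Q := p ^ ((f₀ : ℕ) * (r - 1)) with hQ
  have hQr : Q % r = 1 := by
    haveI : Fact r.Prime := ⟨hr⟩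
    have hne : ((Fintype.card F : ℕ) : ZMod r) ≠ 0 := by
      rw [Ne, ZMod.natCast_eq_zero_iff, hcard]
      intro h
      have hrp := (Nat.prime_dvd_prime_iff_eq hr Fact.out).1 (hr.dvd_of_dvd_pow h)
      exact hrF (by rw [hrp, CharP.cast_eq_zero])
    have h := ZMod.pow_card_sub_one_eq_one hne
    have h' : ((Fintype.card F ^ (r - 1) : ℕ) : ZMod r) = ((1 : ℕ) : ZMod r) := by
      rw [Nat.cast_pow, Nat.cast_one]; exact h
    rw [ZMod.natCast_eq_natCast_iff', hcard, ← pow_mul, ← hQ, Nat.mod_eq_of_lt hr.one_lt] at h'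
    exact h'
  have hSQ : S ^ Q = S := by rw [pow_eq_pow_mod Q hSr, hQr, pow_one]
  have hCQ : C ^ Q = C := by
    rw [hC, hQ, add_pow_expChar_pow_of_commute _ _ (show Commute S Si from hSSi.trans hSiS.symm), ← hQ, hSQ,
      hSi, ← pow_mul, mul_comm, pow_mul, hSQ]
  set m := minpoly F C with hm
  have hint : IsIntegral F C := Algebra.IsIntegral.isIntegral C
  have hmsq : Squarefree m := by
    have hdvd : m ∣ X ^ Q - X := minpoly.dvd F C (by simp [hCQ])
    refine (Polynomial.Separable.of_dvd (galois_poly_separable p Q ?_) hdvd).squarefree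
    exact dvd_pow_self p (Nat.mul_ne_zero f₀.pos.ne' (by have := hr.two_le; omega))
  -- a factor other than `X - 2`
  have hC2 : m ≠ X - Polynomial.C 2 := fun h => by
    have hC2' : C = algebraMap F _ 2 := by
      have h0 := minpoly.aeval F C
      rw [← hm, h, map_sub, aeval_X, aeval_C, sub_eq_zero] at h0
      exact h0
    have hS' : S = (1 : F) • (1 : Module.End F V) + (2⁻¹ : F) • T := by
      have : (2 : F) • S = (2 : F) • (1 : Module.End F V) + T := by
        rw [← Algebra.algebraMap_eq_smul_one, ← hC2', hC, hT, two_smul]; abel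
      rw [one_smul]
      calc S = (2⁻¹ : F) • ((2 : F) • S) := by rw [smul_smul, inv_mul_cancel₀ h2, one_smul]
        _ = _ := by rw [this, smul_add, smul_smul, inv_mul_cancel₀ h2, one_smul]
    have hT2 : ((2⁻¹ : F) • T) * ((2⁻¹ : F) • T) = 0 := by
      rw [smul_mul_smul_comm, hTT, hC2', ← map_mul, ← map_sub, show (2 : F) * 2 - 4 = 0 by norm_num, map_zero,
        smul_zero]
    have h1 := pow_unipotent (ε := (1 : F)) hT2 r
    rw [← hS', hSr, one_pow, one_pow, one_smul, mul_one, left_eq_add, smul_eq_zero] at h1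
    exact hS1 (by rw [hS', h1.resolve_left hrF, add_zero, one_smul])
  obtain ⟨f, hf, hfm, hfmon, hf2⟩ : ∃ f : F[X], Irreducible f ∧ f ∣ m ∧ f.Monic ∧ f.eval 2 ≠ 0 := by
    have hmm : m.Monic := minpoly.monic hint
    obtain ⟨m₁, hm₁, hdvd, hm12⟩ : ∃ m₁ : F[X], ¬ IsUnit m₁ ∧ m₁ ∣ m ∧ m₁.eval 2 ≠ 0 := by
      by_cases h : m.eval 2 = 0
      · obtain ⟨g, hg⟩ := dvd_iff_isRoot.2 (show IsRoot m 2 from h)
        refine ⟨g, fun hu => ?_, Dvd.intro_left _ hg.symm, fun h0 => ?_⟩
        · obtain ⟨c, hc, rfl⟩ := isUnit_iff.1 hu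
          have := hmm
          rw [hg, Monic, leadingCoeff_mul, leadingCoeff_X_sub_C, one_mul, leadingCoeff_C] at this
          rw [this, map_one, mul_one] at hg
          exact hC2 hg
        · obtain ⟨g', hg'⟩ := dvd_iff_isRoot.2 (show IsRoot g 2 from h0)
          exact (irreducible_X_sub_C (2 : F)).not_isUnit (hmsq _ ⟨g', by rw [hg, hg', mul_assoc]⟩)
      · exact ⟨m, minpoly.not_isUnit F C, dvd_rfl, h⟩
    obtain ⟨f, hf, hfd⟩ := WfDvdMonoid.exists_irreducible_factor hm₁
      (fun h => hm12 (by rw [h, eval_zero]))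
    have hn : f * Polynomial.C f.leadingCoeff⁻¹ ∣ m₁ :=
      (associated_mul_unit_right f _ (isUnit_C.2 (by simp [hf.ne_zero]))).symm.dvd.trans hfd
    refine ⟨f * Polynomial.C f.leadingCoeff⁻¹, (associated_mul_unit_right f _ (isUnit_C.2 (by
      simp [hf.ne_zero]))).irreducible hf, hn.trans hdvd, monic_mul_leadingCoeff_inv hf.ne_zero, fun h => ?_⟩
    obtain ⟨g, hg⟩ := hn
    exact hm12 (by rw [hg, eval_mul, h, zero_mul])
  obtain ⟨g, hg⟩ := hfm
  have hg0 : aeval C g ≠ 0 := fun h => by
    have hgd := minpoly.dvd F C h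
    rw [← hm, hg] at hgd
    have hgne : g ≠ 0 := fun h0 => minpoly.ne_zero hint (by rw [← hm, hg, h0, mul_zero])
    have := Polynomial.natDegree_le_of_dvd hgd hgne
    rw [natDegree_mul hf.ne_zero hgne] at this
    have := hf.natDegree_pos
    omega
  have hcop : IsCoprime f g := hf.coprime_iff_not_dvd.2 fun ⟨g', hg'⟩ =>
    hf.not_isUnit (hmsq f ⟨g', by rw [hg, hg', mul_assoc]⟩)
  set W := LinearMap.ker (aeval C f) with hW
  have hWmem : ∀ x, x ∈ W ↔ aeval C f x = 0 := fun x => LinearMap.mem_ker
  have hgW : ∀ P : F[X], ∀ v, aeval C (P * g) v ∈ W := fun P v => by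
    rw [hWmem, ← Module.End.mul_apply, ← map_mul, show f * (P * g) = m * P by rw [hg]; ring, map_mul,
      hm, minpoly.aeval, zero_mul, LinearMap.zero_apply]
  have hcommW : ∀ N : Module.End F V, Commute C N → ∀ x ∈ W, N x ∈ W := fun N hN x hx => by
    have hgen : ∀ P : F[X], Commute (aeval C P) N := fun P => by
      induction P using Polynomial.induction_on' with
      | add P Q hP hQ => rw [map_add]; exact hP.add_left hQ
      | monomial n a =>
        rw [aeval_monomial]; exact (Algebra.commute_algebraMap_left a N).mul_left (hN.pow_left n)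
    rw [hWmem, ← Module.End.mul_apply, (hgen f).eq, Module.End.mul_apply, (hWmem x).1 hx, map_zero]
  have hWC : ∀ x ∈ W, C x ∈ W := hcommW C (Commute.refl C)
  have hWT : ∀ x ∈ W, T x ∈ W := hcommW T hCT
  have hWS : ∀ x ∈ W, S x ∈ W := hcommW S hCS
  have hWne : ∃ x ∈ W, x ≠ 0 := by
    by_contra h
    push Not at h
    exact hg0 (LinearMap.ext fun v => by simpa using h _ (hgW 1 v))
  obtain ⟨a, b, hab⟩ := hcop
  have hproj : ∀ x ∈ W, aeval C (b * g) x = x := fun x hx => by
    have h := congrArg (fun P : F[X] => aeval C P x) hab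
    simp only [map_add, map_one, LinearMap.add_apply, Module.End.one_apply, map_mul, Module.End.mul_apply,
      (hWmem x).1 hx, map_zero, zero_add] at h
    rw [map_mul, Module.End.mul_apply]
    exact h
  have hWnd : ∀ x ∈ W, (∀ y ∈ W, B x y = 0) → x = 0 := fun x hx hxy => hnd x fun y => by
    rw [← hproj x hx, aeval_adjoint hCadj]
    exact hxy _ (hgW b y)
  obtain ⟨x₀, hx₀W, hx₀⟩ : ∃ x₀ ∈ W, B x₀ x₀ ≠ 0 := by
    by_contra h
    push Not at h
    obtain ⟨x, hx, hx0⟩ := hWne
    exact hx0 (hWnd x hx fun y hy => bilin_zero h2 hsymm h hx hy)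
  -- the field
  haveI : Fact (Irreducible f) := ⟨hf⟩
  let CW : Module.End F W := C.restrict hWC
  have hfCW : aeval CW f = 0 := LinearMap.ext fun x => Subtype.ext (by
    rw [aeval_restrict hWC, (hWmem _).1 x.2]; rfl)
  let φ : AdjoinRoot f →+* Module.End F W := Ideal.Quotient.lift (Ideal.span {f})
    (aeval CW).toRingHom (fun P hP => by
      obtain ⟨c, rfl⟩ := Ideal.mem_span_singleton'.1 hP
      show aeval CW (c * f) = 0
      rw [map_mul, hfCW, mul_zero])
  have hφmk : ∀ P, φ (AdjoinRoot.mk f P) = aeval CW P := fun P => rfl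
  have hφC : φ (AdjoinRoot.root f) = CW := by rw [AdjoinRoot.root, hφmk, aeval_X]
  have hφF : ∀ c : F, φ (algebraMap F _ c) = algebraMap F (Module.End F W) c := fun c => by
    rw [AdjoinRoot.algebraMap_eq, ← AdjoinRoot.mk_C, hφmk, aeval_C]
  let K := AdjoinRoot f
  haveI : Module.Finite F K := (AdjoinRoot.powerBasis hf.ne_zero).finite
  haveI : Finite K := Module.finite_of_finite F
  letI : Fintype K := Fintype.ofFinite K
  set δ : K := AdjoinRoot.root f ^ 2 - algebraMap F K 4 with hδ
  let TW : Module.End F W := T.restrict hWT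
  have hTφ : ∀ k : K, TW * φ k = φ k * TW := fun k => by
    obtain ⟨P, rfl⟩ := AdjoinRoot.mk_surjective k
    rw [hφmk]
    have : Commute CW TW := LinearMap.ext fun x => Subtype.ext
      (LinearMap.congr_fun hCT (x : V))
    induction P using Polynomial.induction_on' with
    | add P Q hP hQ => rw [map_add, mul_add, add_mul, hP, hQ]
    | monomial n a =>
      rw [aeval_monomial]; exact ((Algebra.commute_algebraMap_left a TW).mul_left (this.pow_left n)).eq.symm
  have hTTW : TW * TW = φ δ := by
    rw [hδ, map_sub, map_pow, hφC, hφF, sq]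
    exact LinearMap.ext fun x => Subtype.ext (by
      show T (T (x : V)) = C (C (x : V)) - (4 : F) • (x : V)
      have h := LinearMap.congr_fun hTT (x : V)
      exact h)
  let ev : K →ₗ[F] V :=
    { toFun := fun k => (φ k ⟨x₀, hx₀W⟩ : W)
      map_add' := fun k k' => by rw [map_add, LinearMap.add_apply, Submodule.coe_add]
      map_smul' := fun c k => by
        rw [Algebra.smul_def, map_mul, hφF, Module.End.mul_apply, Module.algebraMap_end_apply,
          Submodule.coe_smul, RingHom.id_apply] }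
  let evT : K →ₗ[F] V := T ∘ₗ ev
  let Ψ : QuadraticAlgebra K δ 0 →ₗ[F] V :=
    { toFun := fun z => ev z.re + evT z.im
      map_add' := fun z z' => by simp only [QuadraticAlgebra.re_add, QuadraticAlgebra.im_add, map_add]; abel
      map_smul' := fun c z => by
        simp only [QuadraticAlgebra.re_smul, QuadraticAlgebra.im_smul, map_smul, smul_add, RingHom.id_apply] }
  let L : K →ₗ[F] F :=
    { toFun := fun k => B x₀ (ev k)
      map_add' := fun k k' => by simp only [map_add]
      map_smul' := fun c k => by simp only [map_smul, smul_eq_mul, RingHom.id_apply] }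
  have hev1 : ev 1 = x₀ := by show ((φ 1) ⟨x₀, hx₀W⟩ : V) = x₀; rw [map_one]; rfl
  have hevadj : ∀ k k' : K, B (ev k) (ev k') = L (k * k') := fun k k' => by
    obtain ⟨P, rfl⟩ := AdjoinRoot.mk_surjective k
    show B ((φ (AdjoinRoot.mk f P) ⟨x₀, hx₀W⟩ : W) : V) _ = B x₀ ((φ (AdjoinRoot.mk f P * k') ⟨x₀, hx₀W⟩ : W) : V)
    rw [map_mul, hφmk, Module.End.mul_apply, aeval_restrict hWC, aeval_restrict hWC, aeval_adjoint hCadj]
    rfl
  have hevC : ∀ k, C (ev k) = ev (AdjoinRoot.root f * k) := fun k => by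
    show C ((φ k ⟨x₀, hx₀W⟩ : W) : V) = ((φ (AdjoinRoot.root f * k) ⟨x₀, hx₀W⟩ : W) : V)
    rw [map_mul, hφC]; rfl
  have hevT : ∀ k, T (T (ev k)) = ev (δ * k) := fun k => by
    show T (T ((φ k ⟨x₀, hx₀W⟩ : W) : V)) = ((φ (δ * k) ⟨x₀, hx₀W⟩ : W) : V)
    rw [map_mul, ← hTTW]; rfl
  have hskew : ∀ k k' : K, B (ev k) (T (ev k')) = 0 := fun k k' => by
    obtain ⟨P, rfl⟩ := AdjoinRoot.mk_surjective k
    have e : B (ev (AdjoinRoot.mk f P)) (T (ev k')) = B x₀ (T (ev (AdjoinRoot.mk f P * k'))) := by
      show B ((φ (AdjoinRoot.mk f P) ⟨x₀, hx₀W⟩ : W) : V) _ = _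
      rw [hφmk, aeval_restrict hWC, aeval_adjoint hCadj]
      congr 1
      show aeval C P ((TW (φ k' ⟨x₀, hx₀W⟩) : W) : V) =
        ((TW (φ (AdjoinRoot.mk f P * k') ⟨x₀, hx₀W⟩) : W) : V)
      rw [← aeval_restrict hWC, ← hφmk, map_mul, Module.End.mul_apply, ← Module.End.mul_apply, ← hTφ]
      rfl
    rw [e]
    generalize AdjoinRoot.mk f P * k' = q
    obtain ⟨R, rfl⟩ := AdjoinRoot.mk_surjective q
    set y := B x₀ (T (ev (AdjoinRoot.mk f R))) with hy
    have a2 : B (ev (AdjoinRoot.mk f R)) (T x₀) = y := by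
      rw [hy]
      show B ((φ (AdjoinRoot.mk f R) ⟨x₀, hx₀W⟩ : W) : V) (T x₀) = B x₀ _
      rw [hφmk, aeval_restrict hWC, aeval_adjoint hCadj]
      congr 1
      show aeval C R ((TW ⟨x₀, hx₀W⟩ : W) : V) = ((TW (φ (AdjoinRoot.mk f R) ⟨x₀, hx₀W⟩) : W) : V)
      rw [← aeval_restrict hWC, ← hφmk, ← Module.End.mul_apply, ← hTφ]
      rfl
    have h1 : y = -y := by
      have a1 := hTadj x₀ (ev (AdjoinRoot.mk f R))
      rw [hsymm, a2] at a1
      exact a1
    exact (mul_eq_zero.1 (show (2 : F) * y = 0 by linear_combination h1)).resolve_left h2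
  have hδ0 : δ ≠ 0 := by
    intro h
    have hroot : AdjoinRoot.root f = algebraMap F K 2 ∨ AdjoinRoot.root f = algebraMap F K (-2) := by
      rw [hδ, sub_eq_zero, show (4 : F) = 2 * 2 by norm_num, map_mul, sq] at h
      rcases mul_self_eq_mul_self_iff.1 h with e | e
      · exact Or.inl e
      · exact Or.inr (by rw [e, map_neg])
    have hrootf : ∀ c : F, AdjoinRoot.root f = algebraMap F K c → f.eval c = 0 := fun c hc => by
      have h1 : aeval (AdjoinRoot.root f) f = 0 := by rw [AdjoinRoot.aeval_eq, AdjoinRoot.mk_self]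
      rw [hc, aeval_algebraMap_apply] at h1
      exact (map_eq_zero (algebraMap F K)).1 h1
    rcases hroot with e | e
    · exact hf2 (hrootf _ e)
    · set N : Module.End F W := (2⁻¹ : F) • TW with hN
      have hNN : N * N = 0 := by rw [hN, smul_mul_smul_comm, hTTW, h, map_zero, smul_zero]
      have hSW : (S.restrict hWS : Module.End F W) = (-1 : F) • (1 : Module.End F W) + N := by
        refine LinearMap.ext fun x => Subtype.ext ?_
        have hCx : C (x : V) = (-2 : F) • (x : V) := by
          have h1 : CW = algebraMap F (Module.End F W) (-2) := by rw [← hφC, e, hφF]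
          exact congrArg Subtype.val (LinearMap.congr_fun h1 x)
        show S (x : V) = (-1 : F) • (x : V) + (2⁻¹ : F) • T (x : V)
        have h3 : (2 : F) • S (x : V) = (-2 : F) • (x : V) + T (x : V) := by
          rw [← hCx, two_smul, hC, hT, LinearMap.add_apply, LinearMap.sub_apply]; abel
        calc S (x : V) = (2⁻¹ : F) • ((2 : F) • S (x : V)) := by rw [smul_smul, inv_mul_cancel₀ h2, one_smul]
          _ = _ := by
            rw [h3, smul_add, smul_smul, show (2⁻¹ : F) * -2 = -1 by field_simp]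
      have hSWr : (S.restrict hWS : Module.End F W) ^ r = 1 := by
        refine LinearMap.ext fun x => Subtype.ext ?_
        have h1 := aeval_restrict hWS (X ^ r) x
        simp only [map_pow, aeval_X, hSr] at h1
        exact h1
      rw [hSW, pow_unipotent hNN, hro.neg_one_pow, (Nat.Odd.sub_odd hro odd_one).neg_one_pow, mul_one] at hSWr
      obtain ⟨x, hx, hx0⟩ := hWne
      have h1 := congrArg (fun M : Module.End F W => M ⟨x, hx⟩) hSWr
      simp only [LinearMap.add_apply, LinearMap.smul_apply, Module.End.one_apply] at h1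
      have h2' := congrArg N h1
      have hN2 : N (N ⟨x, hx⟩) = 0 := by rw [← Module.End.mul_apply, hNN, LinearMap.zero_apply]
      simp only [map_add, map_smul, hN2, smul_zero, add_zero, neg_smul, one_smul] at h2'
      have hNx : N ⟨x, hx⟩ = 0 := by
        have : (2 : F) • N ⟨x, hx⟩ = 0 := by
          rw [two_smul]; nth_rewrite 1 [← h2']; simp
        exact (smul_eq_zero.1 this).resolve_left h2
      rw [hNx, smul_zero, add_zero, neg_smul, one_smul] at h1
      have : (2 : F) • (⟨x, hx⟩ : W) = 0 := by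
        rw [two_smul]; nth_rewrite 1 [← h1]; abel
      exact hx0 (congrArg Subtype.val ((smul_eq_zero.1 this).resolve_left h2))
  have hpair : ∀ z z', B (Ψ z) (Ψ z') = L ((star z * z').re) := fun z z' => by
    show B (ev z.re + T (ev z.im)) (ev z'.re + T (ev z'.im)) = _
    simp only [map_add, LinearMap.add_apply]
    rw [hskew, hsymm (T (ev z.im)) (ev z'.re), hskew, hTadj, hevT, hevadj, hevadj,
      QuadraticAlgebra.re_mul, QuadraticAlgebra.re_star, QuadraticAlgebra.im_star, zero_mul, add_zero,
      show δ * -z.im * z'.im = -(z.im * (δ * z'.im)) by ring, map_add, map_neg]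
    ring_nf
    abel
  have hL1 : L ≠ 0 := fun h => hx₀ (by
    have := LinearMap.congr_fun h 1
    change B x₀ (ev 1) = 0 at this
    rwa [hev1] at this)
  have hLnd : ∀ k : K, (∀ k', L (k * k') = 0) → k = 0 := fun k hk => by
    by_contra hk0
    exact hL1 (LinearMap.ext fun q => by simpa [← mul_assoc, hk0] using hk (k⁻¹ * q))
  refine ⟨K, inferInstance, inferInstance, inferInstance, δ, Ψ,
    ⟨AdjoinRoot.root f * algebraMap F K 2⁻¹, algebraMap F K 2⁻¹⟩, L, hδ0, ?_, hL1, fun z => ?_, hpair⟩
  · rw [injective_iff_map_eq_zero]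
    intro z hz
    refine QuadraticAlgebra.ext (hLnd _ fun k => ?_) ?_
    · have h := hpair z ⟨k, 0⟩
      rw [hz, map_zero, LinearMap.zero_apply] at h
      simpa using h.symm
    · have him : -(δ * z.im) = 0 := hLnd _ fun k => by
        have h := hpair z ⟨0, k⟩
        rw [hz, map_zero, LinearMap.zero_apply] at h
        rw [h]
        simp
        congr 1
        ring
      rw [neg_eq_zero, mul_eq_zero] at him
      simpa using him.resolve_left hδ0
  · have hS2 : ∀ v, S v = (2⁻¹ : F) • (C v + T v) := fun v => by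
      rw [hC, hT, LinearMap.add_apply, LinearMap.sub_apply, show S v + Si v + (S v - Si v) = (2 : F) • S v by
        rw [two_smul]; abel, smul_smul, inv_mul_cancel₀ h2, one_smul]
    show S (ev z.re + T (ev z.im)) = ev _ + T (ev _)
    have hCT' : C (T (ev z.im)) = T (C (ev z.im)) := LinearMap.congr_fun hCT _
    rw [hS2, map_add C, map_add T, hCT', hevC, hevC, hevT, QuadraticAlgebra.re_mul, QuadraticAlgebra.im_mul]
    simp only [zero_mul, add_zero]
    have e : ∀ (c : F) (k : K), algebraMap F K c * k = c • k := fun c k => (Algebra.smul_def c k).symm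
    rw [show AdjoinRoot.root f * algebraMap F K 2⁻¹ * z.re + δ * algebraMap F K 2⁻¹ * z.im =
        (2⁻¹ : F) • (AdjoinRoot.root f * z.re + δ * z.im) by rw [← e]; ring,
      show AdjoinRoot.root f * algebraMap F K 2⁻¹ * z.im + algebraMap F K 2⁻¹ * z.re =
        (2⁻¹ : F) • (AdjoinRoot.root f * z.im + z.re) by rw [← e]; ring]
    simp only [map_add, map_smul]
    rw [← smul_add]
    congr 1
    abel

/-- The block is non-degenerate. -/
theorem block_nondeg {K : Type u} [Field K] [Algebra F K] {δ : K} {B : LinearMap.BilinForm F V}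
    {Ψ : QuadraticAlgebra K δ 0 →ₗ[F] V} {L : K →ₗ[F] F} (hδ : δ ≠ 0) (hL : L ≠ 0)
    (hpair : ∀ z z', B (Ψ z) (Ψ z') = L ((star z * z').re)) :
    ∀ x ∈ LinearMap.range Ψ, (∀ y ∈ LinearMap.range Ψ, B x y = 0) → x = 0 := by
  rintro _ ⟨z, rfl⟩ hz
  have hLnd : ∀ k : K, (∀ k', L (k * k') = 0) → k = 0 := fun k hk => by
    by_contra hk0
    exact hL (LinearMap.ext fun q => by simpa [← mul_assoc, hk0] using hk (k⁻¹ * q))
  have hre : z.re = 0 := hLnd _ fun k => by
    have h := (hpair z ⟨k, 0⟩).symm.trans (hz _ ⟨_, rfl⟩)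
    simpa using h
  have him : -(δ * z.im) = 0 := hLnd _ fun k => by
    have h := (hpair z ⟨0, k⟩).symm.trans (hz _ ⟨_, rfl⟩)
    refine Eq.trans ?_ h
    simp [mul_assoc]
  rw [neg_eq_zero, mul_eq_zero] at him
  rw [show z = 0 from QuadraticAlgebra.ext (by simpa using hre) (by simpa using him.resolve_left hδ), map_zero]

/-- Every value is a norm. -/
theorem exists_norm_eq {K : Type u} [Field K] [Fintype K] (h2 : (2 : K) ≠ 0) {δ : K} (hδ : δ ≠ 0) (k : K) :
    ∃ z : QuadraticAlgebra K δ 0, QuadraticAlgebra.norm z = k := by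
  have hchar : ringChar K ≠ 2 := fun hc => h2 (by haveI := ringChar.of_eq hc; exact CharTwo.two_eq_zero)
  obtain ⟨a, b, h⟩ := FiniteField.exists_root_sum_quadratic (R := K)
    (f := Polynomial.X ^ 2 - Polynomial.C k) (g := Polynomial.C (-δ) * Polynomial.X ^ 2)
    (Polynomial.degree_X_pow_sub_C two_pos k) (Polynomial.degree_C_mul_X_pow 2 (neg_ne_zero.2 hδ))
    (FiniteField.odd_card_of_char_ne_two hchar)
  simp only [eval_sub, eval_pow, eval_X, eval_C, eval_mul] at h
  exact ⟨⟨a, b⟩, by rw [QuadraticAlgebra.norm_def]; linear_combination h⟩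

theorem star_norm {K : Type u} [Field K] {δ : K} (z : QuadraticAlgebra K δ 0) :
    star z * z = algebraMap K _ (QuadraticAlgebra.norm z) := by
  rw [mul_comm]; exact (QuadraticAlgebra.algebraMap_norm_eq_mul_star z).symm

/-- An orthogonal complement of a non-degenerate subspace. -/
theorem isCompl_orth {B : LinearMap.BilinForm F V} (hsymm : ∀ x y, B x y = B y x) {X : Submodule F V}
    (hX : ∀ x ∈ X, (∀ y ∈ X, B x y = 0) → x = 0) : IsCompl X (LinearMap.BilinForm.orthogonal B X) := by
  have href : LinearMap.BilinForm.IsRefl B := fun x y h => by rw [hsymm]; exact h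
  refine LinearMap.BilinForm.isCompl_orthogonal_of_restrict_nondegenerate href ?_
  constructor
  · intro x hx
    exact Subtype.ext (hX x x.2 fun y hy => hx ⟨y, hy⟩)
  · intro x hx
    exact Subtype.ext (hX x x.2 fun y hy => by rw [hsymm]; exact hx ⟨y, hy⟩)

/-- A similarity with prescribed multiplier commuting with the identity. -/
theorem exists_sim_one (h2 : (2 : F) ≠ 0) {B : LinearMap.BilinForm F V} (hsymm : ∀ x y, B x y = B y x)
    (hnd : ∀ x, (∀ y, B x y = 0) → x = 0)
    (hsim : ∀ (q : QuadraticForm F V), (QuadraticMap.polarBilin q).Nondegenerate → ∀ c : F, c ≠ 0 →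
      ∀ n, 1 ≤ n → finrank F V = 2 * n → ∃ g : V ≃ₗ[F] V, ∀ v, q (g v) = c * q v)
    {ν : F} (hν : ν ≠ 0) {n : ℕ} (hn : finrank F V = 2 * n) :
    ∃ u : Module.End F V, (∀ x y, B (u x) (u y) = ν * B x y) ∧ LinearMap.det u = ν ^ n := by
  classical
  rcases Nat.eq_zero_or_pos n with rfl | hn1
  · haveI : Subsingleton V := Module.finrank_zero_iff.1 (by simpa using hn)
    exact ⟨1, fun x y => by simp [Subsingleton.elim x 0], by simp⟩
  set q : QuadraticForm F V := (2⁻¹ : F) • B.toQuadraticMap with hq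
  have hqv : ∀ v, q v = 2⁻¹ * B v v := fun v => rfl
  have hpol : ∀ x y, QuadraticMap.polarBilin q x y = B x y := fun x y => by
    simp only [QuadraticMap.polarBilin_apply_apply, QuadraticMap.polar, hqv, map_add, LinearMap.add_apply]
    rw [hsymm y x]; field_simp; ring
  obtain ⟨g, hg⟩ := hsim q (by
    constructor
    · intro x hx; exact hnd x fun y => by rw [← hpol]; exact hx y
    · intro y hy; exact hnd y fun x => by rw [hsymm, ← hpol]; exact hy x) ν hν n hn1 hn
  set u : Module.End F V := g.toLinearMap with hu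
  have hgB : ∀ x y, B (u x) (u y) = ν * B x y := fun x y => by
    rw [← hpol, ← hpol, QuadraticMap.polarBilin_apply_apply, QuadraticMap.polarBilin_apply_apply,
      QuadraticMap.polar, QuadraticMap.polar, ← map_add, hu]
    simp only [LinearEquiv.coe_coe, hg]
    ring
  -- the sign
  obtain ⟨v, hv⟩ : ∃ v, B v v ≠ 0 := by
    by_contra h
    push Not at h
    haveI : Nontrivial V := Module.nontrivial_of_finrank_pos (R := F) (by omega)
    obtain ⟨x, hx⟩ := exists_ne (0 : V)
    exact hx (hnd x fun y => bilin_zero h2 hsymm (W := ⊤) (fun z _ => h z) trivial trivial)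
  set R : Module.End F V := LinearMap.id - ((2 / B v v) • (B v)).smulRight v with hR
  have hRa : ∀ x, R x = x - (2 / B v v * B v x) • v := fun x => rfl
  have hRR : ∀ x, R (R x) = x := fun x => by
    rw [hRa, hRa, map_sub, map_smul, smul_eq_mul, sub_sub, ← add_smul,
      show 2 / B v v * B v x + 2 / B v v * (B v x - 2 / B v v * B v x * B v v) = 0 by field_simp; ring,
      zero_smul, sub_zero]
  have hRB : ∀ x y, B (R x) (R y) = B x y := fun x y => by
    rw [hRa, hRa]
    simp only [map_sub, map_smul, LinearMap.sub_apply, LinearMap.smul_apply, smul_eq_mul]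
    rw [hsymm x v]
    field_simp
    ring
  have hRdet : LinearMap.det R = -1 := by
    set W := LinearMap.ker (B v) with hW
    have hfix : ∀ w ∈ W, R w = w := fun w hw => by
      rw [hRa, LinearMap.mem_ker.1 hw, mul_zero, zero_smul, sub_zero]
    have hle : W ≤ W.comap R := fun w hw => by rw [Submodule.mem_comap, hfix w hw]; exact hw
    have h1 : R.restrict hle = LinearMap.id := LinearMap.ext fun w => Subtype.ext (hfix w w.2)
    have h2q : W.mapQ W R hle = (-1 : F) • LinearMap.id := by
      refine LinearMap.ext fun z => ?_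
      obtain ⟨x, rfl⟩ := Submodule.Quotient.mk_surjective W z
      rw [Submodule.mapQ_apply, LinearMap.smul_apply, LinearMap.id_apply, neg_one_smul,
        ← Submodule.Quotient.mk_neg, Submodule.Quotient.eq, sub_neg_eq_add, LinearMap.mem_ker, hRa, map_add,
        map_sub, map_smul, smul_eq_mul]
      field_simp
      ring
    have hdim : finrank F (V ⧸ W) = 1 := by
      have hsurj : LinearMap.range (B v) = ⊤ := LinearMap.range_eq_top.2 fun c =>
        ⟨(c / B v v) • v, by rw [map_smul, smul_eq_mul]; field_simp⟩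
      rw [(LinearMap.quotKerEquivRange (B v)).finrank_eq, hsurj, finrank_top, Module.finrank_self]
    rw [LinearMap.det_eq_det_mul_det W R hle, h1, h2q, LinearMap.det_id, one_mul, LinearMap.det_smul,
      LinearMap.det_id, mul_one, hdim, pow_one]
  have hdet : LinearMap.det u = ν ^ n ∨ LinearMap.det u = -ν ^ n := by
    let b := Module.finBasis F V
    have hM : (LinearMap.BilinForm.toMatrix b B).det ≠ 0 :=
      (LinearMap.BilinForm.nondegenerate_iff_det_ne_zero b).1 (by
        constructor
        · intro x hx; exact hnd x hx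
        · intro y hy; exact hnd y fun x => by rw [hsymm]; exact hy x)
    have hcomp : B.comp u u = ν • B := LinearMap.ext₂ fun x y => by
      simp [hgB]
    have h := congrArg (fun M => (LinearMap.BilinForm.toMatrix b M).det) hcomp
    simp only [LinearMap.BilinForm.toMatrix_comp b b, map_smul, Matrix.det_mul, Matrix.det_transpose,
      Matrix.det_smul, LinearMap.det_toMatrix, Fintype.card_fin, hn] at h
    refine mul_self_eq_mul_self_iff.1 (mul_right_cancel₀ hM ?_)
    rw [two_mul, pow_add] at h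
    linear_combination h
  rcases hdet with h | h
  · exact ⟨u, hgB, h⟩
  · exact ⟨R * u, fun x y => by rw [Module.End.mul_apply, Module.End.mul_apply, hRB, hgB], by
      rw [Module.End.mul_eq_comp, LinearMap.det_comp, hRdet, h]; ring⟩

/-- **Similarities commuting with a semisimple isometry.** -/
theorem exists_sim (h2 : (2 : F) ≠ 0) {r : ℕ} (hr : r.Prime) (hro : Odd r) (hrF : (r : F) ≠ 0) {ν : F}
    (hν : ν ≠ 0)
    (hsim : ∀ (V : Type u) [AddCommGroup V] [Module F V] [FiniteDimensional F V] (q : QuadraticForm F V),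
      (QuadraticMap.polarBilin q).Nondegenerate → ∀ c : F, c ≠ 0 →
      ∀ n, 1 ≤ n → finrank F V = 2 * n → ∃ g : V ≃ₗ[F] V, ∀ v, q (g v) = c * q v) :
    ∀ (n : ℕ) (V : Type u) [AddCommGroup V] [Module F V] [FiniteDimensional F V]
      (B : LinearMap.BilinForm F V), (∀ x y, B x y = B y x) → (∀ x, (∀ y, B x y = 0) → x = 0) →
      finrank F V = 2 * n → ∀ S : Module.End F V, (∀ x y, B (S x) (S y) = B x y) → S ^ r = 1 →
      ∃ u : Module.End F V, S * u = u * S ∧ (∀ x y, B (u x) (u y) = ν * B x y) ∧ LinearMap.det u = ν ^ n := by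
  intro n
  induction n using Nat.strong_induction_on with
  | _ n ih =>
  intro V _ _ _ B hsymm hnd hn S hS hSr
  classical
  by_cases hS1 : S = 1
  · obtain ⟨u, hu, hdu⟩ := exists_sim_one h2 hsymm hnd (hsim V) hν hn
    exact ⟨u, by rw [hS1, one_mul, mul_one], hu, hdu⟩
  obtain ⟨K, _, _, _, δ, Ψ, σ₀, L, hδ, hinj, hL, hSΨ, hpair⟩ := exists_block h2 hsymm hnd hS hr hro hrF hSr hS1
  have h2K : (2 : K) ≠ 0 := by
    rw [← map_ofNat (algebraMap F K) 2]
    simpa using h2
  set X := LinearMap.range Ψ with hX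
  set Y := LinearMap.BilinForm.orthogonal B X with hY
  have hcompl : IsCompl X Y := isCompl_orth hsymm (block_nondeg hδ hL hpair)
  have hYmem : ∀ y, y ∈ Y ↔ ∀ x ∈ X, B x y = 0 := fun y => Iff.rfl
  have hSY : ∀ y ∈ Y, S y ∈ Y := by
    intro y hy
    rw [hYmem] at hy ⊢
    rintro _ ⟨z, rfl⟩
    have hiX : ∀ k, ∀ x ∈ X, (S ^ k) x ∈ X := by
      intro k
      induction k with
      | zero => exact fun x hx => hx
      | succ k ihk =>
        intro x hx
        rw [pow_succ', Module.End.mul_apply]
        obtain ⟨z', hz'⟩ := ihk x hx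
        exact ⟨σ₀ * z', by rw [← hz', hSΨ]⟩
    have : Ψ z = S ((S ^ (r - 1)) (Ψ z)) := by
      rw [← Module.End.mul_apply, ← pow_succ', Nat.sub_add_cancel hr.pos, hSr, Module.End.one_apply]
    rw [this, hS]
    exact hy _ (hiX _ _ ⟨z, rfl⟩)
  haveI : Module.Finite F K := Module.Finite.of_finite
  let e := finrank F K
  have hdA : finrank F (QuadraticAlgebra K δ 0) = 2 * e := by
    rw [← Module.finrank_mul_finrank F K (QuadraticAlgebra K δ 0), QuadraticAlgebra.finrank_eq_two, mul_comm]
  haveI : Module.Finite F (QuadraticAlgebra K δ 0) := Module.Finite.trans K _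
  have hdX : finrank F X = 2 * e := by rw [hX, LinearMap.finrank_range_of_inj hinj, hdA]
  have hdY := Submodule.finrank_add_eq_of_isCompl hcompl
  rw [hdX, hn] at hdY
  have he : 0 < e := Module.finrank_pos
  obtain ⟨uY, huYS, huY, huYd⟩ := ih (n - e) (by omega) Y (B.restrict Y) (fun x y => hsymm x y) (fun x hx => by
    refine Subtype.ext (hnd x fun y => ?_)
    obtain ⟨a, ha, b, hb, rfl⟩ := Submodule.mem_sup.1 (hcompl.sup_eq_top ▸ Submodule.mem_top : y ∈ X ⊔ Y)
    rw [map_add, hsymm, (hYmem x).1 x.2 a ha, zero_add]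
    exact hx ⟨b, hb⟩) (by omega) (S.restrict hSY) (fun x y => hS x y) (LinearMap.ext fun x => Subtype.ext (by
      have h1 := aeval_restrict hSY (Polynomial.X ^ r) x
      simp only [map_pow, aeval_X, hSr] at h1
      exact h1))
  obtain ⟨z₀, hz₀⟩ := exists_norm_eq h2K hδ (algebraMap F K ν)
  let M : Module.End F (QuadraticAlgebra K δ 0) := (Algebra.lmul K (QuadraticAlgebra K δ 0) z₀).restrictScalars F
  have hMd : LinearMap.det M = ν ^ e := by
    rw [LinearMap.det_restrictScalars]
    have : LinearMap.det (Algebra.lmul K (QuadraticAlgebra K δ 0) z₀) = algebraMap F K ν := by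
      rw [← hz₀, ← QuadraticAlgebra.det_toLinearMap_eq_norm]
      rfl
    rw [this, Algebra.norm_algebraMap]
  let eX : QuadraticAlgebra K δ 0 ≃ₗ[F] X := LinearEquiv.ofInjective Ψ hinj
  let P : (QuadraticAlgebra K δ 0 × Y) ≃ₗ[F] V :=
    (eX.prodCongr (LinearEquiv.refl F Y)).trans (Submodule.prodEquivOfIsCompl X Y hcompl)
  have hP : ∀ z y, P (z, y) = Ψ z + (y : V) := fun z y => rfl
  let u : Module.End F V := P.toLinearMap ∘ₗ (M.prodMap uY) ∘ₗ P.symm.toLinearMap
  have hu : ∀ z (y : Y), u (Ψ z + (y : V)) = Ψ (z₀ * z) + (uY y : V) := fun z y => by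
    show P ((M.prodMap uY) (P.symm (Ψ z + (y : V)))) = _
    rw [← hP, P.symm_apply_apply]
    rfl
  have hdec : ∀ v, ∃ z, ∃ y : Y, v = Ψ z + (y : V) := fun v =>
    ⟨(P.symm v).1, (P.symm v).2, by rw [← hP, Prod.mk.eta, P.apply_symm_apply]⟩
  refine ⟨u, LinearMap.ext fun v => ?_, fun v v' => ?_, ?_⟩
  · obtain ⟨z, y, rfl⟩ := hdec v
    have h1 : S (Ψ z + (y : V)) = Ψ (σ₀ * z) + ((S.restrict hSY y : Y) : V) := by rw [map_add, hSΨ]; rfl
    rw [Module.End.mul_apply, Module.End.mul_apply, hu, h1, hu, map_add, hSΨ, mul_left_comm]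
    congr 1
    exact congrArg Subtype.val (LinearMap.congr_fun huYS y)
  · obtain ⟨z, y, rfl⟩ := hdec v
    obtain ⟨z', y', rfl⟩ := hdec v'
    rw [hu, hu]
    have h0 : ∀ (w : QuadraticAlgebra K δ 0) (x : Y), B (Ψ w) (x : V) = 0 := fun w x => (hYmem x).1 x.2 _ ⟨w, rfl⟩
    simp only [map_add, LinearMap.add_apply]
    rw [hsymm (uY y : V) (Ψ _), hsymm (y : V) (Ψ _), h0, h0, h0, h0, hpair, hpair,
      show B (uY y : V) (uY y' : V) = ν * B (y : V) (y' : V) from huY y y', star_mul,
      show star z * star z₀ * (z₀ * z') = (star z₀ * z₀) * (star z * z') by ring, star_norm, hz₀,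
      ← Algebra.smul_def, QuadraticAlgebra.re_smul, smul_eq_mul, ← Algebra.smul_def, map_smul, smul_eq_mul]
    ring
  · rw [show LinearMap.det u = LinearMap.det (M.prodMap uY) from LinearMap.det_conj _ P, LinearMap.det_prodMap,
      hMd, huYd, ← pow_add]
    congr 1
    omega

end Cfsg.Lib.H3.SSBlock
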