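import Cfsg.Agent.Lib.H3.SSBlock
import Cfsg.Agent.Lib.Linear.OrthBasic
import Cfsg.Agent.Lib.Linear.OrthSpinor

/-!
# A rotation of spinor norm `-1` commuting with a semisimple isometry
-/

set_option autoImplicit false

namespace Cfsg.Lib.H3.SSSpin

open Module Cfsg.Lib.Linear.Orth
open scoped Matrix

theorem pow_two_ker_le {G : Type*} [CommGroup G] [Finite G] {z : G} (hu : ∀ x : G, x * x = 1 → x = 1 ∨ x = z)
    (i : ℕ) : Nat.card ↥(powMonoidHom (2 ^ i) : G →* G).ker ≤ 2 ^ i := by
  induction i with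
  | zero =>
    have h : (powMonoidHom (2 ^ 0) : G →* G).ker = ⊥ := by
      rw [eq_bot_iff]
      intro x hx
      simpa [MonoidHom.mem_ker] using hx
    rw [h, Subgroup.card_bot, pow_zero]
  | succ i ih =>
    set K' := (powMonoidHom (2 ^ (i + 1)) : G →* G).ker
    let φ : ↥K' →* ↥(powMonoidHom (2 ^ i) : G →* G).ker := MonoidHom.mk'
      (fun x => ⟨(x : G) * x, by
        rw [MonoidHom.mem_ker, powMonoidHom_apply, ← sq, ← pow_mul, ← pow_succ']
        exact x.2⟩) (fun x y => Subtype.ext (mul_mul_mul_comm _ _ _ _))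
    have hker : Nat.card φ.ker ≤ 2 := by
      let f : φ.ker → Bool := fun x => @decide (((x : ↥K') : G) = 1) (Classical.dec _)
      have hf : Function.Injective f := fun x y e => by
        have hx : ((x : ↥K') : G) * ((x : ↥K') : G) = 1 := congrArg Subtype.val (MonoidHom.mem_ker.1 x.2)
        have hy : ((y : ↥K') : G) * ((y : ↥K') : G) = 1 := congrArg Subtype.val (MonoidHom.mem_ker.1 y.2)
        simp only [f, decide_eq_decide] at e
        refine Subtype.ext (Subtype.ext ?_)
        rcases hu _ hx with h | h <;> rcases hu _ hy with h' | h'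
        · rw [h, h']
        · rw [h, e.1 h]
        · rw [h', e.2 h']
        · rw [h, h']
      exact (Nat.card_le_card_of_injective f hf).trans (by simp)
    rw [← Subgroup.card_mul_index φ.ker, Subgroup.index_ker, pow_succ']
    refine Nat.mul_le_mul hker (le_trans ?_ ih)
    exact Nat.card_le_card_of_injective _ Subtype.val_injective

/-- A commutative group with a unique involution. -/
theorem exists_two_generator {G : Type*} [CommGroup G] [Finite G] {z : G} (hz : z * z = 1) (hz1 : z ≠ 1)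
    (hu : ∀ x : G, x * x = 1 → x = 1 ∨ x = z) :
    ∃ (w : G) (j l : ℕ), w ^ 2 ^ j = z ∧ Odd l ∧ Nat.card G = 2 ^ (j + 1) * l := by
  classical
  haveI : Fact (Nat.Prime 2) := ⟨Nat.prime_two⟩
  obtain ⟨P⟩ := Sylow.nonempty (p := 2) (G := G)
  obtain ⟨a, ha⟩ := IsPGroup.iff_card.1 P.isPGroup'
  have hev : 2 ∣ Nat.card G := by
    rw [← orderOf_eq_prime (p := 2) (by rw [sq, hz]) hz1]
    exact orderOf_dvd_natCard z
  have ha0 : a ≠ 0 := by
    rintro rfl
    have h1 := P.not_dvd_index
    have h := (P : Subgroup G).card_mul_index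
    rw [ha, pow_zero, one_mul] at h
    rw [h] at h1
    exact h1 hev
  obtain ⟨j, rfl⟩ : ∃ j, a = j + 1 := ⟨a - 1, by omega⟩
  obtain ⟨w, hwP, hw⟩ : ∃ w ∈ (P : Subgroup G), w ^ 2 ^ j ≠ 1 := by
    by_contra h
    push Not at h
    have hle : (P : Subgroup G) ≤ (powMonoidHom (2 ^ j) : G →* G).ker := fun x hx => h x hx
    have := (Nat.card_le_card_of_injective _ (Subgroup.inclusion_injective hle)).trans (pow_two_ker_le hu j)
    rw [ha, pow_succ] at this
    have := Nat.two_pow_pos j
    omega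
  refine ⟨w, j, (P : Subgroup G).index, ?_, ?_, ?_⟩
  · refine (hu _ ?_).resolve_left hw
    rw [← sq, ← pow_mul, ← pow_succ, ← ha]
    exact congrArg Subtype.val (pow_card_eq_one' (x := (⟨w, hwP⟩ : (P : Subgroup G))))
  · exact Nat.not_even_iff_odd.1 fun h => P.not_dvd_index h.two_dvd
  · rw [← ha, Subgroup.card_mul_index]

/-- The sign of a permutation all of whose non-trivial cycles have length `2 ^ (j + 1)`. -/
theorem sign_free {α : Type*} [Fintype α] [DecidableEq α] {P : Equiv.Perm α} {j : ℕ} (hP : P ^ 2 ^ (j + 1) = 1)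
    (hfree : ∀ x, P x ≠ x → (P ^ 2 ^ j) x ≠ x) :
    ∃ k, Nat.card {x // P x ≠ x} = 2 ^ (j + 1) * k ∧ Equiv.Perm.sign P = (-1) ^ k := by
  have hlen : ∀ n ∈ P.cycleType, n = 2 ^ (j + 1) := by
    intro n hn
    rw [Equiv.Perm.cycleType_def, Multiset.mem_map] at hn
    obtain ⟨c, hc, rfl⟩ := hn
    rw [Finset.mem_val] at hc
    obtain ⟨hcyc, hcP⟩ := Equiv.Perm.mem_cycleFactorsFinset_iff.1 hc
    obtain ⟨x, hx⟩ := Finset.card_pos.1 (lt_of_lt_of_le Nat.zero_lt_two hcyc.two_le_card_support)
    have hxc : c = P.cycleOf x := Equiv.Perm.cycle_is_cycleOf hx hc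
    have hxP : P x ≠ x := by rw [← hcP x hx]; exact Equiv.Perm.mem_support.1 hx
    have hdvd : orderOf c ∣ 2 ^ (j + 1) := by
      refine dvd_trans ?_ (orderOf_dvd_of_pow_eq_one hP)
      rw [hcyc.orderOf]
      exact Equiv.Perm.dvd_of_mem_cycleType (σ := P) (by
        rw [Equiv.Perm.cycleType_def]; exact Multiset.mem_map.2 ⟨c, hc, rfl⟩)
    obtain ⟨i, hi, e⟩ := (Nat.dvd_prime_pow Nat.prime_two).1 hdvd
    rw [Function.comp_apply, ← hcyc.orderOf, e]
    congr 1
    by_contra hne
    have hd : orderOf c ∣ 2 ^ j := e ▸ pow_dvd_pow 2 (by omega)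
    refine hfree x hxP ?_
    rw [← Equiv.Perm.cycleOf_pow_apply_self, ← hxc, orderOf_dvd_iff_pow_eq_one.1 hd, Equiv.Perm.one_apply]
  have hrep : P.cycleType = Multiset.replicate P.cycleType.card (2 ^ (j + 1)) :=
    Multiset.eq_replicate_card.2 hlen
  refine ⟨P.cycleType.card, ?_, ?_⟩
  · rw [Nat.subtype_card P.support fun x => Equiv.Perm.mem_support, ← Equiv.Perm.sum_cycleType, hrep, Multiset.sum_replicate, Multiset.card_replicate, smul_eq_mul,
      mul_comm]
  · rw [Equiv.Perm.sign_of_cycleType]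
    conv_lhs => rw [hrep]
    rw [Multiset.sum_replicate, Multiset.card_replicate, smul_eq_mul, pow_add, pow_succ, ← mul_assoc,
      mul_comm _ 2, pow_mul, Int.units_sq, one_pow, one_mul]

universe u

variable {ι : Type} [Fintype ι] [DecidableEq ι] {F : Type u} [Field F] [Fintype F]
  {Q : (ι → F) → F} {B : LinearMap.BilinForm F (ι → F)}

set_option maxHeartbeats 2000000 in
open scoped Classical in
theorem exists_spin (C : Space Q B) (h2 : (2 : F) ≠ 0) {s : GL ι F} (hs : s ∈ isometryGroup F Q) {r : ℕ}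
    (hr : r.Prime) (hro : Odd r) (hrF : (r : F) ≠ 0) (hsr : s ^ r = 1) (hs1 : s ≠ 1) :
    ∃ g : ↥(isometryGroup F Q), (g : GL ι F).val.det = 1 ∧ spin Q g = -1 ∧
      (g : GL ι F) * s = s * (g : GL ι F) := by
  set S : Module.End F (ι → F) := Matrix.toLin' s.val with hSdef
  have hSa : ∀ v, S v = s.val *ᵥ v := fun v => Matrix.toLin'_apply _ _
  have hS : ∀ x y, B (S x) (S y) = B x y := fun x y => by rw [hSa, hSa, C.B_act hs]
  have hSk : ∀ k : ℕ, S ^ k = Matrix.toLin' (s ^ k).val := fun k => by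
    induction k with
    | zero => rw [pow_zero, pow_zero, Units.val_one, Matrix.toLin'_one]; rfl
    | succ k ih => rw [pow_succ, pow_succ, ih, Units.val_mul, Matrix.toLin'_mul]; rfl
  have hSr : S ^ r = 1 := by rw [hSk, hsr, Units.val_one, Matrix.toLin'_one]; rfl
  have hS1 : S ≠ 1 := fun h => hs1 (gl_ext fun v => by
    rw [← hSa, h, Units.val_one, Matrix.one_mulVec]; rfl)
  obtain ⟨K, _, _, _, δ, Ψ, σ₀, L, hδ, hinj, hL, hSΨ, hpair⟩ :=
    SSBlock.exists_block h2 C.symm (fun x h => C.nondeg' h) hS hr hro hrF hSr hS1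
  haveI : Module.Finite F K := Module.Finite.of_finite
  have h2K : (2 : K) ≠ 0 := by
    rw [← map_ofNat (algebraMap F K) 2]
    simpa using h2
  letI : Fintype (QuadraticAlgebra K δ 0) := Fintype.ofEquiv _ (QuadraticAlgebra.equivProd δ 0).symm
  haveI : Module.Finite F (QuadraticAlgebra K δ 0) := Module.Finite.trans K _
  -- the norm-one units
  let U := (Units.map (QuadraticAlgebra.norm : (QuadraticAlgebra K δ 0) →* K)).ker
  have hU : ∀ x : ↥U, QuadraticAlgebra.norm ((x : (QuadraticAlgebra K δ 0)ˣ) : (QuadraticAlgebra K δ 0)) = 1 := fun x => congrArg Units.val x.2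
  let z : ↥U := ⟨-1, Units.ext (by simp)⟩
  have hz1 : z ≠ 1 := fun h => h2K (by
    have h' := congrArg (fun x : ↥U => (((x : (QuadraticAlgebra K δ 0)ˣ) : (QuadraticAlgebra K δ 0))).re) h
    simp [z, QuadraticAlgebra.re_one] at h'
    linear_combination -h')
  have huniq : ∀ x : ↥U, x * x = 1 → x = 1 ∨ x = z := by
    intro x hx
    set a := ((x : (QuadraticAlgebra K δ 0)ˣ) : (QuadraticAlgebra K δ 0)) with ha
    have h1 : a * a = 1 := congrArg (fun x : ↥U => ((x : (QuadraticAlgebra K δ 0)ˣ) : (QuadraticAlgebra K δ 0))) hx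
    have hre := congrArg QuadraticAlgebra.re h1
    have hn := hU x
    simp [QuadraticAlgebra.re_mul, QuadraticAlgebra.re_one] at hre
    rw [← ha, QuadraticAlgebra.norm_def] at hn
    have him : a.im = 0 := by
      have h : (2 : K) * δ * (a.im * a.im) = 0 := by linear_combination hre - hn
      simpa [h2K, hδ] using h
    simp only [him, mul_zero, add_zero] at hre
    rcases mul_self_eq_one_iff.1 hre with h | h
    · exact Or.inl (Subtype.ext (Units.ext (QuadraticAlgebra.ext (h.trans (by simp [QuadraticAlgebra.re_one])) (him.trans (by simp [QuadraticAlgebra.im_one])))))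
    · exact Or.inr (Subtype.ext (Units.ext (QuadraticAlgebra.ext (h.trans (by simp [z, QuadraticAlgebra.re_one])) (him.trans (by simp [z, QuadraticAlgebra.im_one])))))
  obtain ⟨w', j, l, hw', hl, hcardU⟩ := exists_two_generator (Subtype.ext (Units.ext (by simp [z])) : z * z = 1) hz1 huniq
  set w : (QuadraticAlgebra K δ 0) := ((w' : (QuadraticAlgebra K δ 0)ˣ) : (QuadraticAlgebra K δ 0)) with hwdef
  have hwN : QuadraticAlgebra.norm w = 1 := hU w'
  have hwj : w ^ 2 ^ j = -1 := by
    have h := congrArg (fun x : ↥U => ((x : (QuadraticAlgebra K δ 0)ˣ) : (QuadraticAlgebra K δ 0))) hw'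
    exact h
  have hwpow : w ^ 2 ^ (j + 1) = 1 := by rw [pow_succ, pow_mul, hwj]; simp
  have hneg : ∀ x : (QuadraticAlgebra K δ 0), -x = x → x = 0 := fun x h => by
    have h1 := congrArg QuadraticAlgebra.re h
    have h2' := congrArg QuadraticAlgebra.im h
    change -x.re = x.re at h1
    change -x.im = x.im at h2'
    exact QuadraticAlgebra.ext
      (by simpa [h2K] using (show (2 : K) * x.re = 0 by linear_combination -h1))
      (by simpa [h2K] using (show (2 : K) * x.im = 0 by linear_combination -h2'))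
  have hfix : ∀ x : (QuadraticAlgebra K δ 0), w * x = x → x = 0 := fun x h => hneg x (by
    have : ∀ i, w ^ i * x = x := fun i => by
      induction i with
      | zero => rw [pow_zero, one_mul]
      | succ i ih => rw [pow_succ, mul_assoc, h, ih]
    have := this (2 ^ j)
    rwa [hwj, neg_one_mul] at this)
  -- the decomposition
  set X := LinearMap.range Ψ with hX
  set Y := LinearMap.BilinForm.orthogonal B X with hY
  have hcompl : IsCompl X Y := SSBlock.isCompl_orth C.symm (SSBlock.block_nondeg hδ hL hpair)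
  have horth : ∀ (z : (QuadraticAlgebra K δ 0)) (y : Y), B (Ψ z) (y : ι → F) = 0 := fun z y => y.2 _ ⟨z, rfl⟩
  let eX : (QuadraticAlgebra K δ 0) ≃ₗ[F] X := LinearEquiv.ofInjective Ψ hinj
  let P : ((QuadraticAlgebra K δ 0) × Y) ≃ₗ[F] (ι → F) :=
    (eX.prodCongr (LinearEquiv.refl F Y)).trans (Submodule.prodEquivOfIsCompl X Y hcompl)
  have hP : ∀ z y, P (z, y) = Ψ z + (y : ι → F) := fun z y => rfl
  have hB2 : ∀ z, 2 * Q (Ψ z) = L (QuadraticAlgebra.norm z) := fun z => by
    rw [← C.self, hpair, SSBlock.star_norm]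
    simp
  have hQ : ∀ z (y : Y), 2 * Q (P (z, y)) = L (QuadraticAlgebra.norm z) + 2 * Q (y : ι → F) := fun z y => by
    rw [hP, C.add, horth, add_zero, mul_add, hB2]
  let M : Module.End F (QuadraticAlgebra K δ 0) := (Algebra.lmul K (QuadraticAlgebra K δ 0) w).restrictScalars F
  have hMa : ∀ z, M z = w * z := fun z => rfl
  let N0 : Module.End F ((QuadraticAlgebra K δ 0) × Y) := M.prodMap (LinearMap.id : Y →ₗ[F] Y)
  let W : Module.End F (ι → F) := P.toLinearMap ∘ₗ N0 ∘ₗ P.symm.toLinearMap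
  have hW : ∀ z y, W (P (z, y)) = P (w * z, y) := fun z y => by
    show P (N0 (P.symm (P (z, y)))) = _
    rw [P.symm_apply_apply]; rfl
  have hWdet : LinearMap.det W = 1 := by
    rw [show LinearMap.det W = LinearMap.det N0 from LinearMap.det_conj N0 P, show N0 = M.prodMap (LinearMap.id : Y →ₗ[F] Y) from rfl,
      LinearMap.det_prodMap, LinearMap.det_id, mul_one, LinearMap.det_restrictScalars]
    have : LinearMap.det (Algebra.lmul K (QuadraticAlgebra K δ 0) w) = 1 := by
      rw [← hwN, ← QuadraticAlgebra.det_toLinearMap_eq_norm]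
      rfl
    rw [this, map_one]
  have hWinj : Function.Bijective W := by
    refine (LinearMap.injective_iff_surjective).mp ?_ |> fun h => ⟨(LinearMap.injective_iff_surjective).mpr h, h⟩
    intro a b e
    obtain ⟨⟨za, ya⟩, rfl⟩ := P.surjective a
    obtain ⟨⟨zb, yb⟩, rfl⟩ := P.surjective b
    rw [hW, hW] at e
    have e' := P.injective e
    simp only [Prod.mk.injEq] at e'
    rw [show za = zb from (w' : (QuadraticAlgebra K δ 0)ˣ).isUnit.mul_left_cancel e'.1, e'.2]
  let We := LinearEquiv.ofBijective W hWinj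
  have hinv : LinearMap.toMatrix' W * LinearMap.toMatrix' We.symm.toLinearMap = 1 := by
    rw [← LinearMap.toMatrix'_comp, show W = We.toLinearMap from rfl, LinearEquiv.comp_symm, LinearMap.toMatrix'_id]
  set g0 := toGL (LinearMap.toMatrix' W) with hg0
  have hg0a : ∀ v, g0.val *ᵥ v = W v := fun v => by rw [hg0, toGL_val hinv, LinearMap.toMatrix'_mulVec]
  have hgiso : g0 ∈ isometryGroup F Q := mem_iso.2 fun v => by
    obtain ⟨⟨z, y⟩, rfl⟩ := P.surjective v
    refine mul_left_cancel₀ h2 ?_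
    rw [hg0a, hW, hQ, hQ, map_mul, hwN, one_mul]
  refine ⟨⟨g0, hgiso⟩, ?_, ?_, ?_⟩
  · show g0.val.det = 1
    rw [hg0, toGL_val hinv, LinearMap.det_toMatrix', hWdet]
  · -- the sign
    set σ := levelPerm Q 1 ⟨g0, hgiso⟩ with hσ
    have hσa : ∀ x : {x // Q x = 1}, (σ x).1 = W x.1 := fun x => hg0a x.1
    have hσk : ∀ (k : ℕ) (x : {x // Q x = 1}) z y, x.1 = P (z, y) → ((σ ^ k) x).1 = P (w ^ k * z, y) := by
      intro k x z y hx
      induction k with
      | zero => simpa using hx
      | succ k ih => rw [pow_succ', Equiv.Perm.mul_apply, hσa, ih, hW, pow_succ', mul_assoc]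
    have hσN : σ ^ 2 ^ (j + 1) = 1 := Equiv.ext fun x => Subtype.ext (by
      obtain ⟨⟨z, y⟩, hzy⟩ := P.surjective x.1
      rw [hσk _ x z y hzy.symm, hwpow, one_mul, hzy]; rfl)
    obtain ⟨k, hk, hsign⟩ := sign_free hσN (fun x hx => by
      obtain ⟨⟨z, y⟩, hzy⟩ := P.surjective x.1
      intro h
      have h1 := congrArg Subtype.val h
      rw [hσk _ x z y hzy.symm, hwj, ← hzy] at h1
      have h1' := congrArg Prod.fst (P.injective h1)
      simp only [neg_one_mul] at h1'
      refine hx (Subtype.ext ?_)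
      rw [hσa, ← hzy, hW, hneg z h1', mul_zero])
    -- fibres
    let N := 2 ^ (j + 1)
    let f : F → ℕ := fun c => Nat.card {z : (QuadraticAlgebra K δ 0) // z ≠ 0 ∧ L (QuadraticAlgebra.norm z) = c}
    have hfdvd : ∀ c, N ∣ f c := by
      intro c
      let τ : Equiv.Perm {z : (QuadraticAlgebra K δ 0) // z ≠ 0 ∧ L (QuadraticAlgebra.norm z) = c} :=
        ((w' : (QuadraticAlgebra K δ 0)ˣ).mulLeft).subtypePerm fun z => by
          show (w * z ≠ 0 ∧ L (QuadraticAlgebra.norm (w * z)) = c) ↔ _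
          rw [map_mul, hwN, one_mul, ne_eq, (w' : (QuadraticAlgebra K δ 0)ˣ).mul_right_eq_zero]
      have hτk : ∀ (i : ℕ) z, ((τ ^ i) z).1 = w ^ i * z.1 := fun i z => by
        induction i with
        | zero => simp
        | succ i ih =>
          rw [pow_succ', Equiv.Perm.mul_apply, pow_succ', mul_assoc, ← ih]
          rfl
      obtain ⟨k', hk', -⟩ := sign_free (P := τ) (j := j) (Equiv.ext fun z => Subtype.ext (by
        rw [hτk, hwpow, one_mul]; rfl)) (fun z _ h => z.2.1 (hneg _ (by
        have h1 := congrArg Subtype.val h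
        rwa [hτk, hwj, neg_one_mul] at h1)))
      rw [Nat.card_congr (Equiv.subtypeUnivEquiv fun z (h : τ z = z) => z.2.1 (hfix _ (congrArg Subtype.val h)))] at hk'
      exact ⟨k', hk'⟩
    have hsupp : Nat.card {x // σ x ≠ x} = ∑ y : Y, f (2 - 2 * Q (y : ι → F)) := by
      have hpred : ∀ (y : Y) (z : (QuadraticAlgebra K δ 0)), L (QuadraticAlgebra.norm z) = 2 - 2 * Q (y : ι → F) ↔ Q (P (z, y)) = 1 :=
        fun y z => by
        constructor
        · intro h; refine mul_left_cancel₀ h2 ?_; rw [hQ, h]; ring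
        · intro h
          have h' := hQ z y
          rw [h] at h'
          linear_combination -h'
      rw [show (∑ y : Y, f (2 - 2 * Q (y : ι → F))) =
          Nat.card (Σ y : Y, {z : (QuadraticAlgebra K δ 0) // z ≠ 0 ∧ L (QuadraticAlgebra.norm z) = 2 - 2 * Q (y : ι → F)}) by
        rw [Nat.card_sigma]]
      refine Nat.card_congr (Equiv.symm (Equiv.ofBijective
        (fun a => (⟨⟨P (a.2.1, a.1), (hpred _ _).1 a.2.2.2⟩, fun h => a.2.2.1 (by
          have h1 := congrArg Subtype.val h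
          rw [hσa, hW] at h1
          exact hfix _ (congrArg Prod.fst (P.injective h1)))⟩ : {x // σ x ≠ x})) ⟨?_, ?_⟩))
      · rintro ⟨y, z⟩ ⟨y', z'⟩ e
        have e' := P.injective (congrArg (fun t => t.1.1) e)
        simp only [Prod.mk.injEq] at e'
        obtain ⟨e1, rfl⟩ := e'
        obtain ⟨z, hz⟩ := z
        obtain ⟨z', hz'⟩ := z'
        simp only at e1
        subst e1
        rfl
      · rintro ⟨⟨v, hv⟩, hvs⟩
        obtain ⟨⟨z, y⟩, rfl⟩ := P.surjective v
        refine ⟨⟨y, z, fun h => hvs (Subtype.ext ?_), (hpred _ _).2 hv⟩, rfl⟩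
        rw [hσa]
        show W (P (z, y)) = P (z, y)
        rw [hW, h, mul_zero]
    have hf2 : ∃ l', Odd l' ∧ f 2 = N * l' := by
      have hk0 : ∀ k : K, L k = 2 → k ≠ 0 := fun k hk h => h2 (by rw [← hk, h, map_zero])
      choose ζ hζ using fun k : K => SSBlock.exists_norm_eq h2K hδ k
      have hunit : ∀ k : K, k ≠ 0 → IsUnit (ζ k) := fun k hk =>
        QuadraticAlgebra.isUnit_iff_norm_isUnit.2 (by rw [hζ]; exact isUnit_iff_ne_zero.2 hk)
      have hcount : f 2 = Nat.card {k : K // L k = 2} * Nat.card ↥U := by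
        rw [← Nat.card_prod]
        refine Nat.card_congr (Equiv.symm (Equiv.ofBijective
          (fun a => (⟨ζ a.1.1 * ((a.2 : (QuadraticAlgebra K δ 0)ˣ) : (QuadraticAlgebra K δ 0)), fun h => hk0 _ a.1.2 (by
            have h' := congrArg QuadraticAlgebra.norm h
            rwa [map_mul, hζ, hU, mul_one, QuadraticAlgebra.norm_zero] at h'),
            by rw [map_mul, hζ, hU, mul_one, a.1.2]⟩ :
              {z : (QuadraticAlgebra K δ 0) // z ≠ 0 ∧ L (QuadraticAlgebra.norm z) = 2})) ⟨?_, ?_⟩))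
        · rintro ⟨⟨k, hk⟩, x⟩ ⟨⟨k', hk'⟩, x'⟩ e
          have e' := congrArg Subtype.val e
          have hkk : k = k' := by
            have := congrArg QuadraticAlgebra.norm e'
            simpa [map_mul, hζ, hU] using this
          subst hkk
          obtain rfl : x = x' := Subtype.ext (Units.ext ((hunit k (hk0 k hk)).mul_left_cancel e'))
          rfl
        · rintro ⟨a, ha0, ha⟩
          have hk := hk0 _ ha
          obtain ⟨u, hu⟩ := hunit _ hk
          have hn : QuadraticAlgebra.norm (((u⁻¹ : (QuadraticAlgebra K δ 0)ˣ) : (QuadraticAlgebra K δ 0)) * a) = 1 := by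
            have h1 : QuadraticAlgebra.norm (u : (QuadraticAlgebra K δ 0)) * QuadraticAlgebra.norm ((u⁻¹ : (QuadraticAlgebra K δ 0)ˣ) : (QuadraticAlgebra K δ 0)) = 1 := by
              rw [← map_mul, Units.mul_inv, map_one]
            rw [hu, hζ] at h1
            rw [map_mul, mul_comm, h1]
          obtain ⟨v, hv⟩ : IsUnit (((u⁻¹ : (QuadraticAlgebra K δ 0)ˣ) : (QuadraticAlgebra K δ 0)) * a) :=
            QuadraticAlgebra.isUnit_iff_norm_isUnit.2 (by rw [hn]; exact isUnit_one)
          refine ⟨⟨⟨_, ha⟩, ⟨v, Units.ext ?_⟩⟩, Subtype.ext ?_⟩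
          · show QuadraticAlgebra.norm (v : (QuadraticAlgebra K δ 0)) = 1
            rw [hv, hn]
          · show ζ _ * (v : (QuadraticAlgebra K δ 0)) = a
            refine (congrArg (ζ _ * ·) hv).trans ?_
            show ζ (QuadraticAlgebra.norm a) * (((u⁻¹ : (QuadraticAlgebra K δ 0)ˣ) : (QuadraticAlgebra K δ 0)) * a) = a
            rw [← hu, ← mul_assoc, Units.mul_inv, one_mul]
      obtain ⟨k2, hk2⟩ : ∃ k, L k = 2 := by
        obtain ⟨k, hk⟩ : ∃ k, L k ≠ 0 := by
          by_contra h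
          push Not at h
          exact hL (LinearMap.ext h)
        exact ⟨(2 / L k) • k, by rw [map_smul, smul_eq_mul]; field_simp⟩
      have hodd : Odd (Nat.card {k : K // L k = 2}) := by
        rw [show Nat.card {k : K // L k = 2} = Nat.card ↥(LinearMap.ker L) from
          Nat.card_congr ((Equiv.addRight (-k2)).subtypeEquiv fun k => by
            simp [LinearMap.mem_ker, hk2, sub_eq_zero, ← sub_eq_add_neg]),
          Module.natCard_eq_pow_finrank (K := F)]
        refine Odd.pow ?_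
        rw [Nat.card_eq_fintype_card, Nat.odd_iff]
        exact FiniteField.odd_card_of_char_ne_two fun hc => h2 (by
          haveI := ringChar.of_eq hc; exact CharTwo.two_eq_zero)
      exact ⟨_, hodd.mul hl, by rw [hcount, hcardU]; ring⟩
    obtain ⟨l', hl', hfl⟩ := hf2
    choose gq hgq using hfdvd
    have hk2 : k = ∑ y : Y, gq (2 - 2 * Q (y : ι → F)) := by
      refine Nat.eq_of_mul_eq_mul_left (Nat.two_pow_pos (j + 1)) ?_
      rw [← hk, hsupp, Finset.mul_sum]
      exact Finset.sum_congr rfl fun y _ => hgq _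
    have hgq2 : gq 2 = l' := Nat.eq_of_mul_eq_mul_left (Nat.two_pow_pos (j + 1)) ((hgq 2).symm.trans hfl)
    have hkodd : Odd k := by
      rw [← ZMod.natCast_eq_one_iff_odd, hk2, Nat.cast_sum, ← Finset.add_sum_erase _ _ (Finset.mem_univ (0 : Y))]
      have hrest : ∑ y ∈ (Finset.univ : Finset Y).erase 0, (gq (2 - 2 * Q (y : ι → F)) : ZMod 2) = 0 := by
        refine Finset.sum_involution (fun y _ => -y) (fun y _ => ?_) (fun y hy _ => ?_)
          (fun y hy => by simpa using hy) (fun y _ => neg_neg y)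
        · rw [Submodule.coe_neg, C.neg]; exact CharTwo.add_self_eq_zero _
        · intro h
          refine (Finset.mem_erase.1 hy).1 (Subtype.ext ?_)
          have h' := congrArg (fun t : Y => (t : ι → F)) h
          simp only [Submodule.coe_neg] at h'
          have : (2 : F) • (y : ι → F) = 0 := by rw [two_smul]; nth_rewrite 1 [← h']; simp
          exact (smul_eq_zero.1 this).resolve_left h2
      rw [hrest, add_zero, Submodule.coe_zero, C.zero, mul_zero, sub_zero, hgq2]
      exact ZMod.natCast_eq_one_iff_odd.2 hl'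
    show Equiv.Perm.sign σ = -1
    rw [hkodd.neg_one_pow] at hsign
    convert hsign
  · refine gl_ext fun v => ?_
    show (g0 * s).val *ᵥ v = (s * g0).val *ᵥ v
    rw [mul_act, mul_act, hg0a, hg0a, ← hSa, ← hSa]
    obtain ⟨⟨z, y⟩, rfl⟩ := P.surjective v
    have hSy : S (y : ι → F) ∈ Y := by
      rintro _ ⟨z', rfl⟩
      have hpowX : ∀ k, ∃ z'', (S ^ k) (Ψ z') = Ψ z'' := fun k => by
        induction k with
        | zero => exact ⟨z', rfl⟩
        | succ k ih =>
          obtain ⟨z'', hz''⟩ := ih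
          exact ⟨σ₀ * z'', by rw [pow_succ', Module.End.mul_apply, hz'', hSΨ]⟩
      obtain ⟨z'', hz''⟩ := hpowX (r - 1)
      have : Ψ z' = S (Ψ z'') := by
        rw [← hz'', ← Module.End.mul_apply, ← pow_succ', Nat.sub_add_cancel hr.pos, hSr, Module.End.one_apply]
      show B (Ψ z') (S y) = 0
      rw [this, hS, horth]
    have hSP : ∀ z', S (P (z', y)) = P (σ₀ * z', ⟨_, hSy⟩) := fun z' => by
      rw [hP, hP, map_add, hSΨ]
    rw [hSP, hW, hW, hSP, mul_left_comm]

end Cfsg.Lib.H3.SSSpin
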