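import Cfsg.Agent.Lib.H3.InndiagMod
import Cfsg.Agent.Lib.H3.SSSpin
import Cfsg.Agent.Lib.Linear.OrthStdBasis

/-!
# Classes of semisimple elements of odd prime order in `Aut PΩ±`

The centraliser of such an element covers `Inndiag / Inn`.
-/

set_option autoImplicit false

namespace Cfsg.Lib.H3.SSCentralizer

open Module Cfsg.Lib.Linear.Orth Cfsg.Lib.Linear.AutPO Cfsg.Lib.H3.InndiagMod
open Cfsg.Lib.Linear.Descent (sc sc_val)
open scoped Matrix

set_option quotPrecheck false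

universe u

variable {ι : Type} [Fintype ι] [DecidableEq ι] {F : Type u} [Field F] [Fintype F]
  {Q : (ι → F) → F} {B : LinearMap.BilinForm F (ι → F)}

local notation "GS" => ↥(Cfsg.Geo.quadSimilarityGroup (F := F) Q)
local notation "O" => ↥(isometryGroup F Q)
local notation "P" => Cfsg.POmega F Q

variable (C : Space Q B) (h7 : 7 ≤ Fintype.card ι) {n : ℕ} (hn : Fintype.card ι = 2 * n) (h2 : (2 : F) ≠ 0)
  (p : ℕ) [Fact p.Prime] [CharP F p]
  (hsim : ∀ c : F, c ≠ 0 → ∃ g : GL ι F, ∀ v, Q (g.val *ᵥ v) = c * Q v)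

include C h7 hn h2 p hsim

theorem exists_isometry {x : MulAut P} (hx : x ∈ Cfsg.pgoAut F Q) {r : ℕ} (hr : r.Prime) (hro : Odd r)
    (hxr : orderOf x = r) :
    ∃ s : O, (s : GL ι F) ^ r = 1 ∧ (s : GL ι F) ≠ 1 ∧ innd (isoSim s) = x := by
  have hxi : x ∈ Cfsg.Inn P := by
    obtain ⟨hA, hB⟩ := Cfsg.Lib.H3.inn_relIndex_pso C h2 ⟨n, by omega⟩ h7
    obtain ⟨h21, h22⟩ := relIndex_map C h7 p hn h2 hsim
    have h3 : (pos Q n).map (innd : GS →* MulAut P) ≤ Cfsg.pgoAut F Q := by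
      rw [← range_eq_pgo]; exact Subgroup.map_le_range _ _
    have h1 := soImage_le_map C h7 p hn h2
    have e1 := Subgroup.relIndex_mul_relIndex (Cfsg.Inn P) _ _ (inn_le_soImage C) (h1.trans h3)
    rw [← Subgroup.relIndex_mul_relIndex _ _ _ h1 h3, h21, h22, soImage_eq_pso] at e1
    have e2 : (Cfsg.Inn P).relIndex (Cfsg.pgoAut F Q) ∣ 2 ^ 3 := by
      rw [← e1]
      by_cases hz : ∃ g : O, g ∈ Cfsg.Omega F Q ∧ (g : GL ι F).val = -1
      · rw [hA hz]; norm_num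
      · rw [hB hz]; norm_num
    have hcard := card_quot (Cfsg.pgoAut F Q) (Cfsg.Inn P)
    have hfin : Finite (↥(Cfsg.pgoAut F Q) ⧸ (Cfsg.Inn P).subgroupOf (Cfsg.pgoAut F Q)) :=
      Nat.finite_of_card_ne_zero (by
        rw [hcard]; exact fun h => by rw [h] at e2; simp at e2)
    have hd1 : orderOf (QuotientGroup.mk ⟨x, hx⟩ : ↥(Cfsg.pgoAut F Q) ⧸ (Cfsg.Inn P).subgroupOf _) ∣ r := by
      rw [← hxr]
      refine orderOf_dvd_of_pow_eq_one ?_
      rw [← QuotientGroup.mk_pow, show (⟨x, hx⟩ : ↥(Cfsg.pgoAut F Q)) ^ orderOf x = 1 from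
        Subtype.ext (pow_orderOf_eq_one x), QuotientGroup.mk_one]
    have hd2 : orderOf (QuotientGroup.mk ⟨x, hx⟩ : ↥(Cfsg.pgoAut F Q) ⧸ (Cfsg.Inn P).subgroupOf _) ∣ 2 ^ 3 :=
      (orderOf_dvd_natCard _).trans (hcard ▸ e2)
    have h1' := Nat.eq_one_of_dvd_coprimes ((Nat.coprime_two_right.2 hro).pow_right 3) hd1 hd2
    rw [orderOf_eq_one_iff, QuotientGroup.eq_one_iff, Subgroup.mem_subgroupOf] at h1'
    exact h1'
  obtain ⟨k, hk⟩ := hxi
  obtain ⟨t, rfl⟩ := QuotientGroup.mk_surjective k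
  obtain ⟨A, hA, hA'⟩ := conj_mk_eq C h7 p t
  have hAx : innd A = x := hA'.trans hk
  have hpow : innd (A ^ r) = (1 : MulAut P) := by rw [map_pow, hAx, ← hxr, pow_orderOf_eq_one]
  obtain ⟨c, hc⟩ := (innd_eq_sc C h7 p).1 hpow
  rw [SubgroupClass.coe_pow, hA] at hc
  have hiso : sc c ∈ isometryGroup F Q := hc ▸ pow_mem (om_mem t) r
  obtain ⟨v, hv⟩ := Cfsg.Lib.H3.exists_nonsing_vec C (by omega)
  have hcc : (c : F) * c = 1 := by
    have h := mem_iso.1 hiso v
    rw [sc_act, C.smul, sq] at h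
    exact mul_right_cancel₀ hv (by rw [h, one_mul])
  have hcc' : c * c = 1 := Units.ext hcc
  have hsiso : sc c * om Q t ∈ isometryGroup F Q := mul_mem hiso (om_mem t)
  have hsc : innd (isoSim ⟨sc c * om Q t, hsiso⟩) = x := by
    rw [← hAx]
    exact (innd_eq_innd_sc C h7 p).2 ⟨c, by rw [hA]; rfl⟩
  have hcr : c ^ r = c := by
    obtain ⟨k, rfl⟩ := hro
    rw [pow_add, pow_mul, sq, hcc', one_pow, one_mul, pow_one]
  refine ⟨⟨sc c * om Q t, hsiso⟩, ?_, fun h => ?_, hsc⟩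
  · show (sc c * om Q t) ^ r = 1
    rw [(show Commute (sc c) (om Q t) from Cfsg.Lib.Linear.Descent.sc_comm c (om Q t)).mul_pow, hc, ← map_pow, hcr,
      ← map_mul, hcc', map_one]
  · have h1 : isoSim (⟨sc c * om Q t, hsiso⟩ : O) = 1 := Subtype.ext h
    rw [h1, map_one] at hsc
    rw [← hsc, orderOf_one] at hxr
    exact hr.ne_one hxr.symm

/-- The centraliser of `x` covers `Inndiag / Inn`. -/
theorem sup_centralizer {x : MulAut P} (hx : x ∈ Cfsg.pgoAut F Q) {r : ℕ} (hr : r.Prime) (hro : Odd r)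
    (hrp : r ≠ p) (hxr : orderOf x = r) :
    (pos Q n).map (innd : GS →* MulAut P) ≤
      Cfsg.Inn P ⊔ (pos Q n).map (innd : GS →* MulAut P) ⊓ Subgroup.centralizer {x} ∧
    ∃ A ∈ pos Q n, ∃ ν : F, ¬ IsSquare ν ∧ (∀ v, Q (A.1.val *ᵥ v) = ν * Q v) ∧ innd A * x = x * innd A := by
  classical
  obtain ⟨s, hsr, hs1, rfl⟩ := exists_isometry C h7 hn h2 p hsim hx hr hro hxr
  have hrF : (r : F) ≠ 0 := fun h => hrp ((Nat.prime_dvd_prime_iff_eq Fact.out hr).1
    ((CharP.cast_eq_zero_iff F p r).1 h)).symm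
  -- a similarity
  obtain ⟨α, hα⟩ := FiniteField.exists_nonsquare (F := F) (fun hc => h2 (by
    haveI := ringChar.of_eq hc; exact CharTwo.two_eq_zero))
  have hα0 : α ≠ 0 := fun h => hα (h ▸ ⟨0, (mul_zero 0).symm⟩)
  set S : Module.End F (ι → F) := Matrix.toLin' (s : GL ι F).val with hS
  have hSk : ∀ k : ℕ, S ^ k = Matrix.toLin' ((s : GL ι F) ^ k).val := fun k => by
    induction k with
    | zero => rw [pow_zero, pow_zero, Units.val_one, Matrix.toLin'_one]; rfl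
    | succ k ih => rw [pow_succ, pow_succ, ih, Units.val_mul, Matrix.toLin'_mul]; rfl
  obtain ⟨u, huS, huB, hud⟩ := SSBlock.exists_sim h2 hr hro hrF hα0
    (fun V _ _ _ q hq c hc m hm hV => Cfsg.Lib.Linear.Orth.exists_similarity hm hV q hq c hc)
    n (ι → F) B C.symm (fun x h => C.nondeg' h) (by rw [finrank_fintype_fun_eq_card, hn]) S
    (fun a b => by rw [hS, Matrix.toLin'_apply, Matrix.toLin'_apply, C.B_act s.2])
    (by rw [hSk, hsr, Units.val_one, Matrix.toLin'_one]; rfl)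
  have hinj : Function.Injective u := by
    rw [injective_iff_map_eq_zero]
    intro a ha
    refine C.nondeg' fun b => ?_
    have h := huB a b
    rw [ha, map_zero, LinearMap.zero_apply] at h
    exact (mul_eq_zero.1 h.symm).resolve_left hα0
  let ue := LinearEquiv.ofBijective u ⟨hinj, LinearMap.injective_iff_surjective.mp hinj⟩
  have hinv : LinearMap.toMatrix' u * LinearMap.toMatrix' ue.symm.toLinearMap = 1 := by
    rw [← LinearMap.toMatrix'_comp, show u = ue.toLinearMap from rfl, LinearEquiv.comp_symm, LinearMap.toMatrix'_id]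
  set g := toGL (LinearMap.toMatrix' u) with hg
  have hga : ∀ v, g.val *ᵥ v = u v := fun v => by rw [hg, toGL_val hinv, LinearMap.toMatrix'_mulVec]
  have hgQ : ∀ v, Q (g.val *ᵥ v) = α * Q v := fun v => by
    refine mul_left_cancel₀ h2 ?_
    rw [hga, ← C.self, huB, C.self]; ring
  let A : GS := ⟨g, Units.mk0 α hα0, hgQ⟩
  have hApos : A ∈ pos Q n := ⟨Units.mk0 α hα0, hgQ, by
    show g.val.det = α ^ n
    rw [hg, toGL_val hinv, LinearMap.det_toMatrix', hud]⟩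
  have hAc : innd A * innd (isoSim s) = innd (isoSim s) * innd A := by
    rw [← map_mul, ← map_mul]
    refine congrArg innd (Subtype.ext (gl_ext fun v => ?_))
    show (g * (s : GL ι F)).val *ᵥ v = ((s : GL ι F) * g).val *ᵥ v
    rw [mul_act, mul_act, hga, hga]
    have h := LinearMap.congr_fun huS v
    rw [Module.End.mul_apply, Module.End.mul_apply, hS, Matrix.toLin'_apply, Matrix.toLin'_apply] at h
    exact h.symm
  refine ⟨?_, A, hApos, α, hα, hgQ, hAc⟩
  set D := (pos Q n).map (innd : GS →* MulAut P) with hD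
  set M := Cfsg.Inn P ⊔ D ⊓ Subgroup.centralizer {innd (isoSim s)} with hM
  have hso : (soImage : Subgroup (MulAut P)) ≤ M := by
    obtain ⟨hA', hB'⟩ := Cfsg.Lib.H3.inn_relIndex_pso C h2 ⟨n, by omega⟩ h7
    by_cases hz : ∃ g : O, g ∈ Cfsg.Omega F Q ∧ (g : GL ι F).val = -1
    swap
    · have h1 := hB' hz
      rw [← soImage_eq_pso, Subgroup.relIndex_eq_one] at h1
      exact h1.trans le_sup_left
    obtain ⟨w, hwd, hws, hwc⟩ := SSSpin.exists_spin C h2 s.2 hr hro hrF hsr hs1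
    have hwM : innd (isoSim w) ∈ M := by
      refine Subgroup.mem_sup_right ⟨soImage_le_map C h7 p hn h2 (mem_soImage.2 ⟨w, hwd, rfl⟩),
        Subgroup.mem_centralizer_singleton_iff.2 ?_⟩
      simp only [← map_mul]
      exact congrArg (fun t : O => innd (isoSim t)) (Subtype.ext hwc)
    intro β hβ
    obtain ⟨t, ht, rfl⟩ := mem_soImage.1 hβ
    rcases Int.units_eq_one_or (spin Q t) with h | h
    · exact Subgroup.mem_sup_left (inner_of_omega C h7 p h2 ht h)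
    · have h1 : innd (isoSim (t * w⁻¹)) ∈ M := by
        refine Subgroup.mem_sup_left (inner_of_omega C h7 p h2 ?_ (by rw [map_mul, map_inv, h, hws]; decide))
        have e' : Matrix.GeneralLinearGroup.det (((t * w⁻¹ : O)) : GL ι F) =
            Matrix.GeneralLinearGroup.det (t : GL ι F) * (Matrix.GeneralLinearGroup.det (w : GL ι F))⁻¹ := by simp
        refine (congrArg Units.val e').trans ?_
        rw [Units.val_mul, Units.val_inv_eq_inv_val]
        show (t : GL ι F).val.det * (w : GL ι F).val.det⁻¹ = 1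
        rw [ht, hwd, inv_one, mul_one]
      have h2' := mul_mem h1 hwM
      rwa [← map_mul, ← map_mul, inv_mul_cancel_right] at h2'
  have hAM : innd A ∈ M :=
    Subgroup.mem_sup_right ⟨⟨A, hApos, rfl⟩, Subgroup.mem_centralizer_singleton_iff.2 hAc⟩
  have hMD : M ≤ D := sup_le ((inn_le_soImage C).trans (soImage_le_map C h7 p hn h2)) inf_le_left
  have hidx := (relIndex_map C h7 p hn h2 hsim).1
  rw [← Subgroup.relIndex_mul_relIndex _ M D hso hMD] at hidx
  have hne : (soImage : Subgroup (MulAut P)).relIndex M ≠ 1 := fun h =>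
    not_mem_soImage C h7 p hn h2 hgQ hα (Subgroup.relIndex_eq_one.1 h hAM)
  have h12 := (Nat.dvd_prime Nat.prime_two).1 (Dvd.intro _ hidx)
  rw [h12.resolve_left hne] at hidx
  exact Subgroup.relIndex_eq_one.1 (by omega)

theorem semisimple_conj {x : MulAut P} (hx : x ∈ Cfsg.pgoAut F Q) {r : ℕ} (hr : r.Prime) (hro : Odd r)
    (hrp : r ≠ p) (hxr : orderOf x = r) :
    (∀ y : MulAut P, (Cfsg.IsConjUnder (Cfsg.Inn P) x y ↔
        Cfsg.IsConjUnder ((pos Q n).map (innd : GS →* MulAut P)) x y) ∧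
      (Cfsg.IsConjUnder (Cfsg.psoAut F Q) x y ↔
        Cfsg.IsConjUnder ((pos Q n).map (innd : GS →* MulAut P)) x y)) ∧
    (∀ y : MulAut P, Cfsg.IsConjUnder (Cfsg.poAut F Q) x y ↔ Cfsg.IsConjUnder (Cfsg.pgoAut F Q) x y) := by
  classical
  obtain ⟨hcov, A, hA, ν, hν, hAQ, hAc⟩ := sup_centralizer C h7 hn h2 p hsim hx hr hro hrp hxr
  set D := (pos Q n).map (innd : GS →* MulAut P) with hD
  have hIso : Cfsg.Inn P ≤ Cfsg.psoAut F Q := (inn_le_soImage C).trans_eq soImage_eq_pso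
  have hsoD : Cfsg.psoAut F Q ≤ D := soImage_eq_pso.symm.trans_le (soImage_le_map C h7 p hn h2)
  have hdown : ∀ y, Cfsg.IsConjUnder D x y → Cfsg.IsConjUnder (Cfsg.Inn P) x y := by
    rintro y ⟨h, hh, rfl⟩
    obtain ⟨k, hk, c, hc, rfl⟩ := Subgroup.mem_sup_of_normal_left.1 (hcov hh)
    refine ⟨k, hk, ?_⟩
    have hcx := Subgroup.mem_centralizer_singleton_iff.1 hc.2
    calc k * c * x * (k * c)⁻¹ = k * (c * x) * c⁻¹ * k⁻¹ := by group
      _ = k * x * k⁻¹ := by rw [hcx]; group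
  refine ⟨fun y => ⟨⟨fun ⟨h, hh, e⟩ => ⟨h, hsoD (hIso hh), e⟩, hdown y⟩,
    ⟨fun ⟨h, hh, e⟩ => ⟨h, hsoD hh, e⟩, fun h => let ⟨k, hk, e⟩ := hdown y h; ⟨k, hIso hk, e⟩⟩⟩, fun y => ?_⟩
  have hpo : ∀ t : O, innd (isoSim t) ∈ Cfsg.poAut F Q := fun t =>
    Subgroup.subset_closure ⟨(t : GL ι F), t.2, isInduced_innd (isoSim t)⟩
  have hpo_le : Cfsg.poAut F Q ≤ Cfsg.pgoAut F Q := by
    refine (Subgroup.closure_le _).2 ?_
    rintro β ⟨g, hg, hβ⟩
    exact Subgroup.subset_closure ⟨g, ⟨1, fun v => by rw [Units.val_one, one_mul]; exact mem_iso.1 hg v⟩, hβ⟩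
  have hsquare : ∀ (G : GS) (c : F), (∀ v, Q (G.1.val *ᵥ v) = c * Q v) → IsSquare c → innd G ∈ Cfsg.poAut F Q := by
    rintro G c hc ⟨e, rfl⟩
    obtain ⟨cu, hcu⟩ := G.2
    have he0 : e ≠ 0 := fun h => cu.ne_zero (by rw [mult_unique C h7 hcu hc, h, mul_zero])
    have hiso : sc (Units.mk0 e he0)⁻¹ * G.1 ∈ isometryGroup F Q := mem_iso.2 fun v => by
      rw [mul_act, sc_act, C.smul, hc, Units.val_inv_eq_inv_val, Units.val_mk0]
      field_simp
    have := hpo ⟨_, hiso⟩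
    rwa [show innd (isoSim (⟨_, hiso⟩ : O)) = innd G from
      (innd_eq_innd_sc C h7 p).2 ⟨(Units.mk0 e he0)⁻¹, rfl⟩] at this
  refine ⟨fun ⟨h, hh, e⟩ => ⟨h, hpo_le hh, e⟩, ?_⟩
  rintro ⟨h, hh, rfl⟩
  rw [← range_eq_pgo] at hh
  obtain ⟨G, rfl⟩ := hh
  obtain ⟨c, hc⟩ := G.2
  by_cases hsq : IsSquare (c : F)
  · exact ⟨_, hsquare G c hc hsq, rfl⟩
  · have hν0 : ν ≠ 0 := fun h => hν (h ▸ ⟨0, (mul_zero 0).symm⟩)
    refine ⟨innd (G * A⁻¹), hsquare _ ((c : F) * ν⁻¹) (fun v => ?_) ?_, ?_⟩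
    · rw [Subgroup.coe_mul, Subgroup.coe_inv, mul_act, hc]
      have h := hAQ ((A.1⁻¹ : GL ι F).val *ᵥ v)
      rw [act_inv] at h
      rw [h]; field_simp
    · rw [← quadraticChar_one_iff_isSquare (mul_ne_zero c.ne_zero (inv_ne_zero hν0)), map_mul,
        quadraticChar_neg_one_iff_not_isSquare.2 hsq,
        quadraticChar_neg_one_iff_not_isSquare.2 (fun h => hν (isSquare_inv.1 h))]
      norm_num
    · rw [map_mul, map_inv]
      calc innd G * x * (innd G)⁻¹ = innd G * (innd A)⁻¹ * (innd A * x) * (innd A)⁻¹ * (innd A * (innd G)⁻¹) := by group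
        _ = _ := by rw [hAc]; group

end Cfsg.Lib.H3.SSCentralizer
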