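import Cfsg.Agent.Lib.Linear.OrthBasic
import Cfsg.Agent.Lib.Linear.OrthTrans
import Cfsg.Prelude.Def_LieTypeDatum

/-!
# Similarities and the two classes of maximal totally singular subspaces

For a split form in dimension `2n` and odd characteristic, a similarity of multiplier `c` preserves
the two classes exactly when its determinant is `c ^ n`.
-/

set_option autoImplicit false

namespace Cfsg.Lib.H3.Singular

open Module Cfsg.Lib.Linear.Orth
open scoped Matrix

section General

variable {ι : Type} [Fintype ι] [DecidableEq ι] {F : Type*} [Field F]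
  {Q : (ι → F) → F} {B : LinearMap.BilinForm F (ι → F)} (C : Space Q B) {n : ℕ}
  (hn : Fintype.card ι = 2 * n)

include C

theorem refl' : LinearMap.BilinForm.IsRefl B := fun x y h => by rw [C.symm]; exact h

theorem nondeg'' : LinearMap.BilinForm.Nondegenerate B := by
  constructor
  · intro u hu
    exact C.nondeg' hu
  · intro y hy
    exact C.nondeg y hy

theorem ts_le_orth {U : Submodule F (ι → F)} (hU : ∀ x ∈ U, Q x = 0) :
    U ≤ LinearMap.BilinForm.orthogonal B U := by
  intro x hx y hy
  have h := hU _ (U.add_mem hy hx)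
  rw [C.add, hU _ hy, hU _ hx] at h
  show B y x = 0
  simpa using h

include hn

theorem orth_eq {U : Submodule F (ι → F)} (hU : ∀ x ∈ U, Q x = 0) (hd : finrank F U = n) :
    LinearMap.BilinForm.orthogonal B U = U := by
  refine (Submodule.eq_of_le_of_finrank_le (ts_le_orth C hU) ?_).symm
  rw [LinearMap.BilinForm.finrank_orthogonal (nondeg'' C), hd, finrank_fintype_fun_eq_card, hn]
  omega

/-- A maximal totally singular subspace of a split form has half the dimension. -/
theorem finrank_of_max {U₀ : Submodule F (ι → F)} (hU₀ : ∀ x ∈ U₀, Q x = 0) (hd₀ : finrank F U₀ = n)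
    {U : Submodule F (ι → F)} (hU : Cfsg.IsMaxTotallySingular Q U) : finrank F U = n := by
  obtain ⟨hts, hmax⟩ := hU
  have hts' : ∀ x ∈ U, Q x = 0 := hts
  have hle : U₀ ⊓ LinearMap.BilinForm.orthogonal B U ≤ U₀ ⊓ U := by
    refine le_inf inf_le_left ?_
    have h := hmax (U ⊔ (U₀ ⊓ LinearMap.BilinForm.orthogonal B U)) ?_ le_sup_left
    · exact le_sup_right.trans h.le
    · intro x hx
      obtain ⟨u, hu, w, hw, rfl⟩ := Submodule.mem_sup.1 hx
      rw [C.add, hts' u hu, hU₀ w hw.1, show B u w = 0 from hw.2 u hu, add_zero, add_zero]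
  have heq : LinearMap.BilinForm.orthogonal B (U₀ ⊔ U) = U₀ ⊓ U := by
    refine le_antisymm ?_ ?_
    · refine le_trans ?_ hle
      refine le_inf ?_ ?_
      · exact fun x hx => (orth_eq C hn hU₀ hd₀).le fun y hy => hx y (Submodule.mem_sup_left hy)
      · exact fun x hx y hy => hx y (Submodule.mem_sup_right hy)
    · intro x hx y hy
      obtain ⟨u, hu, w, hw, rfl⟩ := Submodule.mem_sup.1 hy
      show B (u + w) x = 0
      rw [map_add, LinearMap.add_apply, show B u x = 0 from ts_le_orth C hU₀ hx.1 u hu,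
        show B w x = 0 from ts_le_orth C hts' hx.2 w hw, add_zero]
  have h1 := LinearMap.BilinForm.finrank_orthogonal (nondeg'' C) (U₀ ⊔ U)
  rw [heq, finrank_fintype_fun_eq_card, hn] at h1
  have h2 := Submodule.finrank_sup_add_finrank_inf_eq U₀ U
  have h3 := Submodule.finrank_le (U₀ ⊔ U)
  rw [finrank_fintype_fun_eq_card, hn] at h3
  omega

/-- A similarity fixing a maximal totally singular subspace. -/
theorem det_of_fix {g : GL ι F} {c : F} (hc : c ≠ 0) (hg : ∀ v, Q (g.val *ᵥ v) = c * Q v)
    {U : Submodule F (ι → F)} (hU : ∀ x ∈ U, Q x = 0) (hd : finrank F U = n)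
    (hfix : ∀ x ∈ U, g.val *ᵥ x ∈ U) : g.val.det = c ^ n := by
  set L : (ι → F) →ₗ[F] (ι → F) := Matrix.toLin' g.val with hL
  have hLa : ∀ x, L x = g.val *ᵥ x := fun x => Matrix.toLin'_apply _ _
  have hle : U ≤ U.comap L := fun x hx => by
    rw [Submodule.mem_comap, hLa]; exact hfix x hx
  have hB : ∀ x y, B (L x) (L y) = c * B x y := fun x y => by
    rw [hLa, hLa, ← C.polar, ← C.polar, QuadraticMap.polar, QuadraticMap.polar, ← Matrix.mulVec_add,
      hg, hg, hg]
    ring
  let Φ : (ι → F) →ₗ[F] Module.Dual F U := U.subtype.dualMap ∘ₗ B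
  have hker : LinearMap.ker Φ = U := by
    ext x
    rw [LinearMap.mem_ker]
    constructor
    · intro h
      rw [← orth_eq C hn hU hd]
      intro y hy
      show B y x = 0
      rw [C.symm]
      exact LinearMap.congr_fun h ⟨y, hy⟩
    · intro hx
      refine LinearMap.ext fun y => ?_
      show B x (y : ι → F) = 0
      rw [C.symm]
      exact ts_le_orth C hU hx y y.2
  have hsurj : Function.Surjective Φ := by
    rw [← LinearMap.range_eq_top]
    refine Submodule.eq_top_of_finrank_eq ?_
    have h := LinearMap.finrank_range_add_finrank_ker Φ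
    rw [hker, hd, finrank_fintype_fun_eq_card, hn] at h
    rw [Subspace.dual_finrank_eq, hd]
    omega
  let e : ((ι → F) ⧸ U) ≃ₗ[F] Module.Dual F U :=
    (Submodule.quotEquivOfEq U (LinearMap.ker Φ) hker.symm).trans (Φ.quotKerEquivOfSurjective hsurj)
  have he : ∀ x, e (Submodule.Quotient.mk x) = Φ x := fun x => rfl
  let f := L.restrict hle
  let q := U.mapQ U L hle
  have hcomp : f.dualMap ∘ₗ ((e : ((ι → F) ⧸ U) →ₗ[F] Module.Dual F U) ∘ₗ q ∘ₗ
      (e.symm : Module.Dual F U →ₗ[F] ((ι → F) ⧸ U))) = c • LinearMap.id := by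
    refine LinearMap.ext fun φ => ?_
    obtain ⟨x, rfl⟩ := hsurj φ
    have : e.symm (Φ x) = Submodule.Quotient.mk x := by rw [← he, LinearEquiv.symm_apply_apply]
    refine LinearMap.ext fun u => ?_
    simp only [LinearMap.comp_apply, LinearEquiv.coe_coe, LinearMap.smul_apply, LinearMap.id_apply]
    rw [this, show q (Submodule.Quotient.mk x) = Submodule.Quotient.mk (L x) from rfl, he]
    show B (L x) (L u) = c • B x u
    rw [hB, smul_eq_mul]
  have h1 := congrArg LinearMap.det hcomp
  rw [LinearMap.det_comp, LinearMap.det_dualMap, LinearMap.det_conj, LinearMap.det_smul,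
    LinearMap.det_id, mul_one, Subspace.dual_finrank_eq, hd] at h1
  rw [← LinearMap.det_toLin', LinearMap.det_eq_det_mul_det U _ hle]
  exact h1

/-- The determinant of a similarity and the parity of the image of a maximal totally singular
subspace. -/
theorem det_eq_parity (h2 : (2 : F) ≠ 0) {g : GL ι F} {c : F} (hc : c ≠ 0)
    (hg : ∀ v, Q (g.val *ᵥ v) = c * Q v) {U : Submodule F (ι → F)} (hU : ∀ x ∈ U, Q x = 0)
    (hd : finrank F U = n) {d : ℕ}
    (hk : finrank F ↥(U ⊓ Cfsg.imageSubmodule g.val U) + d = n) :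
    g.val.det = c ^ n * (-1) ^ d := by
  induction d generalizing g with
  | zero =>
    rw [pow_zero, mul_one]
    refine det_of_fix C hn hc hg hU hd fun x hx => ?_
    have h := Submodule.eq_of_le_of_finrank_le (inf_le_left (a := U) (b := Cfsg.imageSubmodule g.val U))
      (by omega)
    have hW : U ≤ Cfsg.imageSubmodule g.val U := inf_eq_left.1 h
    have heq : U = Cfsg.imageSubmodule g.val U := Submodule.eq_of_le_of_finrank_le hW
      (Submodule.finrank_map_le _ _)
    rw [heq]
    exact ⟨x, hx, Matrix.toLin'_apply _ _⟩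
  | succ d ih =>
    set W := Cfsg.imageSubmodule g.val U with hWdef
    have hWmem : ∀ x ∈ U, g.val *ᵥ x ∈ W := fun x hx => ⟨x, hx, Matrix.toLin'_apply _ _⟩
    have hWts : ∀ x ∈ W, Q x = 0 := by
      rintro _ ⟨x, hx, rfl⟩
      rw [Matrix.toLin'_apply, hg, hU x hx, mul_zero]
    have hinj : Function.Injective (Matrix.toLin' g.val) := fun x y h => act_injective g (by
      rw [Matrix.toLin'_apply, Matrix.toLin'_apply] at h; exact h)
    have hWd : finrank F W = n := by
      rw [hWdef, Cfsg.imageSubmodule,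
        ← (Submodule.equivMapOfInjective _ hinj U).finrank_eq, hd]
    obtain ⟨u, huU, huW⟩ : ∃ u ∈ U, u ∉ W := by
      by_contra h
      push Not at h
      rw [inf_eq_left.2 (show U ≤ W from h), hd] at hk
      omega
    obtain ⟨w, hwW, huw⟩ : ∃ w ∈ W, B u w ≠ 0 := by
      by_contra h
      push Not at h
      refine huW ((orth_eq C hn hWts hWd).le fun w hw => ?_)
      show B w u = 0
      rw [C.symm]; exact h w hw
    set v := u + w with hv
    have hQv : Q v = B u w := by rw [hv, C.add, hU u huU, hWts w hwW]; ring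
    have hv0 : Q v ≠ 0 := hQv ▸ huw
    have hr := rGL_act C hv0
    set g' := rGL Q v * g with hg'
    have hg's : ∀ x, Q (g'.val *ᵥ x) = c * Q x := fun x => by
      rw [hg', mul_act, mem_iso.1 (rGL_mem C hv0), hg]
    have hBv : ∀ x ∈ W, B v x = B u x := fun x hx => by
      rw [hv, map_add, LinearMap.add_apply, show B w x = 0 from ts_le_orth C hWts hx w hwW, add_zero]
    have himg : U ⊓ Cfsg.imageSubmodule g'.val U = (U ⊓ W) ⊔ Submodule.span F {u} := by
      refine le_antisymm ?_ ?_
      · rintro y ⟨hyU, x, hxU, hxy⟩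
        rw [Matrix.toLin'_apply, hg', mul_act, hr, hBv _ (hWmem x hxU)] at hxy
        set t := (Q v)⁻¹ * B u (g.val *ᵥ x) with ht
        set z := g.val *ᵥ x - t • w with hz
        have hzy : z = y + t • u := by
          rw [hz, ← hxy, hv]; module
        refine Submodule.mem_sup.2 ⟨z, ⟨hzy ▸ U.add_mem hyU (U.smul_mem _ huU),
          W.sub_mem (hWmem x hxU) (W.smul_mem _ hwW)⟩, -(t • u),
          Submodule.neg_mem _ (Submodule.smul_mem _ _ (Submodule.mem_span_singleton_self u)), ?_⟩
        rw [hzy]; abel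
      · refine sup_le (le_inf inf_le_left ?_) ?_
        · rintro y ⟨hyU, hyW⟩
          obtain ⟨x, hx, hxy⟩ := id hyW
          refine ⟨x, hx, ?_⟩
          rw [Matrix.toLin'_apply] at hxy
          rw [Matrix.toLin'_apply, hg', mul_act, hxy, hr, hBv y hyW,
            show B u y = 0 from ts_le_orth C hU hyU u huU, mul_zero, zero_smul, sub_zero]
        · rw [Submodule.span_singleton_le_iff_mem]
          refine ⟨huU, ?_⟩
          obtain ⟨x, hx, hxw⟩ := id hwW
          refine ⟨-x, U.neg_mem hx, ?_⟩
          rw [Matrix.toLin'_apply] at hxw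
          rw [Matrix.toLin'_apply, hg', mul_act, Matrix.mulVec_neg, hxw, hr, map_neg, hBv w hwW, hQv,
            mul_neg, inv_mul_cancel₀ huw, hv]
          module
    have hdisj : (U ⊓ W) ⊓ Submodule.span F {u} = ⊥ := by
      rw [eq_bot_iff]
      rintro x ⟨hx1, hx2⟩
      obtain ⟨t, rfl⟩ := Submodule.mem_span_singleton.1 hx2
      rw [Submodule.mem_bot]
      by_contra ht
      refine huW ?_
      have ht0 : t ≠ 0 := fun h => ht (by rw [h, zero_smul])
      simpa [smul_smul, inv_mul_cancel₀ ht0] using W.smul_mem t⁻¹ hx1.2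
    have hu0 : u ≠ 0 := fun h => huW (h ▸ W.zero_mem)
    have hfin := Submodule.finrank_sup_add_finrank_inf_eq (U ⊓ W) (Submodule.span F {u})
    rw [hdisj, finrank_bot, finrank_span_singleton hu0, add_zero, ← himg] at hfin
    have := ih hg's (by omega)
    rw [hg', Units.val_mul, Matrix.det_mul, rGL_det C hv0] at this
    rw [pow_succ]
    linear_combination (-1 : F) * this

/-- **The criterion.** -/
theorem preserves_iff (h2 : (2 : F) ≠ 0) {U₀ : Submodule F (ι → F)} (hU₀ : ∀ x ∈ U₀, Q x = 0)
    (hd₀ : finrank F U₀ = n) {g : GL ι F} {c : F} (hc : c ≠ 0)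
    (hg : ∀ v, Q (g.val *ᵥ v) = c * Q v) :
    Cfsg.PreservesSingularClasses Q g.val ↔ g.val.det = c ^ n := by
  have hsign : ∀ d : ℕ, c ^ n * (-1) ^ d = c ^ n ↔ Even d := fun d => by
    rcases Nat.even_or_odd d with h | h
    · simp [h, h.neg_one_pow]
    · refine iff_of_false (fun e => ?_) (Nat.not_even_iff_odd.2 h)
      rw [h.neg_one_pow] at e
      exact pow_ne_zero n hc ((mul_eq_zero.1 (show (2 : F) * c ^ n = 0 by linear_combination -e)).resolve_left h2)
  constructor
  · intro hp
    have hmax : Cfsg.IsMaxTotallySingular Q U₀ := ⟨hU₀, fun W hW hle =>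
      (Submodule.eq_of_le_of_finrank_le hle (by have := ts_bound C (A := W) hW; omega)).symm⟩
    have hev : Even (finrank F U₀ - finrank F ↥(U₀ ⊓ Cfsg.imageSubmodule g.val U₀)) := hp U₀ hmax
    have hle := Submodule.finrank_mono (inf_le_left (a := U₀) (b := Cfsg.imageSubmodule g.val U₀))
    have := det_eq_parity C hn h2 hc hg hU₀ hd₀
      (d := finrank F U₀ - finrank F ↥(U₀ ⊓ Cfsg.imageSubmodule g.val U₀)) (by omega)
    rw [this]
    exact (hsign _).2 hev
  · intro hdet U hU
    have hd := finrank_of_max C hn hU₀ hd₀ hU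
    have hle := Submodule.finrank_mono (inf_le_left (a := U) (b := Cfsg.imageSubmodule g.val U))
    have := det_eq_parity C hn h2 hc hg hU.1 hd
      (d := finrank F U - finrank F ↥(U ⊓ Cfsg.imageSubmodule g.val U)) (by omega)
    exact (hsign _).1 (this.symm.trans hdet)

end General

section Plus

variable {F : Type*} [Field F]

/-- The similarities of the plus form preserving the classes. -/
theorem preserves_plus_iff (h2 : (2 : F) ≠ 0) (m : ℕ) {g : GL (Fin m ⊕ Fin m) F} {c : F} (hc : c ≠ 0)
    (hg : ∀ v, Cfsg.quadFormPlus m F (g.val *ᵥ v) = c * Cfsg.quadFormPlus m F v)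
    {B : LinearMap.BilinForm F (Fin m ⊕ Fin m → F)} (C : Space (Cfsg.quadFormPlus m F) B) :
    Cfsg.PreservesSingularClasses (Cfsg.quadFormPlus m F) g.val ↔ g.val.det = c ^ m := by
  let T : (Fin m → F) →ₗ[F] (Fin m ⊕ Fin m → F) :=
    { toFun := fun x => Sum.elim x 0
      map_add' := fun x y => funext fun i => by rcases i with i | i <;> simp
      map_smul' := fun r x => funext fun i => by rcases i with i | i <;> simp }
  have hT : Function.Injective T := fun x y h => funext fun i => congrFun h (Sum.inl i)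
  refine preserves_iff C (by simp; omega) h2 (U₀ := LinearMap.range T) ?_ ?_ hc hg
  · rintro _ ⟨x, rfl⟩
    simp [Cfsg.quadFormPlus, T]
  · rw [LinearMap.finrank_range_of_inj hT, finrank_fintype_fun_eq_card, Fintype.card_fin]

/-- The minus form with non-zero discriminant is non-degenerate. -/
theorem exists_space_disc (h2 : (2 : F) ≠ 0) (m : ℕ) (a b : F) (hD : 4 * b - a ^ 2 ≠ 0) :
    ∃ B : LinearMap.BilinForm F ((Fin m ⊕ Fin m) ⊕ Fin 2 → F),
      Space (Cfsg.quadFormMinus m F a b) B := by
  classical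
  refine ⟨LinearMap.mk₂ F (fun u v =>
      (∑ i, (u (.inl (.inl i)) * v (.inl (.inr i)) + u (.inl (.inr i)) * v (.inl (.inl i)))) +
        (2 * u (.inr 0) * v (.inr 0) + a * u (.inr 0) * v (.inr 1) + a * u (.inr 1) * v (.inr 0) +
          2 * b * u (.inr 1) * v (.inr 1)))
    (fun p r c => by
      simp only [Pi.add_apply, add_mul, mul_add, Finset.sum_add_distrib]; ring)
    (fun r p c => by
      simp only [Pi.smul_apply, smul_eq_mul, mul_add, Finset.mul_sum]
      congr 1
      · exact Finset.sum_congr rfl fun i _ => by ring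
      · ring)
    (fun p r c => by
      simp only [Pi.add_apply, add_mul, mul_add, Finset.sum_add_distrib]; ring)
    (fun r p c => by
      simp only [Pi.smul_apply, smul_eq_mul, mul_add, Finset.mul_sum]
      congr 1
      · exact Finset.sum_congr rfl fun i _ => by ring
      · ring),
    fun c v => ?_, fun u v => ?_, fun v hv => funext fun j => ?_⟩
  · simp only [Cfsg.quadFormMinus, Pi.smul_apply, smul_eq_mul, Finset.mul_sum, mul_add]
    congr 1
    · exact Finset.sum_congr rfl fun i _ => by ring
    · ring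
  · simp only [QuadraticMap.polar, Cfsg.quadFormMinus, Pi.add_apply, LinearMap.mk₂_apply]
    have : ∀ i : Fin m, (u (.inl (.inl i)) + v (.inl (.inl i))) * (u (.inl (.inr i)) + v (.inl (.inr i)))
        = u (.inl (.inl i)) * u (.inl (.inr i)) + v (.inl (.inl i)) * v (.inl (.inr i)) +
          (u (.inl (.inl i)) * v (.inl (.inr i)) + u (.inl (.inr i)) * v (.inl (.inl i))) :=
      fun i => by ring
    simp only [this, Finset.sum_add_distrib]
    ring
  rcases j with (j | j) | j
  · simpa [Pi.single_apply] using hv (Pi.single (.inl (.inr j)) 1)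
  · simpa [Pi.single_apply] using hv (Pi.single (.inl (.inl j)) 1)
  have h0 := hv (Pi.single (.inr 0) 1)
  have h1 := hv (Pi.single (.inr 1) 1)
  simp [Pi.single_apply] at h0 h1
  set x := v (.inr 0)
  set y := v (.inr 1)
  suffices hxy : x = 0 ∧ y = 0 by fin_cases j; exacts [hxy.1, hxy.2]
  have hy : y = 0 := (mul_eq_zero.1 (show (4 * b - a ^ 2) * y = 0 by
    linear_combination 2 * h1 - a * h0)).resolve_left hD
  refine ⟨?_, hy⟩
  rw [hy] at h0
  exact (mul_eq_zero.1 (show (2 : F) * x = 0 by linear_combination h0)).resolve_left h2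

end Plus

section Minus

universe u

variable {F : Type u} [Field F] [Finite F]

theorem disc_not_square (h2 : (2 : F) ≠ 0) {a b : F}
    (hab : ∀ z₁ z₂ : F, z₁ ^ 2 + a * z₁ * z₂ + b * z₂ ^ 2 = 0 → z₁ = 0 ∧ z₂ = 0) :
    ¬ IsSquare (a ^ 2 - 4 * b) := fun ⟨s, hs⟩ => one_ne_zero (hab ((s - a) / 2) 1 (by
  field_simp
  linear_combination -hs)).2

/-- In a quadratic extension the minus form is split. -/
theorem exists_root {K : Type*} [Field K] [Algebra F K] (hK : finrank F K = 2) (h2 : (2 : F) ≠ 0)
    (a b : F) : ∃ r : K, r ^ 2 + algebraMap F K a * r + algebraMap F K b = 0 := by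
  classical
  haveI : Module.Finite F K := Module.finite_of_finrank_eq_succ hK
  haveI : Finite K := Module.finite_of_finite F
  letI := Fintype.ofFinite F
  letI := Fintype.ofFinite K
  have hK2 : (2 : K) ≠ 0 := by
    rw [← map_ofNat (algebraMap F K) 2]
    simpa using h2
  have hsq : IsSquare (algebraMap F K (a ^ 2 - 4 * b)) := by
    rcases eq_or_ne (a ^ 2 - 4 * b) 0 with h | h
    · rw [h, map_zero]; exact IsSquare.zero
    have hchar : ringChar K ≠ 2 := fun hc => hK2 (by
      haveI := ringChar.of_eq hc; exact CharTwo.two_eq_zero)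
    rw [FiniteField.isSquare_iff hchar (by rw [Ne, map_eq_zero]; exact h), ← map_pow]
    have hcard : Fintype.card K = Fintype.card F * Fintype.card F := by
      rw [Module.card_eq_pow_finrank (K := F) (V := K), hK, sq]
    have hchar' : ringChar F ≠ 2 := fun hc => h2 (by
      haveI := ringChar.of_eq hc; exact CharTwo.two_eq_zero)
    have hoddq := FiniteField.odd_card_of_char_ne_two hchar'
    obtain ⟨k, hk⟩ : ∃ k, Fintype.card F = 2 * k + 1 := ⟨Fintype.card F / 2, by omega⟩
    rw [hcard, hk, show (2 * k + 1) * (2 * k + 1) / 2 = (Fintype.card F - 1) * (k + 1) by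
      rw [hk]; simp only [add_tsub_cancel_right]
      rw [show (2 * k + 1) * (2 * k + 1) = 2 * (2 * k * (k + 1)) + 1 by ring]
      omega, pow_mul, FiniteField.pow_card_sub_one_eq_one _ h, one_pow, map_one]
  obtain ⟨s, hs⟩ := hsq
  refine ⟨(s - algebraMap F K a) / 2, ?_⟩
  rw [map_sub, map_pow, map_mul, map_ofNat] at hs
  field_simp
  linear_combination -hs

variable {a b : F} (hab : ∀ z₁ z₂ : F, z₁ ^ 2 + a * z₁ * z₂ + b * z₂ ^ 2 = 0 → z₁ = 0 ∧ z₂ = 0)

include hab

theorem exists_extension (h2 : (2 : F) ≠ 0) :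
    ∃ (K : Type u) (_ : Field K) (_ : Algebra F K), finrank F K = 2 := by
  classical
  let f : Polynomial F := Polynomial.X ^ 2 + Polynomial.C a * Polynomial.X + Polynomial.C b
  have hdeg : f.natDegree = 2 := by
    simp only [f]; compute_degree!
  haveI : Fact (Irreducible f) := ⟨Polynomial.irreducible_of_degree_le_three_of_not_isRoot
    (by rw [Finset.mem_Icc, hdeg]; omega) fun x hx => one_ne_zero (hab x 1 (by
      simpa [f] using hx)).2⟩
  have hf0 : f ≠ 0 := fun h => by rw [h] at hdeg; simp at hdeg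
  refine ⟨AdjoinRoot f, inferInstance, inferInstance, ?_⟩
  rw [(AdjoinRoot.powerBasis hf0).finrank, AdjoinRoot.powerBasis_dim, hdeg]

/-- The similarities of the minus form preserving the classes over the quadratic extension. -/
theorem preserves_minus_iff (h2 : (2 : F) ≠ 0) (m : ℕ) {g : GL ((Fin m ⊕ Fin m) ⊕ Fin 2) F} {c : F}
    (hc : c ≠ 0) (hg : ∀ v, Cfsg.quadFormMinus m F a b (g.val *ᵥ v) = c * Cfsg.quadFormMinus m F a b v)
    {B : LinearMap.BilinForm F ((Fin m ⊕ Fin m) ⊕ Fin 2 → F)}
    (C : Space (Cfsg.quadFormMinus m F a b) B) :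
    Cfsg.PreservesSingularClassesMinus m a b g.val ↔ g.val.det = c ^ (m + 1) := by
  classical
  have key : ∀ (K : Type u) (_ : Field K) (_ : Algebra F K), finrank F K = 2 →
      (Cfsg.PreservesSingularClasses (Cfsg.quadFormMinus m K (algebraMap F K a) (algebraMap F K b))
        (g.val.map (algebraMap F K)) ↔ g.val.det = c ^ (m + 1)) := by
    intro K _ _ hK
    let φ := algebraMap F K
    have hK2 : (2 : K) ≠ 0 := by
      rw [← map_ofNat φ 2]
      simpa using h2
    have hD : 4 * φ b - φ a ^ 2 ≠ 0 := by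
      rw [← map_ofNat φ 4, ← map_pow, ← map_mul, ← map_sub, Ne, map_eq_zero]
      exact fun h => disc_not_square h2 hab ⟨0, by linear_combination -h⟩
    obtain ⟨B', C'⟩ := exists_space_disc hK2 m (φ a) (φ b) hD
    obtain ⟨r, hr⟩ := exists_root hK h2 a b
    let T : ((Fin m → K) × K) →ₗ[K] ((Fin m ⊕ Fin m) ⊕ Fin 2 → K) :=
      { toFun := fun x => Sum.elim (Sum.elim x.1 0) ![r * x.2, x.2]
        map_add' := fun x y => funext fun i => by
          rcases i with (i | i) | i
          · simp
          · simp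
          · fin_cases i <;> simp [mul_add]
        map_smul' := fun s x => funext fun i => by
          rcases i with (i | i) | i
          · simp
          · simp
          · fin_cases i <;> simp [mul_left_comm] }
    have hT : Function.Injective T := fun x y h => Prod.ext
      (funext fun i => congrFun h (Sum.inl (Sum.inl i))) (congrFun h (Sum.inr 1))
    let G : GL ((Fin m ⊕ Fin m) ⊕ Fin 2) K := Matrix.GeneralLinearGroup.map φ g
    have hGv : G.val = g.val.map φ := rfl
    have hQ : ∀ v : (Fin m ⊕ Fin m) ⊕ Fin 2 → F,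
        Cfsg.quadFormMinus m K (φ a) (φ b) (φ ∘ v) = φ (Cfsg.quadFormMinus m F a b v) := fun v => by
      simp [Cfsg.quadFormMinus, map_add, map_mul, map_sum, map_pow]
    have hpol : ∀ u v : (Fin m ⊕ Fin m) ⊕ Fin 2 → F, B' (φ ∘ u) (φ ∘ v) = φ (B u v) := fun u v => by
      rw [← C'.polar, ← C.polar, QuadraticMap.polar, QuadraticMap.polar, map_sub, map_sub, ← hQ, ← hQ, ← hQ,
        show φ ∘ (u + v) = φ ∘ u + φ ∘ v from funext fun i => map_add φ _ _]
    have hBF : ∀ u v, B (g.val *ᵥ u) (g.val *ᵥ v) = c * B u v := fun u v => by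
      rw [← C.polar, ← C.polar, QuadraticMap.polar, QuadraticMap.polar, ← Matrix.mulVec_add, hg, hg, hg]
      ring
    have hBK : B'.compl₁₂ G.val.mulVecLin G.val.mulVecLin = φ c • B' := by
      refine LinearMap.BilinForm.ext_basis (Pi.basisFun K _) fun i j => ?_
      simp only [Pi.basisFun_apply, LinearMap.compl₁₂_apply, LinearMap.smul_apply, smul_eq_mul,
        Matrix.mulVecLin_apply]
      have hs : ∀ i, (Pi.single i 1 : (Fin m ⊕ Fin m) ⊕ Fin 2 → K) = φ ∘ Pi.single i 1 := fun i =>
        funext fun k => by simp [Pi.single_apply, apply_ite φ]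
      have hmv : ∀ i, G.val *ᵥ (φ ∘ Pi.single i 1) = φ ∘ (g.val *ᵥ Pi.single i 1) := fun i =>
        funext fun k => by rw [hGv, Function.comp_apply, RingHom.map_mulVec]
      rw [hs i, hs j, hmv, hmv, hpol, hpol, ← map_mul, hBF]
    have hG : ∀ v, Cfsg.quadFormMinus m K (φ a) (φ b) (G.val *ᵥ v) =
        φ c * Cfsg.quadFormMinus m K (φ a) (φ b) v := fun v => by
      have h := LinearMap.congr_fun₂ hBK v v
      simp only [LinearMap.compl₁₂_apply, LinearMap.smul_apply, smul_eq_mul, Matrix.mulVecLin_apply] at h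
      rw [C'.self, C'.self] at h
      exact mul_left_cancel₀ hK2 (by linear_combination h)
    have h := preserves_iff C' (n := m + 1) (by simp; omega) hK2 (U₀ := LinearMap.range T) (by
      rintro _ ⟨x, rfl⟩
      simp [Cfsg.quadFormMinus, T]
      linear_combination x.2 ^ 2 * hr) (by
      rw [LinearMap.finrank_range_of_inj hT, Module.finrank_prod, finrank_fintype_fun_eq_card,
        Fintype.card_fin, Module.finrank_self]) (by simpa using hc) hG
    rw [hGv, show (g.val.map φ).det = φ g.val.det from (RingHom.map_det φ g.val).symm, ← map_pow] at h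
    exact h.trans ⟨fun e => φ.injective e, fun e => congrArg φ e⟩
  constructor
  · rintro ⟨K, iK, iA, hK, hp⟩
    exact (key K iK iA hK).1 hp
  · intro hdet
    obtain ⟨K, iK, iA, hK⟩ := exists_extension hab h2
    exact ⟨K, iK, iA, hK, (key K iK iA hK).2 hdet⟩

end Minus

end Cfsg.Lib.H3.Singular
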