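import Mathlib.GroupTheory.Sylow
import Mathlib.GroupTheory.Commutator.Basic
import Mathlib.GroupTheory.Abelianization.Defs

/-!
# Squares of elements of a Sylow 2-subgroup of a kernel of an elementary abelian character

If a group is generated by involutions, each of which either commutes with the chosen section of its
class or has a third involution-like companion of the same class commuting with both, then the squares
of the kernel lie in the derived subgroup of the kernel.
-/

set_option autoImplicit false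

namespace Cfsg.Lib.H3.SylTwo

open scoped commutatorElement

variable {G : Type*} [Group G]

/-- The elements of `K` with square in the derived subgroup of `K`. -/
def sqGood (K : Subgroup G) : Subgroup G where
  carrier := {g | g ∈ K ∧ g * g ∈ ⁅K, K⁆}
  one_mem' := ⟨one_mem _, by rw [mul_one]; exact one_mem _⟩
  mul_mem' := fun {g h} hg hh => ⟨mul_mem hg.1 hh.1, by
    rw [show g * h * (g * h) = g * g * ⁅g⁻¹, h⁆ * (h * h) by rw [commutatorElement_def]; group]
    exact mul_mem (mul_mem hg.2 (Subgroup.commutator_mem_commutator (inv_mem hg.1) hh.1)) hh.2⟩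
  inv_mem' := fun {g} hg => ⟨inv_mem hg.1, by rw [← mul_inv_rev]; exact inv_mem hg.2⟩

/-- The products of a good element and an element of a normalizing section. -/
def goodMul (U T : Subgroup G) (h : ∀ t ∈ T, ∀ u ∈ U, t * u * t⁻¹ ∈ U) : Subgroup G where
  carrier := {g | ∃ u ∈ U, ∃ t ∈ T, g = u * t}
  one_mem' := ⟨1, one_mem _, 1, one_mem _, (one_mul 1).symm⟩
  mul_mem' := by
    rintro _ _ ⟨u, hu, t, ht, rfl⟩ ⟨u', hu', t', ht', rfl⟩
    exact ⟨u * (t * u' * t⁻¹), mul_mem hu (h t ht u' hu'), t * t', mul_mem ht ht', by group⟩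
  inv_mem' := by
    rintro _ ⟨u, hu, t, ht, rfl⟩
    exact ⟨t⁻¹ * u⁻¹ * t⁻¹⁻¹, h _ (T.inv_mem ht) _ (U.inv_mem hu), t⁻¹, T.inv_mem ht, by group⟩

/-- The criterion. -/
theorem squares_mem {H : Type*} [CommGroup H] (χ : G →* H) (X : Set G) (T : Subgroup G)
    (hT : ∀ t ∈ T, χ t = 1 → t = 1) (hTs : ∀ t ∈ T, t * t = 1) (hTX : T ≤ Subgroup.closure X)
    (hX : ∀ x ∈ X, x * x = 1 ∧ ∃ s ∈ T, χ s = χ x ∧
      (Commute x s ∨ ∃ e ∈ Subgroup.closure X, χ e = χ x ∧ Commute e x ∧ Commute e s))
    (g : G) (hg : g ∈ Subgroup.closure X) (hgχ : χ g = 1) :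
    g * g ∈ ⁅Subgroup.closure X ⊓ χ.ker, Subgroup.closure X ⊓ χ.ker⁆ := by
  set K := Subgroup.closure X ⊓ χ.ker with hK
  have hnorm : ∀ t ∈ T, ∀ u ∈ sqGood K, t * u * t⁻¹ ∈ sqGood K := by
    intro t ht u hu
    have hK' : K.map (MulAut.conj t).toMonoidHom ≤ K := by
      rintro _ ⟨v, hv, rfl⟩
      refine ⟨mul_mem (mul_mem (hTX ht) hv.1) ((Subgroup.closure X).inv_mem (hTX ht)), MonoidHom.mem_ker.2 ?_⟩
      show χ (t * v * t⁻¹) = 1
      rw [map_mul, map_mul, MonoidHom.mem_ker.1 hv.2, mul_one, map_inv, mul_inv_cancel]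
    refine ⟨hK' ⟨u, hu.1, rfl⟩, ?_⟩
    have h1 : (MulAut.conj t).toMonoidHom (u * u) ∈ ⁅K, K⁆.map (MulAut.conj t).toMonoidHom :=
      Subgroup.mem_map_of_mem _ hu.2
    rw [Subgroup.map_commutator] at h1
    have h2 := Subgroup.commutator_mono hK' hK' h1
    rwa [map_mul] at h2
  have hle : Subgroup.closure X ≤ goodMul (sqGood K) T hnorm := by
    rw [Subgroup.closure_le]
    intro x hx
    obtain ⟨hx2, s, hs, hχ, hc⟩ := hX x hx
    have hs2 := hTs s hs
    have hxinv : x⁻¹ = x := inv_eq_of_mul_eq_one_right hx2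
    have hxsK : x * s ∈ K := ⟨mul_mem (Subgroup.subset_closure hx) (hTX hs), MonoidHom.mem_ker.2 (by
      rw [map_mul, hχ, ← map_mul, hx2, map_one])⟩
    refine ⟨x * s, ⟨hxsK, ?_⟩, s, hs, by rw [mul_assoc, hs2, mul_one]⟩
    rcases hc with hc | ⟨e, he, hχe, hex, hes⟩
    · rw [show x * s * (x * s) = x * (s * x) * s by group, ← hc.eq,
        show x * (x * s) * s = x * x * (s * s) by group, hx2, hs2, one_mul]
      exact one_mem _
    · have hzK : x * e ∈ K := ⟨mul_mem (Subgroup.subset_closure hx) he, MonoidHom.mem_ker.2 (by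
        rw [map_mul, hχe, ← map_mul, hx2, map_one])⟩
      have e1 : x * e * (x * s) * (x * e)⁻¹ = s * x := by
        calc x * e * (x * s) * (x * e)⁻¹ = x * (e * x) * s * e⁻¹ * x⁻¹ := by group
          _ = x * x * (e * s * e⁻¹) * x⁻¹ := by rw [hex.eq]; group
          _ = s * x := by rw [hx2, hes.eq, mul_inv_cancel_right, hxinv, one_mul]
      have e2 : ⁅x * s, x * e⁆ = x * s * (x * s) := by
        rw [commutatorElement_def]
        calc x * s * (x * e) * (x * s)⁻¹ * (x * e)⁻¹ = x * s * (x * e * (x * s) * (x * e)⁻¹)⁻¹ := by group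
          _ = x * s * (x⁻¹ * s⁻¹) := by rw [e1, mul_inv_rev]
          _ = x * s * (x * s) := by rw [hxinv, inv_eq_of_mul_eq_one_right hs2]
      rw [← e2]
      exact Subgroup.commutator_mem_commutator hxsK hzK
  obtain ⟨u, hu, t, ht, rfl⟩ := hle hg
  have : t = 1 := hT t ht (by rwa [map_mul, MonoidHom.mem_ker.1 hu.1.2, one_mul] at hgχ)
  rw [this, mul_one]
  exact hu.2

/-- A group has a Sylow 2-subgroup whose part in the derived subgroup has squares in its derived subgroup. -/
def Good (G : Type*) [Group G] : Prop :=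
  ∃ P : Subgroup G, IsPGroup 2 P ∧ (Nat.card G).factorization 2 ≤ (Nat.card P).factorization 2 ∧
    ∀ x ∈ P ⊓ commutator G, x * x ∈ ⁅P ⊓ commutator G, P ⊓ commutator G⁆

theorem Good.of_equiv {G' : Type*} [Group G'] (φ : G ≃* G') (h : Good G) : Good G' := by
  obtain ⟨P, hP, hcard, hsq⟩ := h
  refine ⟨P.map φ.toMonoidHom, hP.map _, ?_, ?_⟩
  · rw [Subgroup.card_map_of_injective φ.injective, ← Nat.card_congr φ.toEquiv]
    exact hcard
  · have hc : (commutator G).map φ.toMonoidHom = commutator G' := by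
      rw [commutator_def, Subgroup.map_commutator, Subgroup.map_top_of_surjective _ φ.surjective,
        commutator_def]
    have hi : P.map φ.toMonoidHom ⊓ commutator G' = (P ⊓ commutator G).map φ.toMonoidHom := by
      rw [Subgroup.map_inf _ _ _ φ.injective, hc]
    rw [hi, ← Subgroup.map_commutator]
    rintro _ ⟨x, hx, rfl⟩
    exact ⟨x * x, hsq x hx, map_mul _ _ _⟩

/-- Every Sylow 2-subgroup of the derived subgroup inherits the property. -/
theorem Good.sylow [Finite G] (h : Good G) (S : Sylow 2 ↥(commutator G)) :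
    ∀ x : ↥(S : Subgroup ↥(commutator G)), x ^ 2 ∈ commutator ↥(S : Subgroup ↥(commutator G)) := by
  obtain ⟨P, hP, hcard, hsq⟩ := h
  haveI : Fact (Nat.Prime 2) := ⟨Nat.prime_two⟩
  set S' := (S : Subgroup ↥(commutator G)).map (commutator G).subtype with hS'
  obtain ⟨R, hR⟩ := (S.isPGroup'.map (commutator G).subtype).exists_le_sylow
  obtain ⟨W, hW⟩ := hP.exists_le_sylow
  have hPW : P = (W : Subgroup G) := by
    refine Subgroup.eq_of_le_of_card_ge hW ?_
    obtain ⟨n, hn⟩ := IsPGroup.iff_card.1 hP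
    rw [hn, Nat.prime_two.factorization_pow, Finsupp.single_eq_same] at hcard
    rw [hn, W.card_eq_multiplicity]
    exact Nat.pow_le_pow_right two_pos hcard
  obtain ⟨g, hg⟩ := MulAction.exists_smul_eq G W R
  have hRP : (R : Subgroup G) = P.map (MulAut.conj g).toMonoidHom := by
    rw [← hg, Sylow.coe_subgroup_smul, hPW]; rfl
  have hNc : (commutator G).map (MulAut.conj g).toMonoidHom = (commutator G) := by
    rw [commutator_def, Subgroup.map_commutator, Subgroup.map_top_of_surjective _ (MulAut.conj g).surjective]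
  have hRN : (R : Subgroup G) ⊓ (commutator G) = (P ⊓ (commutator G)).map (MulAut.conj g).toMonoidHom := by
    rw [Subgroup.map_inf _ _ _ (MulAut.conj g).injective, hNc, hRP]
  have hS : S' = (P ⊓ (commutator G)).map (MulAut.conj g).toMonoidHom := by
    rw [← hRN]
    refine le_antisymm (le_inf hR (Subgroup.map_subtype_le _)) ?_
    have hK : IsPGroup 2 ↥(((R : Subgroup G) ⊓ (commutator G)).subgroupOf (commutator G)) :=
      (R.isPGroup'.to_le inf_le_left).of_equiv (Subgroup.subgroupOfEquivOfLe inf_le_right).symm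
    have h1 := S.is_maximal' hK (fun x hx => ⟨hR (Subgroup.mem_map_of_mem _ hx), x.2⟩)
    rw [hS', ← h1, Subgroup.subgroupOf_map_subtype]
    exact le_inf le_rfl inf_le_right
  intro x
  have hx : (commutator G).subtype x ∈ S' := Subgroup.mem_map_of_mem _ x.2
  rw [hS] at hx
  obtain ⟨y, hy, hyx⟩ := hx
  have h1 : (commutator G).subtype ((x : ↥(commutator G)) * x) ∈ (⁅(S : Subgroup ↥(commutator G)), (S : Subgroup ↥(commutator G))⁆).map (commutator G).subtype := by
    rw [Subgroup.map_commutator, ← hS', hS, ← Subgroup.map_commutator, map_mul, ← hyx, ← map_mul]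
    exact Subgroup.mem_map_of_mem _ (hsq y hy)
  rw [Subgroup.mem_map_iff_mem (Subgroup.subtype_injective _),
    ← Subgroup.map_subtype_commutator] at h1
  obtain ⟨z, hz, hzx⟩ := h1
  rwa [sq, ← Subtype.ext (show (z : ↥(commutator G)) = ((x * x : ↥(S : Subgroup ↥(commutator G))) : ↥(commutator G)) from hzx)]

end Cfsg.Lib.H3.SylTwo
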