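import Mathlib.NumberTheory.Padics.PadicVal.Basic
import Cfsg.Agent.Lib.H3.SylTwoGen
import Cfsg.Agent.Lib.FusionSys.AltWreath

/-!
# Squares in a wreath product with a Sylow 2-subgroup of a symmetric group
-/

set_option autoImplicit false

namespace Cfsg.Lib.H3.SylTwo

open scoped commutatorElement

variable {G : Type*} [Group G]

theorem isPGroup_pi {p : ℕ} {κ : Type*} [Fintype κ] {H : Type*} [Group H] (D : Subgroup H) (hD : IsPGroup p ↥D) :
    IsPGroup p ↥(Subgroup.pi Set.univ fun _ : κ => D) := fun g => by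
  choose n hn using fun i => hD ⟨g.1 i, g.2 i trivial⟩
  refine ⟨∑ i, n i, Subtype.ext (funext fun i => ?_)⟩
  have h1 : g.1 i ^ p ^ n i = 1 := by simpa using congrArg Subtype.val (hn i)
  show g.1 i ^ p ^ ∑ i, n i = 1
  obtain ⟨d, hd⟩ := pow_dvd_pow p (Finset.single_le_sum (f := n) (fun j _ => Nat.zero_le _) (Finset.mem_univ i))
  rw [hd, pow_mul, h1, one_pow]

/-- Squares of the members of a power of a group with squares in its derived subgroup. -/
theorem pi_squares {κ : Type*} [Finite κ] [DecidableEq κ] {H : Type*} [Group H] (D : Subgroup H)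
    (hD : ∀ x ∈ D, x * x ∈ ⁅D, D⁆) :
    ∀ h ∈ Subgroup.pi Set.univ (fun _ : κ => D),
      h * h ∈ ⁅Subgroup.pi Set.univ (fun _ : κ => D), Subgroup.pi Set.univ (fun _ : κ => D)⁆ := by
  have hle : Subgroup.pi Set.univ (fun _ : κ => D) ≤ sqGood (Subgroup.pi Set.univ (fun _ : κ => D)) :=
    Subgroup.pi_le_iff.2 fun i => by
      rintro _ ⟨x, hx, rfl⟩
      have hm : D.map (MonoidHom.mulSingle (fun _ : κ => H) i) ≤ Subgroup.pi Set.univ (fun _ : κ => D) := by
        rintro _ ⟨y, hy, rfl⟩ j -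
        by_cases hj : j = i
        · subst hj; simpa using hy
        · simp [hj, Subgroup.one_mem]
      refine ⟨hm ⟨x, hx, rfl⟩, Subgroup.commutator_mono hm hm ?_⟩
      rw [← Subgroup.map_commutator, ← map_mul]
      exact Subgroup.mem_map_of_mem _ (hD x hx)
  exact fun h hh => (hle hh).2

/-- A large 2-group with squares in its derived subgroup gives the same for every Sylow 2-subgroup. -/
theorem sylow_squares [Finite G] {v : ℕ} (K : Subgroup G) (hK : IsPGroup 2 ↥K)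
    (hv : padicValNat 2 (Nat.card G) ≤ v) (hcard : 2 ^ v ≤ Nat.card ↥K) (hsq : ∀ x ∈ K, x * x ∈ ⁅K, K⁆)
    (P : Sylow 2 G) : ∀ x : ↥(P : Subgroup G), x ^ 2 ∈ commutator ↥(P : Subgroup G) := by
  haveI : Fact (Nat.Prime 2) := ⟨Nat.prime_two⟩
  obtain ⟨W, hW⟩ := hK.exists_le_sylow
  have hKW : K = (W : Subgroup G) := by
    refine Subgroup.eq_of_le_of_card_ge hW ?_
    rw [W.card_eq_multiplicity, Nat.factorization_def _ Nat.prime_two]
    exact (Nat.pow_le_pow_right two_pos hv).trans hcard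
  obtain ⟨g, hg⟩ := MulAction.exists_smul_eq G W P
  have hP : K.map (MulAut.conj g).toMonoidHom = (P : Subgroup G) := by
    rw [hKW, ← hg, Sylow.coe_subgroup_smul]; rfl
  intro x
  have hx : (x : G) ∈ K.map (MulAut.conj g).toMonoidHom := hP.symm ▸ x.2
  obtain ⟨y, hy, hyx⟩ := hx
  have h1 : (x : G) * x ∈ ⁅(P : Subgroup G), (P : Subgroup G)⁆ := by
    have h0 : (MulAut.conj g).toMonoidHom (y * y) ∈ ⁅K, K⁆.map (MulAut.conj g).toMonoidHom :=
      Subgroup.mem_map_of_mem _ (hsq y hy)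
    rw [Subgroup.map_commutator, hP, map_mul, hyx] at h0
    exact h0
  rw [← Subgroup.map_subtype_commutator] at h1
  obtain ⟨z, hz, hzx⟩ := h1
  rwa [sq, ← Subtype.ext (show (z : G) = ((x * x : ↥(P : Subgroup G)) : G) from hzx)]

/-- A base group with squares in its derived subgroup, extended by a Sylow 2-subgroup of the symmetric group. -/
theorem wreath_good {k : ℕ} {H : Type*} [Group H] (fb : (Fin k → H) →* G) (pb : Equiv.Perm (Fin k) →* G)
    (hconj : ∀ σ h, pb σ * fb h * (pb σ)⁻¹ = fb fun i => h (σ⁻¹ i))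
    (hinj : ∀ h h' σ σ', fb h * pb σ = fb h' * pb σ' → h = h' ∧ σ = σ')
    (S : Subgroup (Fin k → H)) (hS : IsPGroup 2 ↥S) (hinv : ∀ (σ : Equiv.Perm (Fin k)), ∀ h ∈ S, (fun i => h (σ i)) ∈ S)
    (hsq : ∀ h ∈ S, h * h ∈ ⁅S, S⁆) [Finite G] :
    ∃ P : Subgroup G, IsPGroup 2 ↥P ∧ Nat.card ↥S * 2 ^ padicValNat 2 (Nat.factorial k) ≤ Nat.card ↥P ∧
      (∀ x ∈ P, x * x ∈ ⁅P, P⁆) ∧ P ≤ pb.range ⊔ S.map fb := by
  classical
  haveI : Fact (Nat.Prime 2) := ⟨Nat.prime_two⟩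
  obtain ⟨W⟩ : Nonempty (Sylow 2 (Equiv.Perm (Fin k))) := inferInstance
  set A := S.map fb
  set Wm := (W : Subgroup (Equiv.Perm (Fin k))).map pb
  have hN : Wm ≤ Subgroup.normalizer (A : Set G) := by
    have h1 : ∀ w n, n ∈ A → pb w * n * (pb w)⁻¹ ∈ A := by
      rintro w _ ⟨h, hh, rfl⟩
      exact ⟨_, hinv w⁻¹ h hh, (hconj w h).symm⟩
    rintro _ ⟨w, -, rfl⟩
    rw [Subgroup.mem_normalizer_iff]
    refine fun n => ⟨h1 w n, fun h => ?_⟩
    have h' := h1 w⁻¹ _ h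
    rwa [map_inv, inv_inv, ← mul_assoc, ← mul_assoc, inv_mul_cancel, one_mul, inv_mul_cancel_right] at h'
  set P := Wm ⊔ A
  refine ⟨P, IsPGroup.to_sup_of_normal_right' (W.isPGroup'.map pb) (hS.map fb) hN, ?_, ?_,
    sup_le_sup_right (by rintro _ ⟨w, -, rfl⟩; exact ⟨w, rfl⟩) _⟩
  · let Φ : ↥S × ↥(W : Subgroup (Equiv.Perm (Fin k))) → ↥P := fun p =>
      ⟨fb p.1.1 * pb p.2.1, mul_mem (Subgroup.mem_sup_right ⟨_, p.1.2, rfl⟩) (Subgroup.mem_sup_left ⟨_, p.2.2, rfl⟩)⟩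
    have hΦ : Function.Injective Φ := fun p p' h => by
      obtain ⟨e1, e2⟩ := hinj _ _ _ _ (congrArg Subtype.val h)
      exact Prod.ext (Subtype.ext e1) (Subtype.ext e2)
    refine le_trans (le_of_eq ?_) (Nat.card_le_card_of_injective Φ hΦ)
    rw [Nat.card_prod, W.card_eq_multiplicity, Nat.card_perm, Nat.card_fin, Nat.factorization_def _ Nat.prime_two]
  · suffices h : P ≤ sqGood P from fun x hx => (h hx).2
    refine sup_le ?_ ?_
    · rintro _ ⟨w, hw, rfl⟩
      have h1 := Cfsg.Lib.FusionSys.AltWreath.sylow_le_closure_order_p (p := 2) k (Fin k) (Nat.card_fin k) W hw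
      refine (Subgroup.closure_le ((sqGood P).comap pb)).2 ?_ h1
      rintro u ⟨hu, hu2⟩
      refine ⟨Subgroup.mem_sup_left ⟨u, hu, rfl⟩, ?_⟩
      rw [← map_mul, ← sq, hu2, map_one]
      exact one_mem _
    · rintro _ ⟨h, hh, rfl⟩
      refine ⟨Subgroup.mem_sup_right ⟨h, hh, rfl⟩, Subgroup.commutator_mono le_sup_right le_sup_right ?_⟩
      rw [← map_mul, ← Subgroup.map_commutator]
      exact Subgroup.mem_map_of_mem _ (hsq h hh)

end Cfsg.Lib.H3.SylTwo
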