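import Cfsg.Agent.Lib.H3.SylTwoPlaneGL
import Cfsg.Agent.Lib.H3.SylTwoWreath
import Mathlib.LinearAlgebra.Matrix.Permutation

/-!
# Planes permuted among themselves
-/

set_option autoImplicit false

namespace Cfsg.Lib.H3.SylTwo

open Module Cfsg.Lib.Linear.Orth
open scoped Matrix

variable {F : Type*} [Field F] {k : ℕ}

/-- The permutations of the planes as invertible matrices. -/
def permGL : Equiv.Perm (Fin k) →* GL (Fin 2 × Fin k) F := (permMatHom (F := F)).toHomUnits

theorem permGL_val (σ : Equiv.Perm (Fin k)) : (permGL σ : GL (Fin 2 × Fin k) F).val = permMat σ := rfl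

theorem permMat_blockDiagonal (σ : Equiv.Perm (Fin k)) (M : Fin k → Matrix (Fin 2) (Fin 2) F) :
    permMat σ * Matrix.blockDiagonal M = Matrix.blockDiagonal (fun i => M (σ⁻¹ i)) * permMat σ :=
  mat_ext fun v => funext fun ⟨a, i⟩ => by
    rw [← Matrix.mulVec_mulVec, ← Matrix.mulVec_mulVec, permMat_mulVec, blockDiag_mulVec, blockDiag_mulVec]
    have hp : part (permMat σ *ᵥ v) i = part v (σ⁻¹ i) := funext fun b => permMat_mulVec σ v b i
    rw [hp]

theorem permMat_transpose (σ : Equiv.Perm (Fin k)) : (permMat σ : Matrix (Fin 2 × Fin k) (Fin 2 × Fin k) F)ᵀ = permMat σ⁻¹ := by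
  ext ⟨a, i⟩ ⟨b, j⟩
  simp only [Matrix.transpose_apply, permMat, Matrix.of_apply, Prod.mk.injEq, inv_inv]
  exact if_congr ⟨fun ⟨h1, h2⟩ => ⟨h1.symm, by simp [h2]⟩, fun ⟨h1, h2⟩ => ⟨h1.symm, by simp [h2]⟩⟩ rfl rfl

theorem det_permMat (σ : Equiv.Perm (Fin k)) : (permMat σ : Matrix (Fin 2 × Fin k) (Fin 2 × Fin k) F).det = 1 := by
  have e : (permMat σ : Matrix (Fin 2 × Fin k) (Fin 2 × Fin k) F) =
      Equiv.Perm.permMatrix F (Equiv.prodCongrRight fun _ : Fin 2 => σ⁻¹) := by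
    ext ⟨a, i⟩ j
    simp [permMat, Equiv.Perm.permMatrix, PEquiv.toMatrix_apply, eq_comm]
  rw [e, Matrix.det_permutation, Equiv.Perm.sign_prodCongrRight, Finset.prod_const, Finset.card_univ, Fintype.card_fin]
  simp

theorem gl_conj_block (σ : Equiv.Perm (Fin k)) (g : Fin k → GL (Fin 2) F) :
    permGL σ * blockGL g * (permGL σ)⁻¹ = blockGL fun i => g (σ⁻¹ i) := by
  rw [mul_inv_eq_iff_eq_mul]
  refine Units.ext ?_
  rw [Units.val_mul, Units.val_mul, permGL_val, blockGL_val, blockGL_val, permMat_blockDiagonal]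

theorem glBlockPerm_injective {g g' : Fin k → GL (Fin 2) F} {σ σ' : Equiv.Perm (Fin k)}
    (h : blockGL g * permGL σ = blockGL g' * permGL σ') : g = g' ∧ σ = σ' := by
  classical
  have key : ∀ (i l : Fin k) (u : Fin 2 → F),
      (g i).val *ᵥ (if σ⁻¹ i = l then u else 0) = (g' i).val *ᵥ (if σ'⁻¹ i = l then u else 0) := fun i l u => by
    have h1 := congrArg (fun x : GL (Fin 2 × Fin k) F => x.val *ᵥ fun j => if j.2 = l then u j.1 else 0) h
    funext a
    have h2 := congrFun h1 (a, i)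
    simp only [Units.val_mul, ← Matrix.mulVec_mulVec, blockGL_val, permGL_val, blockDiag_mulVec] at h2
    have hp : ∀ τ : Equiv.Perm (Fin k),
        part ((permMat τ : Matrix (Fin 2 × Fin k) (Fin 2 × Fin k) F) *ᵥ fun j => if j.2 = l then u j.1 else 0) i =
          if τ⁻¹ i = l then u else 0 := fun τ => by
      funext b
      rw [part, permMat_mulVec]
      split_ifs <;> rfl
    rwa [hp, hp] at h2
  have hσ : ∀ i, σ⁻¹ i = σ'⁻¹ i := fun i => by
    by_contra hne
    have h1 := key i (σ⁻¹ i) (Pi.single 0 1)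
    rw [if_pos rfl, if_neg (Ne.symm hne), Matrix.mulVec_zero] at h1
    exact act_ne_zero (fun h => one_ne_zero (α := F) (by simpa using congrFun h 0)) h1
  refine ⟨funext fun i => gl_ext fun u => ?_, inv_injective (Equiv.ext hσ)⟩
  have h1 := key i (σ⁻¹ i) u
  rwa [if_pos rfl, if_pos (hσ i).symm] at h1

theorem card_pi {H : Type*} [Group H] (D : Subgroup H) :
    Nat.card ↥(Subgroup.pi Set.univ fun _ : Fin k => D) = Nat.card ↥D ^ k := by
  rw [Nat.card_congr (β := Fin k → ↥D) ⟨fun g i => ⟨g.1 i, g.2 i trivial⟩, fun f => ⟨fun i => (f i).1, fun i _ => (f i).2⟩,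
    fun _ => rfl, fun _ => rfl⟩, Nat.card_fun, Nat.card_fin]

end Cfsg.Lib.H3.SylTwo
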