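import Cfsg.Agent.Lib.Linear.OrthOrderStd
import Mathlib.NumberTheory.Multiplicity

/-!
# The 2-part of the orders of the orthogonal groups in odd characteristic
-/

set_option autoImplicit false

namespace Cfsg.Lib.H3.SylTwo

open Cfsg.Lib.Linear.Orth

/-- The 2-adic valuation of `q ^ 2 - 1`. -/
def twoT (q : ℕ) : ℕ := padicValNat 2 (q ^ 2 - 1)

/-- The product `∏ (q ^ (2 i) - 1)`. -/
def prodSq (q m : ℕ) : ℕ := ∏ i ∈ Finset.range m, (q ^ (2 * (i + 1)) - 1)

variable {q : ℕ}

theorem one_le_pow_of_odd (hq : Odd q) (n : ℕ) : 1 ≤ q ^ n := Nat.one_le_pow _ _ hq.pos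

theorem val_two_mul {x : ℕ} (hx : Odd x) : padicValNat 2 (2 * x) = 1 := by
  haveI : Fact (Nat.Prime 2) := ⟨Nat.prime_two⟩
  rw [padicValNat.mul two_ne_zero hx.pos.ne', padicValNat.self one_lt_two,
    padicValNat.eq_zero_of_not_dvd (by rw [Nat.odd_iff] at hx; omega)]

theorem val_of_mod_four {n : ℕ} (h : n % 4 = 2) : padicValNat 2 n = 1 := by
  obtain ⟨x, rfl⟩ : ∃ x, n = 2 * x := ⟨n / 2, by omega⟩
  exact val_two_mul (Nat.odd_iff.2 (by omega))

theorem val_sub_one (hq : Odd q) (hq1 : 1 < q) {i : ℕ} (hi : i ≠ 0) :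
    padicValNat 2 (q ^ (2 * i) - 1) = twoT q + padicValNat 2 i := by
  haveI : Fact (Nat.Prime 2) := ⟨Nat.prime_two⟩
  have hnd : ¬ 2 ∣ q := by rw [Nat.odd_iff] at hq; omega
  have h1 := padicValNat.pow_two_sub_one hq1 hnd (n := 2 * i) (by omega) (even_two_mul i)
  have h2 := padicValNat.pow_two_sub_one hq1 hnd (n := 2) two_ne_zero even_two
  rw [padicValNat.self one_lt_two] at h2
  rw [padicValNat.mul two_ne_zero hi, padicValNat.self one_lt_two] at h1
  unfold twoT
  omega

theorem prodSq_ne_zero (hq1 : 1 < q) (m : ℕ) : prodSq q m ≠ 0 := by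
  refine Finset.prod_ne_zero_iff.2 fun i _ => ?_
  have : 1 < q ^ (2 * (i + 1)) := Nat.one_lt_pow (by omega) hq1
  omega

theorem val_prodSq (hq : Odd q) (hq1 : 1 < q) (m : ℕ) :
    padicValNat 2 (prodSq q m) = m * twoT q + padicValNat 2 (Nat.factorial m) := by
  haveI : Fact (Nat.Prime 2) := ⟨Nat.prime_two⟩
  induction m with
  | zero => simp [prodSq]
  | succ m ih =>
    have h0 : q ^ (2 * (m + 1)) - 1 ≠ 0 := by
      have : 1 < q ^ (2 * (m + 1)) := Nat.one_lt_pow (by omega) hq1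
      omega
    have hs : prodSq q (m + 1) = prodSq q m * (q ^ (2 * (m + 1)) - 1) := Finset.prod_range_succ _ m
    rw [hs, padicValNat.mul (prodSq_ne_zero hq1 m) h0, ih, val_sub_one hq hq1 (Nat.succ_ne_zero m),
      Nat.factorial_succ, padicValNat.mul (Nat.succ_ne_zero m) (Nat.factorial_pos m).ne']
    ring

/-- The factor `q ^ m ∓ 1` of the same sign as `q ^ m` modulo four. -/
theorem val_pair (hq : Odd q) (hq1 : 1 < q) {m : ℕ} (hm : m ≠ 0) :
    (q ^ m % 4 = 1 → padicValNat 2 (q ^ m + 1) = 1 ∧ padicValNat 2 (q ^ m - 1) + 1 = twoT q + padicValNat 2 m) ∧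
    (q ^ m % 4 = 3 → padicValNat 2 (q ^ m - 1) = 1 ∧ padicValNat 2 (q ^ m + 1) + 1 = twoT q + padicValNat 2 m) := by
  haveI : Fact (Nat.Prime 2) := ⟨Nat.prime_two⟩
  have h1 : 1 < q ^ m := Nat.one_lt_pow hm hq1
  have hprod : padicValNat 2 (q ^ m + 1) + padicValNat 2 (q ^ m - 1) = twoT q + padicValNat 2 m := by
    rw [← padicValNat.mul (by omega) (by omega), ← val_sub_one hq hq1 hm, two_mul, pow_add, ← sq, ← Nat.sq_sub_sq,
      one_pow]
  exact ⟨fun h => by have := val_of_mod_four (n := q ^ m + 1) (by omega); omega,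
    fun h => by have := val_of_mod_four (n := q ^ m - 1) (by omega); omega⟩

theorem val_pow_mul (hq : Odd q) (e x : ℕ) (hx : x ≠ 0) : padicValNat 2 (q ^ e * x) = padicValNat 2 x := by
  haveI : Fact (Nat.Prime 2) := ⟨Nat.prime_two⟩
  rw [padicValNat.mul (pow_ne_zero _ hq.pos.ne') hx,
    padicValNat.eq_zero_of_not_dvd (fun h => by
      have := Nat.Prime.dvd_of_dvd_pow Nat.prime_two h
      rw [Nat.odd_iff] at hq; omega), zero_add]

theorem cast_prodSq (hq : Odd q) (m : ℕ) :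
    ((prodSq q m : ℕ) : ℤ) = ∏ i ∈ Finset.range m, ((q : ℤ) ^ (2 * (i + 1)) - 1) := by
  rw [prodSq, Nat.cast_prod]
  exact Finset.prod_congr rfl fun i _ => by rw [Nat.cast_sub (one_le_pow_of_odd hq _)]; simp

variable {F : Type*} [Field F] [Fintype F]

theorem one_lt_card : 1 < Fintype.card F := Fintype.one_lt_card

theorem val_card_plus (hF : Odd (Fintype.card F)) (k : ℕ) :
    padicValNat 2 (Nat.card ↥(isometryGroup F (Cfsg.quadFormPlus (k + 1) F))) =
      1 + padicValNat 2 (Fintype.card F ^ (k + 1) - 1) + k * twoT (Fintype.card F) + padicValNat 2 (Nat.factorial k) := by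
  haveI : Fact (Nat.Prime 2) := ⟨Nat.prime_two⟩
  have h1 : 1 < Fintype.card F ^ (k + 1) := Nat.one_lt_pow (Nat.succ_ne_zero k) one_lt_card
  have hc : Nat.card ↥(isometryGroup F (Cfsg.quadFormPlus (k + 1) F)) =
      Fintype.card F ^ ((k + 1) * (k + 1 - 1)) * (2 * (Fintype.card F ^ (k + 1) - 1) * prodSq (Fintype.card F) k) := by
    have h := (counts_plus (F := F) (k + 1)).2
    rw [prod_plus, Nat.card_eq_fintype_card (α := F), ← cast_prodSq hF] at h
    refine Nat.cast_injective (R := ℤ) (h.trans ?_)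
    rw [Nat.cast_mul, Nat.cast_mul, Nat.cast_mul, Nat.cast_sub h1.le]
    simp
  have hp := prodSq_ne_zero (one_lt_card (F := F)) k
  rw [hc, val_pow_mul hF _ _ (mul_ne_zero (mul_ne_zero two_ne_zero (by omega)) hp),
    padicValNat.mul (mul_ne_zero two_ne_zero (by omega)) hp, padicValNat.mul two_ne_zero (by omega),
    padicValNat.self one_lt_two, val_prodSq hF one_lt_card]
  ring

theorem val_card_odd (hF : Odd (Fintype.card F)) (m : ℕ) :
    padicValNat 2 (Nat.card ↥(isometryGroup F (Cfsg.quadFormOdd m F))) =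
      1 + m * twoT (Fintype.card F) + padicValNat 2 (Nat.factorial m) := by
  haveI : Fact (Nat.Prime 2) := ⟨Nat.prime_two⟩
  have hc : Nat.card ↥(isometryGroup F (Cfsg.quadFormOdd m F)) =
      Fintype.card F ^ (1 * m + m * (m - 1)) * (2 * prodSq (Fintype.card F) m) := by
    have h := (counts_odd (F := F) (Cfsg.Lib.Linear.Orth.two_ne_zero_of_odd_card hF) m).2.2
    rw [prod_odd, Nat.card_eq_fintype_card (α := F), ← cast_prodSq hF] at h
    refine Nat.cast_injective (R := ℤ) (h.trans ?_)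
    rw [Nat.cast_mul, Nat.cast_mul]
    push_cast
    ring
  have hp := prodSq_ne_zero (one_lt_card (F := F)) m
  rw [hc, val_pow_mul hF _ _ (mul_ne_zero two_ne_zero hp), padicValNat.mul two_ne_zero hp,
    padicValNat.self one_lt_two, val_prodSq hF one_lt_card]
  ring

theorem val_card_minus (hF : Odd (Fintype.card F)) (k : ℕ) (a b : F)
    (hab : ∀ z₁ z₂ : F, z₁ ^ 2 + a * z₁ * z₂ + b * z₂ ^ 2 = 0 → z₁ = 0 ∧ z₂ = 0) :
    padicValNat 2 (Nat.card ↥(isometryGroup F (Cfsg.quadFormMinus k F a b))) =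
      1 + padicValNat 2 (Fintype.card F ^ (k + 1) + 1) + k * twoT (Fintype.card F) + padicValNat 2 (Nat.factorial k) := by
  haveI : Fact (Nat.Prime 2) := ⟨Nat.prime_two⟩
  have hc : Nat.card ↥(isometryGroup F (Cfsg.quadFormMinus k F a b)) =
      Fintype.card F ^ (2 * k + k * (k - 1)) * (2 * (Fintype.card F ^ (k + 1) + 1) * prodSq (Fintype.card F) k) := by
    have h := (counts_minus (F := F) k hab).2.2
    rw [Nat.card_eq_fintype_card (α := F)] at h
    refine Nat.cast_injective (R := ℤ) (h.trans ?_)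
    rw [Nat.cast_mul, Nat.cast_mul, Nat.cast_mul, cast_prodSq hF]
    push_cast
    rw [mul_assoc, ← mul_assoc _ ((Fintype.card F : ℤ) + 1) 2, mul_comm _ ((Fintype.card F : ℤ) + 1), prod_minus]
    ring
  have hp := prodSq_ne_zero (one_lt_card (F := F)) k
  rw [hc, val_pow_mul hF _ _ (mul_ne_zero (mul_ne_zero two_ne_zero (by omega)) hp),
    padicValNat.mul (mul_ne_zero two_ne_zero (by omega)) hp, padicValNat.mul two_ne_zero (by omega),
    padicValNat.self one_lt_two, val_prodSq hF one_lt_card]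
  ring

end Cfsg.Lib.H3.SylTwo
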