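import Cfsg.Agent.Lib.H3.SylTwoWreath
import Mathlib.GroupTheory.SemidirectProduct
import Mathlib.GroupTheory.Solvable

/-!
# Derived lengths of 2-groups of wreath type
-/

set_option autoImplicit false

namespace Cfsg.Lib.H3.SylTwo

open scoped commutatorElement

variable {G : Type*} [Group G]

theorem map_derived_le {A : Type*} [Group A] (f : A →* G) {i : ℕ} (h : f.range ≤ derivedSeries G i) :
    ∀ k, (derivedSeries A k).map f ≤ derivedSeries G (i + k) := by
  intro k
  induction k with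
  | zero => rw [derivedSeries_zero, ← MonoidHom.range_eq_map, Nat.add_zero]; exact h
  | succ k ih =>
    rw [derivedSeries_succ, Subgroup.map_commutator, ← Nat.add_assoc, derivedSeries_succ]
    exact Subgroup.commutator_mono ih ih

theorem derived_subgroup_le (U : Subgroup G) (k : ℕ) : (derivedSeries ↥U k).map U.subtype ≤ derivedSeries G k := by
  simpa using map_derived_le (i := 0) U.subtype (by rw [derivedSeries_zero]; exact le_top) k

theorem derived_ne_bot_of_injective {A : Type*} [Group A] (f : A →* G) (hf : Function.Injective f) {k : ℕ}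
    (h : derivedSeries A k ≠ ⊥) : derivedSeries G k ≠ ⊥ := fun h0 => h (by
  have h1 := map_derived_le (i := 0) f (by rw [derivedSeries_zero]; exact le_top) k
  rw [Nat.zero_add, h0] at h1
  exact (Subgroup.map_eq_bot_iff_of_injective _ hf).1 (le_bot_iff.1 h1))

/-- In a 2-group the `j`-th derived subgroup lies in every subgroup of index `2 ^ j`. -/
theorem derived_le_of_index [Finite G] (hG : IsPGroup 2 G) :
    ∀ (j : ℕ) (S : Subgroup G), S.index = 2 ^ j → derivedSeries G j ≤ S := by
  haveI : Fact (Nat.Prime 2) := ⟨Nat.prime_two⟩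
  intro j
  induction j with
  | zero =>
    intro S hS
    rw [pow_zero, Subgroup.index_eq_one] at hS
    rw [hS]; exact le_top
  | succ j ih =>
    intro S hS
    obtain ⟨m, hm⟩ := IsPGroup.iff_card.1 (hG.to_subgroup S)
    have hcard : Nat.card G = 2 ^ (m + (j + 1)) := by rw [← S.card_mul_index, hm, hS, ← pow_add]
    obtain ⟨K, hK, hSK⟩ := Sylow.exists_subgroup_card_pow_succ (p := 2) (n := m)
      (by rw [hcard]; exact pow_dvd_pow 2 (by omega)) hm
    have hKi : K.index = 2 ^ j := by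
      have h := K.card_mul_index
      rw [hK, hcard, show m + (j + 1) = m + 1 + j by ring, pow_add 2 (m + 1) j] at h
      exact Nat.eq_of_mul_eq_mul_left (pow_pos two_pos _) h
    have h2 : (S.subgroupOf K).index = 2 := by
      have h := (S.subgroupOf K).card_mul_index
      rw [Nat.card_congr (Subgroup.subgroupOfEquivOfLe hSK).toEquiv, hm, hK, pow_succ] at h
      exact Nat.eq_of_mul_eq_mul_left (pow_pos two_pos _) h
    rw [derivedSeries_succ]
    refine (Subgroup.commutator_mono (ih K hKi) (ih K hKi)).trans (Subgroup.commutator_le.2 fun a ha b hb => ?_)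
    have hmem : ((⟨a, ha⟩ : ↥K) * ⟨b, hb⟩ * (⟨a, ha⟩ : ↥K)⁻¹ * (⟨b, hb⟩ : ↥K)⁻¹) ∈ S.subgroupOf K := by
      simp only [Subgroup.mul_mem_iff_of_index_two h2, inv_mem_iff]
      tauto
    exact hmem

/-- A faithful 2-group of permutations of fewer than `2 ^ (L + 1)` points has derived length at most `L`. -/
theorem derived_perm_bot {X : Type*} [Finite X] (P : Subgroup (Equiv.Perm X)) (hP : IsPGroup 2 ↥P) {L : ℕ}
    (hX : Nat.card X < 2 ^ (L + 1)) : derivedSeries ↥P L = ⊥ := by
  haveI : Fact (Nat.Prime 2) := ⟨Nat.prime_two⟩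
  rw [eq_bot_iff]
  intro g hg
  refine Subtype.ext (Equiv.ext fun x => ?_)
  obtain ⟨j, hj⟩ := hP.index (MulAction.stabilizer ↥P x)
  have hjL : j ≤ L := by
    have h1 : (MulAction.stabilizer ↥P x).index ≤ Nat.card X := by
      rw [MulAction.index_stabilizer]
      exact (Set.ncard_le_ncard (Set.subset_univ _)).trans (Set.ncard_univ X).le
    rw [hj] at h1
    have h2 := (Nat.pow_lt_pow_iff_right (a := 2) (by norm_num)).1 (h1.trans_lt hX)
    omega
  have hle : derivedSeries ↥P L ≤ MulAction.stabilizer ↥P x :=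
    (derivedSeries_antitone _ hjL).trans (derived_le_of_index hP j _ hj)
  have := hle hg
  rw [MulAction.mem_stabilizer_iff] at this
  exact this

/-- The derived length of an extension. -/
theorem derived_extension {H : Type*} [Group H] (f : G →* H) {a b : ℕ} (hH : derivedSeries H a = ⊥)
    (hker : derivedSeries ↥f.ker b = ⊥) : derivedSeries G (a + b) = ⊥ := by
  have h1 : derivedSeries G a ≤ f.ker := by
    intro g hg
    have := map_derivedSeries_le_derivedSeries f a (Subgroup.mem_map_of_mem f hg)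
    rw [hH] at this
    exact MonoidHom.mem_ker.2 (Subgroup.mem_bot.1 this)
  have key : ∀ k, derivedSeries G (a + k) ≤ (derivedSeries ↥f.ker k).map f.ker.subtype := by
    intro k
    induction k with
    | zero => rw [derivedSeries_zero, ← MonoidHom.range_eq_map, Subgroup.range_subtype]; exact h1
    | succ k ih =>
      rw [← Nat.add_assoc, derivedSeries_succ, derivedSeries_succ, Subgroup.map_commutator]
      exact Subgroup.commutator_mono ih ih
  have := key b
  rwa [hker, Subgroup.map_bot, le_bot_iff] at this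

/-- Two commuting copies exchanged by an element raise the derived length. -/
theorem derived_doubling {U : Type*} [Group U] (ι₁ ι₂ : U →* G) (s : G) (hs : ∀ u, s * ι₁ u * s⁻¹ = ι₂ u)
    (hc : ∀ u v, Commute (ι₁ u) (ι₂ v)) (hinj : ∀ u v, ι₁ u * ι₂ v = 1 → u = 1 ∧ v = 1) {k : ℕ}
    (hk : derivedSeries U k ≠ ⊥) : derivedSeries G (k + 1) ≠ ⊥ := by
  let Φ : U × U →* G :=
    { toFun := fun p => ι₁ p.1 * ι₂ p.2
      map_one' := by simp
      map_mul' := fun p r => by
        simp only [Prod.fst_mul, Prod.snd_mul, map_mul]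
        calc ι₁ p.1 * ι₁ r.1 * (ι₂ p.2 * ι₂ r.2) = ι₁ p.1 * (ι₁ r.1 * ι₂ p.2) * ι₂ r.2 := by group
          _ = ι₁ p.1 * ι₂ p.2 * (ι₁ r.1 * ι₂ r.2) := by rw [(hc r.1 p.2).eq]; group }
  have hΦ : Function.Injective Φ := (injective_iff_map_eq_one Φ).2 fun p hp =>
    Prod.ext (hinj _ _ hp).1 (hinj _ _ hp).2
  let V : Subgroup (U × U) := (commutator G).comap Φ
  let fstV : ↥V →* U := (MonoidHom.fst U U).comp V.subtype
  have hfst : Function.Surjective fstV := by
    intro u
    refine ⟨⟨(u, u⁻¹), ?_⟩, rfl⟩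
    show ι₁ u * ι₂ u⁻¹ ∈ commutator G
    have e : ι₁ u * ι₂ u⁻¹ = ⁅ι₁ u, s⁆ := by
      rw [commutatorElement_def, map_inv, ← hs]; group
    rw [e, commutator_def]
    exact Subgroup.commutator_mem_commutator (Subgroup.mem_top _) (Subgroup.mem_top _)
  have hV : derivedSeries ↥V k ≠ ⊥ := fun h => hk (by
    rw [← map_derivedSeries_eq hfst, h, Subgroup.map_bot])
  intro h0
  have h1 := map_derived_le (i := 1) (Φ.comp V.subtype) (by
    rw [derivedSeries_one]
    rintro _ ⟨v, rfl⟩
    exact v.2) k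
  rw [Nat.add_comm] at h0
  rw [h0] at h1
  exact hV ((Subgroup.map_eq_bot_iff_of_injective _ (fun a b e => Subtype.ext (hΦ e))).1 (le_bot_iff.1 h1))

/-! ## Monomial groups -/

/-- The wreath product of a group with the permutations of a set. -/
abbrev Wr (H : Type*) [Group H] (X : Type*) := (X → H) ⋊[mulAutArrow] Equiv.Perm X

variable {H : Type*} [Group H] {X Y : Type*}

theorem wr_arrow (σ : Equiv.Perm X) (h : X → H) : mulAutArrow σ h = fun x => h (σ⁻¹ x) := rfl

/-- Relabelling. -/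
def wrRelabel (e : X ≃ Y) : Wr H X →* Wr H Y where
  toFun p := ⟨fun y => p.left (e.symm y), e.permCongr p.right⟩
  map_one' := by
    refine SemidirectProduct.ext rfl (Equiv.ext fun y => ?_)
    show e ((1 : Equiv.Perm X) (e.symm y)) = y
    simp
  map_mul' p r := by
    refine SemidirectProduct.ext (funext fun y => ?_) (Equiv.ext fun y => ?_)
    · simp [wr_arrow, Equiv.permCongr_def, Equiv.Perm.inv_def]
    · simp [Equiv.permCongr_apply]

/-- Extending by trivial entries. -/
def wrInl : Wr H X →* Wr H (X ⊕ Y) where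
  toFun p := ⟨Sum.elim p.left 1, Equiv.sumCongr p.right 1⟩
  map_one' := by
    refine SemidirectProduct.ext (funext fun x => ?_) (Equiv.ext fun x => ?_) <;> rcases x with x | x <;> simp
  map_mul' p r := by
    refine SemidirectProduct.ext (funext fun x => ?_) (Equiv.ext fun x => ?_) <;>
      rcases x with x | x <;> simp [wr_arrow, Equiv.Perm.inv_def]

theorem wrRelabel_injective (e : X ≃ Y) : Function.Injective (wrRelabel (H := H) e) := fun p r h => by
  refine SemidirectProduct.ext (funext fun x => ?_) (e.permCongr.injective (congrArg SemidirectProduct.right h))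
  simpa [wrRelabel] using congrFun (congrArg SemidirectProduct.left h) (e x)

theorem wrInl_injective : Function.Injective (wrInl (H := H) (X := X) (Y := Y)) := fun p r h => by
  refine SemidirectProduct.ext (funext fun x => congrFun (congrArg SemidirectProduct.left h) (Sum.inl x))
    (Equiv.ext fun x => ?_)
  simpa [wrInl] using Equiv.ext_iff.1 (congrArg SemidirectProduct.right h) (Sum.inl x)

/-- A base of derived length above `d` gives `d + L` on `2 ^ L` points. -/
theorem exists_deep {d : ℕ} (hH : IsPGroup 2 H) (hd : derivedSeries H d ≠ ⊥) :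
    ∀ L : ℕ, ∃ U : Subgroup (Wr H (Fin (2 ^ L))), IsPGroup 2 ↥U ∧ derivedSeries ↥U (d + L) ≠ ⊥ := by
  intro L
  induction L with
  | zero =>
    let ι : H →* Wr H (Fin (2 ^ 0)) := SemidirectProduct.inl.comp (Pi.monoidHom fun _ => MonoidHom.id H)
    have hι : Function.Injective ι := fun a b h =>
      congrFun (congrArg SemidirectProduct.left h) ⟨0, by norm_num⟩
    exact ⟨ι.range, hH.of_equiv (MonoidHom.ofInjective hι),
      derived_ne_bot_of_injective ι.rangeRestrict (MonoidHom.rangeRestrict_injective_iff.2 hι) hd⟩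
  | succ L ih =>
    obtain ⟨U, hU, hUd⟩ := ih
    let sw : Wr H (Fin (2 ^ L) ⊕ Fin (2 ^ L)) := ⟨1, Equiv.sumComm _ _⟩
    have hsw : sw * sw = 1 := by
      refine SemidirectProduct.ext (funext fun x => ?_) (Equiv.ext fun x => ?_) <;> rcases x with x | x <;>
        simp [sw, wr_arrow]
    let ι₁ : ↥U →* Wr H (Fin (2 ^ L) ⊕ Fin (2 ^ L)) := wrInl.comp U.subtype
    let ι₂ : ↥U →* Wr H (Fin (2 ^ L) ⊕ Fin (2 ^ L)) := (MulAut.conj sw).toMonoidHom.comp ι₁
    have hc : ∀ u v, Commute (ι₁ u) (ι₂ v) := by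
      intro u v
      refine SemidirectProduct.ext (funext fun x => ?_) (Equiv.ext fun x => ?_) <;> rcases x with x | x <;>
        simp [ι₁, ι₂, sw, wrInl, wr_arrow, Equiv.Perm.inv_def, Equiv.Perm.one_def]
    have hinj : ∀ u v, ι₁ u * ι₂ v = 1 → u = 1 ∧ v = 1 := by
      intro u v h
      have hl := congrArg SemidirectProduct.left h
      have hr := congrArg SemidirectProduct.right h
      refine ⟨Subtype.ext (SemidirectProduct.ext (funext fun x => ?_) (Equiv.ext fun x => ?_)),
        Subtype.ext (SemidirectProduct.ext (funext fun x => ?_) (Equiv.ext fun x => ?_))⟩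
      · simpa [ι₁, ι₂, sw, wrInl, wr_arrow, Equiv.Perm.inv_def, Equiv.Perm.one_def] using congrFun hl (Sum.inl x)
      · simpa [ι₁, ι₂, sw, wrInl, wr_arrow, Equiv.Perm.inv_def, Equiv.Perm.one_def] using Equiv.ext_iff.1 hr (Sum.inl x)
      · simpa [ι₁, ι₂, sw, wrInl, wr_arrow, Equiv.Perm.inv_def, Equiv.Perm.one_def] using congrFun hl (Sum.inr x)
      · simpa [ι₁, ι₂, sw, wrInl, wr_arrow, Equiv.Perm.inv_def, Equiv.Perm.one_def] using Equiv.ext_iff.1 hr (Sum.inr x)
    let Φ : ↥U × ↥U →* Wr H (Fin (2 ^ L) ⊕ Fin (2 ^ L)) :=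
      { toFun := fun p => ι₁ p.1 * ι₂ p.2
        map_one' := by simp
        map_mul' := fun p r => by
          simp only [Prod.fst_mul, Prod.snd_mul, map_mul]
          calc ι₁ p.1 * ι₁ r.1 * (ι₂ p.2 * ι₂ r.2) = ι₁ p.1 * (ι₁ r.1 * ι₂ p.2) * ι₂ r.2 := by group
            _ = ι₁ p.1 * ι₂ p.2 * (ι₁ r.1 * ι₂ r.2) := by rw [(hc r.1 p.2).eq]; group }
    have hUU : IsPGroup 2 (↥U × ↥U) := fun p => by
      obtain ⟨a, ha⟩ := hU p.1
      obtain ⟨b, hb⟩ := hU p.2
      exact ⟨a + b, Prod.ext (by rw [Prod.pow_fst, pow_add, pow_mul, ha, one_pow]; rfl)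
        (by rw [Prod.pow_snd, pow_add, mul_comm, pow_mul, hb, one_pow]; rfl)⟩
    have hN : Subgroup.zpowers sw ≤ Subgroup.normalizer (Φ.range : Set _) := by
      rw [Subgroup.zpowers_le, Subgroup.mem_normalizer_iff]
      have hswap : ∀ p : ↥U × ↥U, sw * Φ p * sw⁻¹ = Φ (p.2, p.1) := fun p => by
        have e : ∀ u, sw * ι₂ u * sw⁻¹ = ι₁ u := fun u => by
          show sw * (sw * ι₁ u * sw⁻¹) * sw⁻¹ = ι₁ u
          calc sw * (sw * ι₁ u * sw⁻¹) * sw⁻¹ = sw * sw * ι₁ u * (sw * sw)⁻¹ := by group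
            _ = ι₁ u := by rw [hsw, one_mul, inv_one, mul_one]
        show sw * (ι₁ p.1 * ι₂ p.2) * sw⁻¹ = ι₁ p.2 * ι₂ p.1
        calc sw * (ι₁ p.1 * ι₂ p.2) * sw⁻¹ = sw * ι₁ p.1 * sw⁻¹ * (sw * ι₂ p.2 * sw⁻¹) := by group
          _ = ι₂ p.1 * ι₁ p.2 := by rw [e]; rfl
          _ = ι₁ p.2 * ι₂ p.1 := (hc p.2 p.1).eq.symm
      refine fun a => ⟨?_, ?_⟩
      · rintro ⟨p, rfl⟩; exact ⟨_, (hswap p).symm⟩
      · rintro ⟨p, hp⟩
        refine ⟨(p.2, p.1), ?_⟩
        rw [← hswap, hp]
        calc sw * (sw * a * sw⁻¹) * sw⁻¹ = sw * sw * a * (sw * sw)⁻¹ := by group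
          _ = a := by rw [hsw, one_mul, inv_one, mul_one]
    have hz : IsPGroup 2 ↥(Subgroup.zpowers sw) := by
      rintro ⟨x, k, rfl⟩
      refine ⟨1, Subtype.ext ?_⟩
      show (sw ^ k) ^ (2 ^ 1) = 1
      rw [← zpow_natCast, ← zpow_mul, mul_comm k, zpow_mul, show ((2 ^ 1 : ℕ) : ℤ) = 2 from rfl, zpow_two, hsw, one_zpow]
    have hΦ2 : IsPGroup 2 ↥Φ.range := hUU.of_surjective Φ.rangeRestrict Φ.rangeRestrict_surjective
    set W := Subgroup.zpowers sw ⊔ Φ.range with hW
    have h1 : ∀ u, ι₁ u ∈ W := fun u => Subgroup.mem_sup_right ⟨(u, 1), by simp [Φ]⟩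
    have h2 : ∀ u, ι₂ u ∈ W := fun u => Subgroup.mem_sup_right ⟨(1, u), by simp [Φ]⟩
    have hdeep := derived_doubling (ι₁.codRestrict W h1) (ι₂.codRestrict W h2)
      ⟨sw, Subgroup.mem_sup_left (Subgroup.mem_zpowers sw)⟩ (fun u => Subtype.ext rfl)
      (fun u v => Subtype.ext (hc u v).eq) (fun u v h => hinj u v (congrArg Subtype.val h)) hUd
    let e : Fin (2 ^ L) ⊕ Fin (2 ^ L) ≃ Fin (2 ^ (L + 1)) :=
      Fintype.equivOfCardEq (by simp [pow_succ, mul_two])
    refine ⟨W.map (wrRelabel e), (IsPGroup.to_sup_of_normal_right' hz hΦ2 hN).map _, ?_⟩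
    exact derived_ne_bot_of_injective
      (W.equivMapOfInjective (wrRelabel e) (wrRelabel_injective e)).toMonoidHom
      (W.equivMapOfInjective (wrRelabel e) (wrRelabel_injective e)).injective (by rw [← Nat.add_assoc]; exact hdeep)

end Cfsg.Lib.H3.SylTwo
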