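import Cfsg.Agent.Lib.H3.SylTwoSL
import Cfsg.Agent.Lib.Linear.SignTorus

/-!
# Elementary abelian 2-groups normalized by a Sylow 2-subgroup of `GL`

The lines among the common eigenspaces are permuted by the Sylow subgroup; for `q ≡ 3 (mod 4)` there is at
most one of them.
-/

set_option autoImplicit false

namespace Cfsg.Lib.H3.SylTwo

open Module
open scoped Matrix

variable {F : Type*} [Field F]

/-- The 2-part of the order of `GL n`, in closed form. -/
theorem val_glProd_eq {q : ℕ} (hq : Odd q) (hq1 : 1 < q) (n : ℕ) :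
    padicValNat 2 (glProd q n) =
      n / 2 * (padicValNat 2 (q - 1) + twoT q) + padicValNat 2 (Nat.factorial (n / 2)) + n % 2 * padicValNat 2 (q - 1) := by
  rcases Nat.even_or_odd n with ⟨m, rfl⟩ | ⟨m, rfl⟩
  · rw [← two_mul, val_glProd_two_mul hq hq1, Nat.mul_div_cancel_left _ two_pos, Nat.mul_mod_right]
    ring
  · rw [val_glProd_odd hq hq1, show (2 * m + 1) / 2 = m by omega, show (2 * m + 1) % 2 = 1 by omega]
    ring

theorem three_le_twoT {q : ℕ} (hq : Odd q) (hq1 : 1 < q) : 3 ≤ twoT q := by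
  haveI : Fact (Nat.Prime 2) := ⟨Nat.prime_two⟩
  have h0 : q ^ 2 - 1 ≠ 0 := by
    have := Nat.one_lt_pow (n := 2) two_ne_zero hq1
    omega
  refine (padicValNat_dvd_iff_le h0).1 ?_
  obtain ⟨k, rfl⟩ := hq
  obtain ⟨t, ht⟩ := (Nat.even_mul_succ_self k).two_dvd
  refine ⟨t, ?_⟩
  have : (2 * k + 1) ^ 2 = 8 * t + 1 := by
    calc (2 * k + 1) ^ 2 = 4 * (k * (k + 1)) + 1 := by ring
      _ = 8 * t + 1 := by rw [ht]; ring
  omega

theorem val_factorial_half (n : ℕ) :
    padicValNat 2 (Nat.factorial n) = padicValNat 2 (Nat.factorial (n / 2)) + n / 2 := by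
  haveI : Fact (Nat.Prime 2) := ⟨Nat.prime_two⟩
  rcases Nat.even_or_odd n with ⟨m, rfl⟩ | ⟨m, rfl⟩
  · rw [← two_mul, Nat.mul_div_cancel_left _ two_pos]
    exact padicValNat_factorial_mul m
  · rw [show (2 * m + 1) / 2 = m by omega, Nat.factorial_succ, padicValNat.mul (Nat.succ_ne_zero _) (Nat.factorial_pos _).ne',
      padicValNat.eq_zero_of_not_dvd (by omega), zero_add]
    exact padicValNat_factorial_mul m

/-- The gain of the lines is too small. -/
theorem lines_too_small {q : ℕ} (hq : Odd q) (hq1 : 1 < q) (ha : padicValNat 2 (q - 1) = 1) {n l : ℕ} (hl : 2 ≤ l)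
    (hln : l ≤ n) :
    l + padicValNat 2 (Nat.factorial l) + padicValNat 2 (glProd q (n - l)) < padicValNat 2 (glProd q n) := by
  haveI : Fact (Nat.Prime 2) := ⟨Nat.prime_two⟩
  have h3 := three_le_twoT hq hq1
  rw [val_glProd_eq hq hq1, val_glProd_eq hq hq1, val_factorial_half l, ha]
  have hsum : l / 2 + (n - l) / 2 ≤ n / 2 := by omega
  have hv : padicValNat 2 (Nat.factorial (l / 2)) + padicValNat 2 (Nat.factorial ((n - l) / 2)) ≤
      padicValNat 2 (Nat.factorial (n / 2)) := by
    rw [← padicValNat.mul (Nat.factorial_pos _).ne' (Nat.factorial_pos _).ne']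
    exact (padicValNat_dvd_iff_le (Nat.factorial_pos _).ne').1
      (pow_padicValNat_dvd.trans ((Nat.factorial_mul_factorial_dvd_factorial_add _ _).trans (Nat.factorial_dvd_factorial hsum)))
  rcases Nat.lt_or_ge (l / 2 + (n - l) / 2) (n / 2) with h | h
  · have h1 : (l / 2 + (n - l) / 2 + 1) * (1 + twoT q) ≤ n / 2 * (1 + twoT q) := Nat.mul_le_mul_right _ h
    simp only [Nat.add_mul, Nat.one_mul] at h1
    have h4 : l / 2 * 4 ≤ l / 2 * (1 + twoT q) := Nat.mul_le_mul_left _ (by omega)
    omega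
  · have h1 : n / 2 * (1 + twoT q) = l / 2 * (1 + twoT q) + (n - l) / 2 * (1 + twoT q) := by
      rw [← Nat.add_mul]; congr 1; omega
    have h4 : l / 2 * 4 ≤ l / 2 * (1 + twoT q) := Nat.mul_le_mul_left _ (by omega)
    omega

/-- An elementary abelian 2-subgroup of `GL n` has rank at most `n`. -/
theorem card_elem_le {n : ℕ} {A : Type*} [Group A] [Finite A] (f : A →* Matrix (Fin n) (Fin n) F)
    (hinj : Function.Injective f) (hcomm : ∀ a b : A, a * b = b * a) (hsq : ∀ a : A, a ^ 2 = 1) (h2 : (2 : F) ≠ 0) :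
    Nat.card A ≤ 2 ^ n := by
  classical
  obtain ⟨b, ε, hε, -⟩ := Cfsg.Lib.Linear.SignTorus.exists_sign_basis f hcomm hsq h2
  refine le_trans (Nat.card_le_card_of_injective (fun a i => decide (ε a i = 1)) fun a c h => ?_) (le_of_eq (by simp))
  refine Cfsg.Lib.Linear.SignTorus.eq_of_sign hinj b ε (fun a i => (hε a i).2) (funext fun i => ?_)
  have h' : (ε a i = 1) ↔ (ε c i = 1) := by simpa using congrFun h i
  rcases (hε a i).1 with h1 | h1
  · rw [h1, h'.1 h1]
  · rcases (hε c i).1 with h3 | h3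
    · rw [h3, h'.2 h3]
    · rw [h1, h3]

theorem card_elem_le_half [Fintype F] (hF : Odd (Fintype.card F)) (ha : padicValNat 2 (Fintype.card F - 1) = 1)
    {n : ℕ} (T : Subgroup (GL (Fin n) F))
    (hT : Nat.card ↥T = 2 ^ padicValNat 2 (glProd (Fintype.card F) n))
    (E : Subgroup (GL (Fin n) F)) (hcomm : ∀ a ∈ E, ∀ c ∈ E, a * c = c * a) (hsq : ∀ a ∈ E, a ^ 2 = 1)
    (hnorm : ∀ t ∈ T, ∀ a ∈ E, t * a * t⁻¹ ∈ E) : Nat.card ↥E ≤ 2 ^ ((n + 1) / 2) := by
  classical
  haveI : Fact (Nat.Prime 2) := ⟨Nat.prime_two⟩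
  have h2 := Cfsg.Lib.Linear.Orth.two_ne_zero_of_odd_card hF
  let f : ↥E →* Matrix (Fin n) (Fin n) F := (Units.coeHom _).comp E.subtype
  have hfi : Function.Injective f := fun a c h => Subtype.ext (Units.ext h)
  obtain ⟨b, ε, hε, -⟩ := Cfsg.Lib.Linear.SignTorus.exists_sign_basis f
    (fun a c => Subtype.ext (hcomm _ a.2 _ c.2)) (fun a => Subtype.ext (hsq _ a.2)) h2
  let lam : Fin n → ↥E → F := fun i a => ε a i
  set J : Finset (Fin n) := Finset.univ.filter (fun i => ∀ j, lam j = lam i → j = i) with hJ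
  have hJmem : ∀ {i}, i ∈ J ↔ ∀ j, lam j = lam i → j = i := fun {i} => by simp [hJ]
  -- the number of classes
  have hk : Nat.card ↥E ≤ 2 ^ (Finset.univ.image lam).card := by
    refine le_trans (Nat.card_le_card_of_injective
      (fun a (c : {c // c ∈ Finset.univ.image lam}) => decide (c.1 a = 1)) fun a c h => ?_) (le_of_eq ?_)
    · refine Cfsg.Lib.Linear.SignTorus.eq_of_sign hfi b ε (fun a i => (hε a i).2) (funext fun i => ?_)
      have h' : (ε a i = 1) ↔ (ε c i = 1) := by
        simpa [lam] using congrFun h ⟨lam i, Finset.mem_image_of_mem _ (Finset.mem_univ i)⟩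
      rcases (hε a i).1 with h1 | h1
      · rw [h1, h'.1 h1]
      · rcases (hε c i).1 with h3 | h3
        · rw [h3, h'.2 h3]
        · rw [h1, h3]
    · rw [Nat.card_eq_fintype_card, Fintype.card_fun, Fintype.card_bool, Fintype.card_coe]
  have h2k : 2 * (Finset.univ.image lam).card ≤ n + J.card := by
    have h1 := Finset.card_eq_sum_card_image lam (Finset.univ : Finset (Fin n))
    rw [Finset.card_univ, Fintype.card_fin] at h1
    have h3 : ((Finset.univ.image lam).filter fun c => (Finset.univ.filter fun i => lam i = c).card = 1).card ≤ J.card := by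
      refine le_trans (Finset.card_le_card ?_) (Finset.card_image_le (s := J) (f := lam))
      intro c hc
      obtain ⟨-, hc⟩ := Finset.mem_filter.1 hc
      obtain ⟨i, hi⟩ := Finset.card_eq_one.1 hc
      have hic : lam i = c := (Finset.mem_filter.1 (hi ▸ Finset.mem_singleton_self i : i ∈ Finset.univ.filter fun i => lam i = c)).2
      refine Finset.mem_image.2 ⟨i, hJmem.2 fun j hj => ?_, hic⟩
      exact Finset.mem_singleton.1 (hi ▸ Finset.mem_filter.2 ⟨Finset.mem_univ j, hj.trans hic⟩)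
    rw [Finset.card_filter] at h3
    have h5 : ∑ _c ∈ Finset.univ.image lam, 2 ≤ ∑ c ∈ Finset.univ.image lam,
        ((Finset.univ.filter fun i => lam i = c).card + if (Finset.univ.filter fun i => lam i = c).card = 1 then 1 else 0) := by
      refine Finset.sum_le_sum fun c hc => ?_
      obtain ⟨i, -, hi⟩ := Finset.mem_image.1 hc
      have : 0 < (Finset.univ.filter fun i => lam i = c).card :=
        Finset.card_pos.2 ⟨i, Finset.mem_filter.2 ⟨Finset.mem_univ i, hi⟩⟩
      split_ifs <;> omega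
    rw [Finset.sum_add_distrib, Finset.sum_const, smul_eq_mul] at h5
    omega
  suffices hl : J.card ≤ 1 from hk.trans (Nat.pow_le_pow_right two_pos (by omega))
  by_contra hl
  -- the coordinates of the images
  let M : ↥T →* Matrix (Fin n) (Fin n) F :=
    ((LinearMap.toMatrixAlgEquiv b : _ ≃ₐ[F] _).toRingEquiv.toMonoidHom.comp
      (Matrix.toLinAlgEquiv' : Matrix (Fin n) (Fin n) F ≃ₐ[F] _).toRingEquiv.toMonoidHom).comp
      ((Units.coeHom _).comp T.subtype)
  have hM : ∀ s : ↥T, ∀ i j, M s j i = b.repr (s.1.val *ᵥ b i) j := fun s i j => by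
    show LinearMap.toMatrixAlgEquiv b (Matrix.toLinAlgEquiv' s.1.val) j i = _
    rw [LinearMap.toMatrixAlgEquiv_apply, Matrix.toLinAlgEquiv'_apply]
  -- the character of an image
  let μ : ↥T → Fin n → ↥E → F := fun s i a =>
    lam i ⟨s.1⁻¹ * a.1 * s.1, by simpa using hnorm s.1⁻¹ (inv_mem s.2) a.1 a.2⟩
  have hchar : ∀ s i j, M s j i ≠ 0 → lam j = μ s i := by
    intro s i j hne
    funext a
    set a' : ↥E := ⟨s.1⁻¹ * a.1 * s.1, by simpa using hnorm s.1⁻¹ (inv_mem s.2) a.1 a.2⟩ with ha'
    have e1 : a.1.val *ᵥ (s.1.val *ᵥ b i) = μ s i a • (s.1.val *ᵥ b i) := by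
      rw [Matrix.mulVec_mulVec, ← Units.val_mul, show a.1 * s.1 = s.1 * a'.1 by rw [ha']; group, Units.val_mul,
        ← Matrix.mulVec_mulVec, show a'.1.val *ᵥ b i = ε a' i • b i from (hε a' i).2, Matrix.mulVec_smul]
    have e2 := congrArg (fun v => b.repr v j) e1
    simp only [map_smul, Finsupp.smul_apply, smul_eq_mul] at e2
    have e3 : b.repr (a.1.val *ᵥ (s.1.val *ᵥ b i)) j = ε a j * b.repr (s.1.val *ᵥ b i) j := by
      conv_lhs => rw [← b.sum_repr (s.1.val *ᵥ b i)]
      rw [Matrix.mulVec_sum, map_sum, Finsupp.finsetSum_apply, Finset.sum_eq_single j]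
      · rw [Matrix.mulVec_smul, show a.1.val *ᵥ b j = ε a j • b j from (hε a j).2, map_smul, map_smul, b.repr_self,
          Finsupp.smul_apply, Finsupp.smul_apply, Finsupp.single_eq_same, smul_eq_mul, smul_eq_mul]
        ring
      · intro k _ hk
        rw [Matrix.mulVec_smul, show a.1.val *ᵥ b k = ε a k • b k from (hε a k).2, map_smul, map_smul, b.repr_self,
          Finsupp.smul_apply, Finsupp.smul_apply, Finsupp.single_eq_of_ne (Ne.symm hk)]
        simp
      · exact fun h => absurd (Finset.mem_univ j) h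
    rw [e3, ← hM] at e2
    exact mul_right_cancel₀ hne e2
  have hex : ∀ s i, ∃ j, M s j i ≠ 0 := by
    intro s i
    by_contra h
    push Not at h
    have h0 : M s⁻¹ * M s = 1 := by rw [← map_mul, inv_mul_cancel, map_one]
    have h1 := congrFun (congrFun h0 i) i
    rw [Matrix.mul_apply, Finset.sum_eq_zero (fun k _ => by rw [h k, mul_zero]), Matrix.one_apply_eq] at h1
    exact one_ne_zero h1.symm
  have hback : ∀ s i j, M s j i ≠ 0 → μ s⁻¹ j = lam i := by
    intro s i j hne
    funext a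
    have h1 := hchar s i j hne
    have h3 := congrFun h1 ⟨(s⁻¹ : ↥T).1⁻¹ * a.1 * (s⁻¹ : ↥T).1, by simpa using hnorm s.1 s.2 a.1 a.2⟩
    refine Eq.trans h3 (congrArg (lam i) (Subtype.ext ?_))
    show s.1⁻¹ * (((s⁻¹ : ↥T).1)⁻¹ * a.1 * (s⁻¹ : ↥T).1) * s.1 = a.1
    rw [InvMemClass.coe_inv]; group
  -- lines go to lines
  have hline : ∀ s i, i ∈ J → ∃ j ∈ J, ∀ k, k ≠ j → M s k i = 0 := by
    intro s i hi
    obtain ⟨j, hj⟩ := hex s i
    have huniq : ∀ j', lam j' = lam j → j' = j := by
      intro j' hj'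
      have hsupp : ∀ m, lam m = lam j → ∀ k, k ≠ i → M s⁻¹ k m = 0 := by
        intro m hm k hki
        by_contra hne
        have h1 := hchar s⁻¹ m k hne
        have h3 : μ s⁻¹ m = μ s⁻¹ j := funext fun a => congrFun hm _
        exact hki (hJmem.1 hi k (h1.trans (h3.trans (hback s i j hj))))
      by_contra hne
      have h0 : M s * M s⁻¹ = 1 := by rw [← map_mul, mul_inv_cancel, map_one]
      have hprod : ∀ m r, lam m = lam j → M s r i * M s⁻¹ i m = (1 : Matrix (Fin n) (Fin n) F) r m := by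
        intro m r hm
        rw [← h0, Matrix.mul_apply, Finset.sum_eq_single i (fun k _ hk => by rw [hsupp m hm k hk, mul_zero])
          (fun h => absurd (Finset.mem_univ i) h)]
      have e1 := hprod j' j' hj'
      have e2 := hprod j j' rfl
      rw [Matrix.one_apply_eq] at e1
      rw [Matrix.one_apply_ne hne] at e2
      have e3 := hprod j j rfl
      rw [Matrix.one_apply_eq] at e3
      rcases mul_eq_zero.1 e2 with h | h
      · rw [h, zero_mul] at e1; exact zero_ne_one e1
      · rw [h, mul_zero] at e3; exact zero_ne_one e3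
    refine ⟨j, hJmem.2 huniq, fun k hk => ?_⟩
    by_contra hne
    exact hk (huniq k ((hchar s i k hne).trans (hchar s i j hj).symm))
  have hrest : ∀ s i, i ∉ J → ∀ j ∈ J, M s j i = 0 := by
    intro s i hi j hj
    by_contra hne
    obtain ⟨i', hi', hi''⟩ := hline s⁻¹ j hj
    have h1 := hback s i j hne
    obtain ⟨k, hk⟩ := hex s⁻¹ j
    have h3 := hchar s⁻¹ j k hk
    have hki : k = i' := by_contra fun h => hk (hi'' k h)
    subst hki
    exact hi (hJmem.1 hi' i (h3.trans h1).symm ▸ hi')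
  choose π hπJ hπ using hline
  let pf : ↥T → {i // i ∈ J} → {i // i ∈ J} := fun s i => ⟨π s i.1 i.2, hπJ s i.1 i.2⟩
  have hpne : ∀ s (i : {i // i ∈ J}), M s (pf s i).1 i.1 ≠ 0 := by
    intro s i
    obtain ⟨k, hk⟩ := hex s i.1
    by_cases h : k = (pf s i).1
    · exact h ▸ hk
    · exact absurd (hπ s i.1 i.2 k h) hk
  have hentry : ∀ s t (i : {i // i ∈ J}) k, M (s * t) k i.1 = M s k (pf t i).1 * M t (pf t i).1 i.1 := by
    intro s t i k
    rw [map_mul, Matrix.mul_apply, Finset.sum_eq_single (pf t i).1 (fun m _ hm => by rw [hπ t i.1 i.2 m hm, mul_zero])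
      (fun h => absurd (Finset.mem_univ _) h)]
  have hpmul : ∀ s t i, pf (s * t) i = pf s (pf t i) := by
    intro s t i
    by_contra hne
    refine hpne (s * t) i ?_
    rw [hentry, hπ s _ _ _ (fun h => hne (Subtype.ext h)), zero_mul]
  have hpone : ∀ i, pf 1 i = i := by
    intro i
    by_contra hne
    refine hpne 1 i ?_
    rw [map_one, Matrix.one_apply_ne (fun h => hne (Subtype.ext h))]
  let P : ↥T →* Equiv.Perm {i // i ∈ J} :=
    { toFun := fun s => ⟨pf s, pf s⁻¹, fun i => by rw [← hpmul, inv_mul_cancel, hpone],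
        fun i => by rw [← hpmul, mul_inv_cancel, hpone]⟩
      map_one' := Equiv.ext hpone
      map_mul' := fun s t => Equiv.ext (hpmul s t) }
  let R0 : ↥T →* Matrix {i // i ∉ J} {i // i ∉ J} F :=
    { toFun := fun s => (M s).submatrix Subtype.val Subtype.val
      map_one' := by rw [map_one]; exact Matrix.submatrix_one _ Subtype.val_injective
      map_mul' := fun s t => by
        refine Matrix.ext fun i j => ?_
        rw [Matrix.mul_apply, Matrix.submatrix_apply, map_mul, Matrix.mul_apply,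
          ← Fintype.sum_subtype_add_sum_subtype (fun k => k ∈ J) fun k => M s i.1 k * M t k j.1,
          Finset.sum_eq_zero (fun k _ => by rw [hrest t j.1 j.2 k.1 k.2, mul_zero]), zero_add]
        rfl }
  let Φ : ↥T →* Equiv.Perm {i // i ∈ J} × GL {i // i ∉ J} F := P.prod R0.toHomUnits
  have hkerfix : ∀ s ∈ Φ.ker, ∀ i : {i // i ∈ J}, pf s i = i := fun s hs i =>
    Equiv.ext_iff.1 (congrArg Prod.fst (MonoidHom.mem_ker.1 hs)) i
  let c : ↥Φ.ker →* ({i // i ∈ J} → Fˣ) :=
    { toFun := fun s i => Units.mk0 (M s.1 (pf s.1 i).1 i.1) (hpne s.1 i)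
      map_one' := funext fun i => Units.ext (by
        show M (1 : ↥T) (pf 1 i).1 i.1 = 1
        rw [hpone, map_one, Matrix.one_apply_eq])
      map_mul' := fun s t => funext fun i => Units.ext (by
        show M (s.1 * t.1) (pf (s.1 * t.1) i).1 i.1 = M s.1 (pf s.1 i).1 i.1 * M t.1 (pf t.1 i).1 i.1
        rw [hentry, hpmul, hkerfix _ t.2]) }
  have hc : Function.Injective c := by
    rw [injective_iff_map_eq_one]
    intro s hs
    refine Subtype.ext (Subtype.ext (Units.ext ?_))
    have hMs : M s.1 = 1 := by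
      refine Matrix.ext fun k i => ?_
      by_cases hi : i ∈ J
      · have hfix := hkerfix _ s.2 ⟨i, hi⟩
        by_cases hk : k = i
        · subst hk
          have h1 := congrArg Units.val (congrFun hs ⟨k, hi⟩)
          change M s.1 (pf s.1 ⟨k, hi⟩).1 k = 1 at h1
          rw [hfix] at h1
          rw [Matrix.one_apply_eq]; exact h1
        · rw [Matrix.one_apply_ne hk]
          refine hπ s.1 i hi k ?_
          rw [show π s.1 i hi = (pf s.1 ⟨i, hi⟩).1 from rfl, hfix]
          exact hk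
      · by_cases hk : k ∈ J
        · rw [hrest s.1 i hi k hk, Matrix.one_apply_ne (fun h : k = i => hi (h ▸ hk))]
        · have h1 := congrArg (fun z : GL {i // i ∉ J} F => z.val ⟨k, hk⟩ ⟨i, hi⟩)
            (congrArg Prod.snd (MonoidHom.mem_ker.1 s.2))
          change M s.1 k i = (1 : Matrix {i // i ∉ J} {i // i ∉ J} F) ⟨k, hk⟩ ⟨i, hi⟩ at h1
          rw [h1]
          simp [Matrix.one_apply]
    have hinj : Function.Injective
        ((LinearMap.toMatrixAlgEquiv b : _ ≃ₐ[F] _).toRingEquiv.toMonoidHom.comp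
          (Matrix.toLinAlgEquiv' : Matrix (Fin n) (Fin n) F ≃ₐ[F] _).toRingEquiv.toMonoidHom) :=
      (LinearMap.toMatrixAlgEquiv b).injective.comp Matrix.toLinAlgEquiv'.injective
    exact hinj (hMs.trans (map_one _).symm)
  have hdvd : Nat.card ↥T ∣ (Fintype.card F - 1) ^ J.card * ((Nat.factorial J.card) * glProd (Fintype.card F) (n - J.card)) := by
    rw [← Φ.ker.index_mul_card, mul_comm, Subgroup.index_ker]
    refine mul_dvd_mul ?_ ?_
    · refine (Subgroup.card_dvd_of_injective c hc).trans (dvd_of_eq ?_)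
      rw [Nat.card_fun, Nat.card_eq_fintype_card (α := {i // i ∈ J}), Fintype.card_coe, Cfsg.Lib.Linear.card_units_eq]
    · refine (Subgroup.card_subgroup_dvd_card _).trans (dvd_of_eq ?_)
      rw [Nat.card_prod, Nat.card_perm, Nat.card_eq_fintype_card (α := {i // i ∈ J}), Fintype.card_coe]
      congr 1
      have hcard : Fintype.card {i // i ∉ J} = n - J.card := by
        rw [Fintype.card_subtype_compl, Fintype.card_fin, Fintype.card_coe]
      let e : {i // i ∉ J} ≃ Fin (n - J.card) := Fintype.equivFinOfCardEq hcard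
      rw [glProd, Nat.card_congr (Units.mapEquiv (Matrix.reindexAlgEquiv F F e).toMulEquiv).toEquiv,
        Matrix.card_GL_field]
  rw [hT] at hdvd
  have hq1 : 1 < Fintype.card F := Fintype.one_lt_card
  have hne : (Fintype.card F - 1) ^ J.card ≠ 0 := pow_ne_zero _ (by omega)
  have hle := (padicValNat_dvd_iff_le (mul_ne_zero hne (mul_ne_zero (Nat.factorial_pos _).ne'
    (glProd_ne_zero hq1 _)))).1 hdvd
  rw [padicValNat.mul hne (mul_ne_zero (Nat.factorial_pos _).ne' (glProd_ne_zero hq1 _)),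
    padicValNat.mul (Nat.factorial_pos _).ne' (glProd_ne_zero hq1 _), padicValNat.pow, ha, mul_one] at hle
  have hJn : J.card ≤ n := by simpa using J.card_le_univ
  have := lines_too_small hF hq1 ha (n := n) (l := J.card) (by omega) hJn
  omega

end Cfsg.Lib.H3.SylTwo
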