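import Cfsg.Agent.Lib.H3.SylTwoG2Bound

/-!
# A Sylow 2-subgroup of `G₂(q)`, `q` odd
-/

set_option autoImplicit false
set_option maxHeartbeats 1600000

namespace Cfsg.Lib.H3.SylTwoG2

open Cfsg.Lib.H3.SylTwo Cfsg.Lib.Linear.Orth Module
open scoped commutatorElement

variable {F : Type*} [Field F]

/-- The torus. -/
def tauEquiv (t r : unitary (Cx F)) : V F ≃ₗ[F] V F :=
  LinearEquiv.ofLinearMap (tau t r) (tau t⁻¹ r⁻¹)
    (LinearMap.ext fun z => funext fun i => by
      have ht : (t : Cx F) * star (t : Cx F) = 1 := Unitary.mul_star_self_of_mem t.2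
      have hr : (r : Cx F) * star (r : Cx F) = 1 := Unitary.mul_star_self_of_mem r.2
      fin_cases i <;> simp [tau]
      · linear_combination z 1 * ht
      · linear_combination z 2 * hr
      · linear_combination (star (r : Cx F) * (r : Cx F) * z 3) * ht + z 3 * hr)
    (LinearMap.ext fun z => funext fun i => by
      have ht : (t : Cx F) * star (t : Cx F) = 1 := Unitary.mul_star_self_of_mem t.2
      have hr : (r : Cx F) * star (r : Cx F) = 1 := Unitary.mul_star_self_of_mem r.2
      fin_cases i <;> simp [tau]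
      · linear_combination z 1 * ht
      · linear_combination z 2 * hr
      · linear_combination (star (r : Cx F) * (r : Cx F) * z 3) * ht + z 3 * hr)

/-- The torus as automorphisms. -/
def tauHom : unitary (Cx F) × unitary (Cx F) →* ↥(autV F) where
  toFun p := ⟨tauEquiv p.1 p.2, tau_mul p.1 p.2⟩
  map_one' := by
    refine Subtype.ext (LinearEquiv.ext fun z => funext fun i => ?_)
    show tau 1 1 z i = z i
    fin_cases i <;> simp [tau]
  map_mul' p p' := by
    refine Subtype.ext (LinearEquiv.ext fun z => funext fun i => ?_)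
    show tau (p.1 * p'.1) (p.2 * p'.2) z i = tau p.1 p.2 (tau p'.1 p'.2 z) i
    fin_cases i <;> simp [tau] <;> ring

/-- Conjugation as an automorphism. -/
def iotA : ↥(autV F) :=
  ⟨LinearEquiv.ofLinearMap iot iot (LinearMap.ext fun z => funext fun i => star_star (z i))
    (LinearMap.ext fun z => funext fun i => star_star (z i)), iot_mul⟩

/-- The exchange as an automorphism. -/
def swpA : ↥(autV F) :=
  ⟨LinearEquiv.ofLinearMap swp swp (LinearMap.ext fun z => funext fun i => by fin_cases i <;> simp [swp])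
    (LinearMap.ext fun z => funext fun i => by fin_cases i <;> simp [swp]), swp_mul⟩

theorem iotA_sq : (iotA : ↥(autV F)) * iotA = 1 :=
  Subtype.ext (LinearEquiv.ext fun z => funext fun i => star_star (z i))

theorem swpA_sq : (swpA : ↥(autV F)) * swpA = 1 :=
  Subtype.ext (LinearEquiv.ext fun z => funext fun i => by
    show swp (swp z) i = z i
    fin_cases i <;> simp [swp])

theorem iot_swp : (iotA : ↥(autV F)) * swpA = swpA * iotA :=
  Subtype.ext (LinearEquiv.ext fun z => funext fun i => by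
    show iot (swp z) i = swp (iot z) i
    fin_cases i <;> simp [swp, iot])

theorem iot_conj (p : unitary (Cx F) × unitary (Cx F)) : iotA * tauHom p * iotA = tauHom p⁻¹ :=
  Subtype.ext (LinearEquiv.ext fun z => funext fun i => by
    show iot (tau p.1 p.2 (iot z)) i = tau p⁻¹.1 p⁻¹.2 z i
    fin_cases i <;> simp [tau, iot, ← Unitary.star_eq_inv] <;> ring)

theorem swp_conj (p : unitary (Cx F) × unitary (Cx F)) : swpA * tauHom p * swpA = tauHom p.swap :=
  Subtype.ext (LinearEquiv.ext fun z => funext fun i => by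
    show swp (tau p.1 p.2 (swp z)) i = tau p.2 p.1 z i
    fin_cases i <;> simp [tau, swp] <;> ring)

theorem normal_form_injective (h2 : (2 : F) ≠ 0) {p p' : unitary (Cx F) × unitary (Cx F)} {a b a' b' : Bool}
    (h : tauHom p * (if a then iotA else 1) * (if b then swpA else 1) =
      tauHom p' * (if a' then iotA else 1) * (if b' then swpA else 1)) : p = p' ∧ a = a' ∧ b = b' := by
  have key : ∀ z : V F, tau p.1 p.2 ((if a then iot else LinearMap.id) ((if b then swp else LinearMap.id) z)) =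
      tau p'.1 p'.2 ((if a' then iot else LinearMap.id) ((if b' then swp else LinearMap.id) z)) := fun z => by
    have := congrArg (fun e : ↥(autV F) => (e : V F ≃ₗ[F] V F) z) h
    cases a <;> cases b <;> cases a' <;> cases b' <;> exact this
  have ht : ∀ t : unitary (Cx F), (t : Cx F) ≠ 0 := fun t ht => by
    have := Unitary.mul_star_self_of_mem t.2
    rw [ht, zero_mul] at this
    exact zero_ne_one this
  have k1 := key (Pi.single (M := fun _ : Fin 4 => Cx F) 1 1)
  have k2 := key (Pi.single (M := fun _ : Fin 4 => Cx F) 2 1)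
  have hb : b = b' := by
    by_contra hb
    have e := congrFun k1 1
    cases a <;> cases b <;> cases a' <;> cases b' <;> simp [tau, iot, swp] at e hb
    all_goals first
      | exact ht _ e
      | exact ht _ e.symm
  subst hb
  have e1 : (p.1 : Cx F) = p'.1 ∧ (p.2 : Cx F) = p'.2 := by
    have f1 := congrFun k1 1
    have f2 := congrFun k1 2
    have g1 := congrFun k2 1
    have g2 := congrFun k2 2
    cases a <;> cases b <;> cases a' <;> simp [tau, iot, swp] at f1 f2 g1 g2 <;> exact ⟨congrArg Subtype.val (by assumption), congrArg Subtype.val (by assumption)⟩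
  have hp : p = p' := Prod.ext (Subtype.ext e1.1) (Subtype.ext e1.2)
  subst hp
  refine ⟨rfl, ?_, rfl⟩
  by_contra ha
  have k3 := key (Pi.single (M := fun _ : Fin 4 => Cx F) 0 ⟨0, 1⟩)
  have e := congrArg QuadraticAlgebra.im (congrFun k3 0)
  cases a <;> cases b <;> cases a' <;> simp [tau, iot, swp] at e ha
  all_goals exact h2 (by first | linear_combination e | linear_combination -e)

variable [Fintype F]

theorem card_unitary : Nat.card ↥(unitary (Cx F)) = circleN F := by
  refine Nat.card_congr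
    { toFun := fun t => ⟨((t : Cx F).re, (t : Cx F).im), ?_⟩
      invFun := fun z => ⟨⟨z.1.1, z.1.2⟩, QuadraticAlgebra.mem_unitary (by
        rw [QuadraticAlgebra.norm_def]; linear_combination z.2)⟩
      left_inv := fun t => rfl
      right_inv := fun z => rfl }
  have h := QuadraticAlgebra.norm_eq_one t.2
  rw [QuadraticAlgebra.norm_def] at h
  linear_combination h

/-- There is a Sylow 2-subgroup generated by elements with square in its derived subgroup. -/
theorem good_autV (hF : Odd (Fintype.card F)) :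
    ∃ P : Subgroup ↥(autV F), IsPGroup 2 P ∧ (Nat.card ↥(autV F)).factorization 2 ≤ (Nat.card P).factorization 2 ∧
      ∀ x ∈ P, x * x ∈ ⁅P, P⁆ := by
  classical
  haveI : Fact (Nat.Prime 2) := ⟨Nat.prime_two⟩
  have h2 := Cfsg.Lib.Linear.Orth.two_ne_zero_of_odd_card hF
  haveI : Finite ↥(autV F) := finite_autV
  haveI : Finite (Cx F) := Finite.of_equiv _ (QuadraticAlgebra.equivProd (-1 : F) 0).symm
  obtain ⟨A⟩ : Nonempty (Sylow 2 ↥(unitary (Cx F))) := inferInstance
  let X : Set ↥(autV F) :=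
    {x | x = iotA ∨ x = swpA ∨ ∃ p, p.1 ∈ (A : Subgroup ↥(unitary (Cx F))) ∧ p.2 ∈ (A : Subgroup ↥(unitary (Cx F))) ∧ x = tauHom p}
  set K := Subgroup.closure X with hK
  have hτK : ∀ p : unitary (Cx F) × unitary (Cx F), p.1 ∈ (A : Subgroup ↥(unitary (Cx F))) →
      p.2 ∈ (A : Subgroup ↥(unitary (Cx F))) → tauHom p ∈ K :=
    fun p h1 h2 => Subgroup.subset_closure (Or.inr (Or.inr ⟨p, h1, h2, rfl⟩))
  have hιK : (iotA : ↥(autV F)) ∈ K := Subgroup.subset_closure (Or.inl rfl)
  have hwK : (swpA : ↥(autV F)) ∈ K := Subgroup.subset_closure (Or.inr (Or.inl rfl))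
  have hP : IsPGroup 2 ↥K := by
    set T := ((A : Subgroup ↥(unitary (Cx F))).prod (A : Subgroup ↥(unitary (Cx F)))).map (tauHom (F := F)) with hT
    have hpz : ∀ g : ↥(autV F), g * g = 1 → IsPGroup 2 ↥(Subgroup.zpowers g) := by
      rintro g hg ⟨x, m, rfl⟩
      refine ⟨1, Subtype.ext ?_⟩
      show (g ^ m) ^ (2 ^ 1) = 1
      rw [pow_one, sq, ← zpow_add, ← two_mul, zpow_mul, zpow_two, hg, one_zpow]
    have hN : ∀ (g : ↥(autV F)) (S : Subgroup ↥(autV F)), g * g = 1 → (∀ s ∈ S, g * s * g ∈ S) →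
        Subgroup.zpowers g ≤ Subgroup.normalizer (S : Set ↥(autV F)) := by
      intro g S hg hS
      rw [Subgroup.zpowers_le, Subgroup.mem_normalizer_iff]
      intro s
      rw [inv_eq_of_mul_eq_one_right hg]
      refine ⟨hS s, fun h => ?_⟩
      have h' := hS _ h
      rwa [← mul_assoc, ← mul_assoc, hg, one_mul, mul_assoc, hg, mul_one] at h'
    have hT1 : ∀ s ∈ T, iotA * s * iotA ∈ T := by
      rintro _ ⟨p, hp, rfl⟩
      exact ⟨p⁻¹, ⟨Subgroup.inv_mem _ hp.1, Subgroup.inv_mem _ hp.2⟩, (iot_conj p).symm⟩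
    have hT2 : ∀ s ∈ T, swpA * s * swpA ∈ T := by
      rintro _ ⟨p, hp, rfl⟩
      exact ⟨p.swap, ⟨hp.2, hp.1⟩, (swp_conj p).symm⟩
    have hTp : IsPGroup 2 ↥T := IsPGroup.map (by
      intro x
      obtain ⟨n, hn⟩ := A.isPGroup' ⟨x.1.1, x.2.1⟩
      obtain ⟨m, hm⟩ := A.isPGroup' ⟨x.1.2, x.2.2⟩
      have hn' : x.1.1 ^ (2 ^ n) = 1 := congrArg Subtype.val hn
      have hm' : x.1.2 ^ (2 ^ m) = 1 := congrArg Subtype.val hm
      refine ⟨n + m, Subtype.ext (Prod.ext ?_ ?_)⟩
      · show x.1.1 ^ (2 ^ (n + m)) = 1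
        rw [pow_add, pow_mul, hn', one_pow]
      · show x.1.2 ^ (2 ^ (n + m)) = 1
        rw [pow_add, mul_comm, pow_mul, hm', one_pow]) _
    have h1 := IsPGroup.to_sup_of_normal_right' (hpz _ iotA_sq) hTp (hN _ _ iotA_sq hT1)
    have hS2 : ∀ s ∈ Subgroup.zpowers iotA ⊔ T, swpA * s * swpA ∈ Subgroup.zpowers (iotA : ↥(autV F)) ⊔ T := by
      have hle : Subgroup.zpowers iotA ⊔ T ≤
          (Subgroup.zpowers (iotA : ↥(autV F)) ⊔ T).comap (MulAut.conj (swpA : ↥(autV F))).toMonoidHom := by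
        refine sup_le ?_ ?_
        · rw [Subgroup.zpowers_le, Subgroup.mem_comap]
          show swpA * iotA * swpA⁻¹ ∈ _
          rw [← iot_swp, mul_inv_cancel_right]
          exact Subgroup.mem_sup_left (Subgroup.mem_zpowers _)
        · intro s hs
          rw [Subgroup.mem_comap]
          show swpA * s * swpA⁻¹ ∈ _
          rw [inv_eq_of_mul_eq_one_right swpA_sq]
          exact Subgroup.mem_sup_right (hT2 s hs)
      intro s hs
      have := hle hs
      rw [Subgroup.mem_comap] at this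
      have h' : swpA * s * swpA⁻¹ ∈ Subgroup.zpowers (iotA : ↥(autV F)) ⊔ T := this
      rwa [inv_eq_of_mul_eq_one_right swpA_sq] at h'
    have h3 := IsPGroup.to_sup_of_normal_right' (hpz _ swpA_sq) h1 (hN _ _ swpA_sq hS2)
    refine h3.to_le ((Subgroup.closure_le _).2 ?_)
    rintro x (rfl | rfl | ⟨p, hp1, hp2, rfl⟩)
    · exact Subgroup.mem_sup_right (Subgroup.mem_sup_left (Subgroup.mem_zpowers _))
    · exact Subgroup.mem_sup_left (Subgroup.mem_zpowers _)
    · exact Subgroup.mem_sup_right (Subgroup.mem_sup_right ⟨p, ⟨hp1, hp2⟩, rfl⟩)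
  refine ⟨K, hP, ?_, ?_⟩
  · have hT3 : twoT (Fintype.card F) ≤ padicValNat 2 (circleN F) + 1 := by
      have h := two_pow_dvd_card_plane (F := F) hF
      have hN0 : circleN F ≠ 0 := by
        rcases circle_cases hF with h | h <;> have := Fintype.one_lt_card (α := F) <;> omega
      rw [card_plane h2, ← circleN, padicValNat.mul hN0 two_ne_zero, padicValNat.self one_lt_two] at h
      exact h
    let Ψ : ((↥(A : Subgroup ↥(unitary (Cx F))) × ↥(A : Subgroup ↥(unitary (Cx F)))) × (Bool × Bool)) → ↥K :=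
      fun q => ⟨tauHom (q.1.1.1, q.1.2.1) * (if q.2.1 then iotA else 1) * (if q.2.2 then swpA else 1), by
        refine mul_mem (mul_mem (hτK _ q.1.1.2 q.1.2.2) ?_) ?_
        · split_ifs
          · exact hιK
          · exact one_mem _
        · split_ifs
          · exact hwK
          · exact one_mem _⟩
    have hΨ : Function.Injective Ψ := by
      rintro ⟨⟨t, r⟩, a, b⟩ ⟨⟨t', r'⟩, a', b'⟩ h
      obtain ⟨hp, rfl, rfl⟩ := normal_form_injective h2 (congrArg Subtype.val h)
      obtain ⟨e1, e2⟩ := Prod.ext_iff.1 hp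
      exact Prod.ext (Prod.ext (Subtype.ext e1) (Subtype.ext e2)) rfl
    have hc := Nat.card_le_card_of_injective Ψ hΨ
    obtain ⟨n, hn⟩ := IsPGroup.iff_card.1 hP
    rw [hn, Nat.card_prod, Nat.card_prod, Nat.card_prod, A.card_eq_multiplicity, card_unitary,
      Nat.card_eq_fintype_card (α := Bool), Fintype.card_bool, Nat.factorization_def _ Nat.prime_two,
      show (2 : ℕ) * 2 = 2 ^ 2 by norm_num, ← pow_add, ← pow_add, Nat.pow_le_pow_iff_right one_lt_two] at hc
    rw [hn, Nat.prime_two.factorization_pow, Finsupp.single_eq_same, Nat.factorization_def _ Nat.prime_two]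
    have hq1 : 1 < Fintype.card F := Fintype.one_lt_card
    have h6 : 1 < Fintype.card F ^ (2 * 3) := Nat.one_lt_pow (by norm_num) hq1
    have h22 : 1 < Fintype.card F ^ 2 := Nat.one_lt_pow two_ne_zero hq1
    have hcard : sphere 7 (1 : F) * sphere 6 (1 : F) * sphere 4 (1 : F) =
        Fintype.card F ^ 6 * ((Fintype.card F ^ (2 * 3) - 1) * (Fintype.card F ^ 2 - 1)) := by
      refine Nat.cast_injective (R := ℤ) ?_
      rw [Nat.cast_mul, Nat.cast_mul, sphere_product hF, Nat.cast_mul, Nat.cast_mul, Nat.cast_sub h6.le,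
        Nat.cast_sub h22.le]
      push_cast
      ring
    have hd := card_autV_dvd (F := F) h2
    rw [hcard] at hd
    have hne : Fintype.card F ^ 6 * ((Fintype.card F ^ (2 * 3) - 1) * (Fintype.card F ^ 2 - 1)) ≠ 0 :=
      mul_ne_zero (pow_ne_zero _ (by omega)) (mul_ne_zero (by omega) (by omega))
    have hle : padicValNat 2 (Nat.card ↥(autV F)) ≤
        padicValNat 2 (Fintype.card F ^ 6 * ((Fintype.card F ^ (2 * 3) - 1) * (Fintype.card F ^ 2 - 1))) :=
      (padicValNat_dvd_iff_le hne).1 (pow_padicValNat_dvd.trans hd)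
    rw [val_pow_mul hF _ _ (mul_ne_zero (by omega) (by omega)), padicValNat.mul (by omega) (by omega),
      val_sub_one hF hq1 (by norm_num : (3 : ℕ) ≠ 0),
      padicValNat.eq_zero_of_not_dvd (by norm_num : ¬ (2 : ℕ) ∣ 3)] at hle
    unfold twoT at hle hT3
    omega
  · intro x hx
    suffices h : K ≤ sqGood K from (h hx).2
    refine (Subgroup.closure_le _).2 ?_
    rintro y (rfl | rfl | ⟨p, hp1, hp2, rfl⟩)
    · exact ⟨hιK, by rw [iotA_sq]; exact one_mem _⟩
    · exact ⟨hwK, by rw [swpA_sq]; exact one_mem _⟩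
    · refine ⟨hτK p hp1 hp2, ?_⟩
      have e : ⁅tauHom p, (iotA : ↥(autV F))⁆ = tauHom p * tauHom p := by
        rw [commutatorElement_def, inv_eq_of_mul_eq_one_right iotA_sq]
        calc tauHom p * iotA * (tauHom p)⁻¹ * iotA = tauHom p * (iotA * (tauHom p)⁻¹ * iotA) := by group
          _ = tauHom p * tauHom p := by rw [← map_inv, iot_conj, inv_inv]
      rw [← e]
      exact Subgroup.commutator_mem_commutator (hτK p hp1 hp2) hιK

/-- The property for the Sylow 2-subgroups of `G₂(F)`. -/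
theorem g2_sylow (hF : Odd (Fintype.card F)) (S : Sylow 2 ↥(Cfsg.Lie.G2 F)) :
    ∀ x : ↥(S : Subgroup ↥(Cfsg.Lie.G2 F)), x ^ 2 ∈ commutator ↥(S : Subgroup ↥(Cfsg.Lie.G2 F)) := by
  classical
  haveI : Fact (Nat.Prime 2) := ⟨Nat.prime_two⟩
  have h2 := Cfsg.Lib.Linear.Orth.two_ne_zero_of_odd_card hF
  obtain ⟨a, b, hab⟩ := exists_binary h2 (neg_ne_zero.2 (one_ne_zero (α := F))) (neg_ne_zero.2 one_ne_zero)
  have hab' : a ^ 2 + b ^ 2 = -1 := by linear_combination -hab
  let Φ : V F ≃ₗ[F] (Fin 8 → F) := LinearEquiv.ofBijective (zl a b) (zl_bijective h2 hab')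
  have hΦ : ∀ z w, Φ (cd 1 z w) = Cfsg.Lie.zornMul (Φ z) (Φ w) := fun z w => by
    have h := zl_mul a b z w
    rwa [show -(a ^ 2 + b ^ 2) = (1 : F) by rw [hab', neg_neg]] at h
  let Θ : (V F ≃ₗ[F] V F) ≃* GL (Fin 8) F :=
    (LinearMap.GeneralLinearGroup.generalLinearEquiv F (V F)).symm.trans
      (Units.mapEquiv ((Φ.conjAlgEquiv F).trans (Matrix.toLinAlgEquiv' (R := F) (n := Fin 8)).symm).toMulEquiv)
  have hΘ : ∀ (e : V F ≃ₗ[F] V F) (z : V F), Matrix.mulVec (Θ e).val (Φ z) = Φ (e z) := fun e z => by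
    show Matrix.toLinAlgEquiv' ((Matrix.toLinAlgEquiv' (R := F) (n := Fin 8)).symm (Φ.conjAlgEquiv F e.toLinearMap)) (Φ z) = _
    rw [AlgEquiv.apply_symm_apply]
    simp
  have key : ∀ e, Θ e ∈ Cfsg.Lie.G2 F ↔ e ∈ autV F := fun e => by
    refine ⟨fun h z w => ?_, fun h X Y => ?_⟩
    · have := h (Φ z) (Φ w)
      simp only [Units.coeHom_apply] at this
      rw [hΘ, hΘ, ← hΦ, hΘ, ← hΦ] at this
      exact Φ.injective this
    · obtain ⟨z, rfl⟩ := Φ.surjective X
      obtain ⟨w, rfl⟩ := Φ.surjective Y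
      simp only [Units.coeHom_apply]
      rw [← hΦ, hΘ, hΘ, hΘ, ← hΦ, h]
  have hmap : (autV F).map Θ.toMonoidHom = Cfsg.Lie.G2 F := by
    ext g
    rw [Subgroup.mem_map_equiv, ← key, Θ.apply_symm_apply]
  let θ : ↥(autV F) ≃* ↥(Cfsg.Lie.G2 F) := (Θ.subgroupMap _).trans (MulEquiv.subgroupCongr hmap)
  obtain ⟨P, hP, hcard, hsq⟩ := good_autV (F := F) hF
  haveI : Finite ↥(autV F) := finite_autV
  haveI : Finite ↥(Cfsg.Lie.G2 F) := Finite.of_equiv _ θ.toEquiv
  set P' := P.map θ.toMonoidHom with hP'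
  obtain ⟨W, hW⟩ := (hP.map θ.toMonoidHom).exists_le_sylow
  have hPW : P' = (W : Subgroup ↥(Cfsg.Lie.G2 F)) := by
    refine Subgroup.eq_of_le_of_card_ge hW ?_
    obtain ⟨n, hn⟩ := IsPGroup.iff_card.1 hP
    rw [hn, Nat.prime_two.factorization_pow, Finsupp.single_eq_same] at hcard
    rw [hP', Subgroup.card_map_of_injective (f := θ.toMonoidHom) θ.injective, hn, W.card_eq_multiplicity,
      ← Nat.card_congr θ.toEquiv]
    exact Nat.pow_le_pow_right two_pos hcard
  obtain ⟨g, hg⟩ := MulAction.exists_smul_eq ↥(Cfsg.Lie.G2 F) W S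
  have hS : (S : Subgroup ↥(Cfsg.Lie.G2 F)) = (P.map θ.toMonoidHom).map (MulAut.conj g).toMonoidHom := by
    rw [← hg, Sylow.coe_subgroup_smul, ← hP', hPW]; rfl
  intro x
  obtain ⟨_, ⟨y, hy, rfl⟩, hyx⟩ := hS.le x.2
  have h1 : (S : Subgroup ↥(Cfsg.Lie.G2 F)).subtype (x * x) ∈
      ⁅(S : Subgroup ↥(Cfsg.Lie.G2 F)), (S : Subgroup ↥(Cfsg.Lie.G2 F))⁆ := by
    have h0 : (x : ↥(Cfsg.Lie.G2 F)) * x ∈ ⁅(P.map θ.toMonoidHom).map (MulAut.conj g).toMonoidHom,
        (P.map θ.toMonoidHom).map (MulAut.conj g).toMonoidHom⁆ := by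
      rw [← Subgroup.map_commutator, ← Subgroup.map_commutator]
      refine ⟨θ (y * y), ⟨y * y, hsq y hy, rfl⟩, ?_⟩
      rw [map_mul, map_mul, ← hyx]; rfl
    rw [← hS] at h0
    exact h0
  rw [← Subgroup.map_subtype_commutator, Subgroup.mem_map_iff_mem (Subgroup.subtype_injective _)] at h1
  rwa [sq]

end Cfsg.Lib.H3.SylTwoG2
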