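import Cfsg.Agent.Lib.H3.SylTwoOrth

/-!
# Spheres in a sum of squares over a finite field of odd characteristic
-/

set_option autoImplicit false

namespace Cfsg.Lib.H3.SylTwo

open Module Cfsg.Lib.Linear.Orth
open scoped Matrix

variable {F : Type*} [Field F] [Fintype F]

/-- A sum of squares. -/
abbrev onesQ (F : Type*) [Field F] (n : ℕ) : (Fin n → F) → F := diagQ fun _ => 1

/-- The number of solutions of `x₀² + ⋯ + x_{n-1}² = c`. -/
noncomputable def sphere (n : ℕ) (c : F) : ℕ := Nat.card {v : Fin n → F // onesQ F n v = c}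

/-- The number of points of the circle. -/
noncomputable def circleN (F : Type*) [Field F] : ℕ := Nat.card {z : F × F // z.1 ^ 2 + z.2 ^ 2 = 1}

theorem circle_cases (hF : Odd (Fintype.card F)) :
    circleN F + 1 = Fintype.card F ∨ circleN F = Fintype.card F + 1 := by
  classical
  have h2 := Cfsg.Lib.Linear.Orth.two_ne_zero_of_odd_card hF
  by_cases hs : IsSquare (-1 : F)
  · obtain ⟨i, hi⟩ := hs
    left
    have hN : circleN F = Fintype.card F - 1 := by
      rw [circleN, ← Fintype.card_units (α := F), ← Nat.card_eq_fintype_card]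
      refine Nat.card_congr (Equiv.ofBijective (fun z => Units.mkOfMulEqOne (z.1.1 + i * z.1.2) (z.1.1 - i * z.1.2)
        (by linear_combination z.2 + z.1.2 ^ 2 * hi)) ⟨fun z z' h => ?_, fun u => ?_⟩)
      · have e1 : z.1.1 + i * z.1.2 = z'.1.1 + i * z'.1.2 := congrArg Units.val h
        have e2 : z.1.1 - i * z.1.2 = z'.1.1 - i * z'.1.2 := congrArg (fun u : Fˣ => (u⁻¹ : Fˣ).val) h
        have hx : z.1.1 = z'.1.1 := mul_left_cancel₀ h2 (by linear_combination e1 + e2)
        have hi0 : i ≠ 0 := fun h => by rw [h, mul_zero, neg_eq_zero] at hi; exact one_ne_zero hi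
        exact Subtype.ext (Prod.ext hx (mul_left_cancel₀ hi0 (by linear_combination e1 - hx)))
      · have hu : (u : F) * (u⁻¹ : Fˣ).val = 1 := Units.mul_inv u
        refine ⟨⟨(((u : F) + (u⁻¹ : Fˣ).val) / 2, -i * ((u : F) - (u⁻¹ : Fˣ).val) / 2), ?_⟩, Units.ext ?_⟩
        · field_simp
          linear_combination 4 * hu - ((u : F) - (u⁻¹ : Fˣ).val) ^ 2 * hi
        · show ((u : F) + (u⁻¹ : Fˣ).val) / 2 + i * (-i * ((u : F) - (u⁻¹ : Fˣ).val) / 2) = u
          field_simp
          linear_combination ((u : F) - (u⁻¹ : Fˣ).val) * hi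
    have := Fintype.card_pos (α := F)
    omega
  · have hab : ∀ z₁ z₂ : F, z₁ ^ 2 + 0 * z₁ * z₂ + 1 * z₂ ^ 2 = 0 → z₁ = 0 ∧ z₂ = 0 := fun z₁ z₂ h => by
      by_cases hz : z₂ = 0
      · subst hz; exact ⟨by simpa using h, rfl⟩
      · refine absurd ⟨z₁ / z₂, ?_⟩ hs
        field_simp
        linear_combination -h
    have hN := binary_fibre hab
    simp only [zero_mul, add_zero, one_mul, Nat.card_eq_fintype_card (α := F)] at hN
    right
    exact_mod_cast hN

theorem circle_scale (h2 : (2 : F) ≠ 0) {t : F} (ht : t ≠ 0) :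
    Nat.card {z : F × F // z.1 ^ 2 + z.2 ^ 2 = t} = circleN F := by
  obtain ⟨x, y, hxy⟩ := exists_binary h2 (inv_ne_zero ht) (inv_ne_zero ht)
  have hxy' : x ^ 2 + y ^ 2 = t := by field_simp at hxy; linear_combination hxy
  refine Nat.card_congr
    { toFun := fun z => ⟨((x * z.1.1 + y * z.1.2) / t, (x * z.1.2 - y * z.1.1) / t), by
        field_simp; linear_combination (z.1.1 ^ 2 + z.1.2 ^ 2) * hxy' + t * z.2⟩
      invFun := fun z => ⟨(x * z.1.1 - y * z.1.2, y * z.1.1 + x * z.1.2), by
        linear_combination (z.1.1 ^ 2 + z.1.2 ^ 2) * hxy' + t * z.2⟩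
      left_inv := fun z => by
        refine Subtype.ext (Prod.ext ?_ ?_)
        · show x * ((x * z.1.1 + y * z.1.2) / t) - y * ((x * z.1.2 - y * z.1.1) / t) = z.1.1
          field_simp; linear_combination z.1.1 * hxy'
        · show y * ((x * z.1.1 + y * z.1.2) / t) + x * ((x * z.1.2 - y * z.1.1) / t) = z.1.2
          field_simp; linear_combination z.1.2 * hxy'
      right_inv := fun z => by
        refine Subtype.ext (Prod.ext ?_ ?_)
        · show (x * (x * z.1.1 - y * z.1.2) + y * (y * z.1.1 + x * z.1.2)) / t = z.1.1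
          field_simp; linear_combination z.1.1 * hxy'
        · show (x * (y * z.1.1 + x * z.1.2) - y * (x * z.1.1 - y * z.1.2)) / t = z.1.2
          field_simp; linear_combination z.1.2 * hxy' }

theorem sphere_rec (h2 : (2 : F) ≠ 0) (n : ℕ) (c : F) :
    (sphere (n + 2) c : ℤ) =
      ((Fintype.card F : ℤ) ^ 2 - (Fintype.card F : ℤ) * circleN F) * sphere n c +
        circleN F * (Fintype.card F : ℤ) ^ n := by
  classical
  let e : {v : Fin (n + 2) → F // onesQ F (n + 2) v = c} ≃
      Σ t : F, {z : F × F // z.1 ^ 2 + z.2 ^ 2 = t} × {w : Fin n → F // onesQ F n w = c - t} :=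
    { toFun := fun v => ⟨v.1 0 ^ 2 + v.1 1 ^ 2, ⟨(v.1 0, v.1 1), rfl⟩, ⟨fun i => v.1 i.succ.succ, by
        have h := v.2
        simp only [diagQ, Fin.sum_univ_succ, one_mul, Fin.succ_zero_eq_one] at h ⊢
        linear_combination h⟩⟩
      invFun := fun p => ⟨Fin.cons p.2.1.1.1 (Fin.cons p.2.1.1.2 p.2.2.1), by
        have h1 := p.2.1.2
        have h2 := p.2.2.2
        simp only [diagQ, Fin.sum_univ_succ, one_mul, Fin.cons_zero, Fin.cons_succ] at h2 ⊢
        linear_combination h1 + h2⟩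
      left_inv := fun v => Subtype.ext (funext fun i => Fin.cases rfl (fun j => Fin.cases rfl (fun _ => rfl) j) i)
      right_inv := by rintro ⟨t, ⟨⟨a, b⟩, hz⟩, ⟨w, hw⟩⟩; subst hz; rfl }
  have hsum : ∑ t : F, (sphere n (c - t) : ℤ) = (Fintype.card F : ℤ) ^ n := by
    have h := Nat.card_congr (Equiv.sigmaFiberEquiv fun w : Fin n → F => c - onesQ F n w)
    rw [Nat.card_sigma, Nat.card_fun, Nat.card_fin, Nat.card_eq_fintype_card (α := F)] at h
    rw [← Nat.cast_pow, ← h, Nat.cast_sum]
    refine Finset.sum_congr rfl fun t _ => ?_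
    rw [sphere, Nat.card_congr (Equiv.subtypeEquivRight fun w => ?_)]
    constructor <;> intro h <;> linear_combination -h
  have htot : ∑ t : F, (Nat.card {z : F × F // z.1 ^ 2 + z.2 ^ 2 = t} : ℤ) = (Fintype.card F : ℤ) ^ 2 := by
    have h := Nat.card_congr (Equiv.sigmaFiberEquiv fun z : F × F => z.1 ^ 2 + z.2 ^ 2)
    rw [Nat.card_sigma, Nat.card_prod, Nat.card_eq_fintype_card (α := F)] at h
    rw [sq, ← Nat.cast_mul, ← h, Nat.cast_sum]
  rw [sphere, Nat.card_congr e, Nat.card_sigma, Nat.cast_sum]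
  simp only [Nat.card_prod, Nat.cast_mul]
  rw [← Finset.add_sum_erase _ _ (Finset.mem_univ (0 : F)), Finset.sum_congr rfl fun t ht => by
    rw [circle_scale h2 (Finset.ne_of_mem_erase ht)]]
  rw [← Finset.add_sum_erase _ _ (Finset.mem_univ (0 : F)), sub_zero] at hsum
  rw [← Finset.add_sum_erase _ _ (Finset.mem_univ (0 : F)), Finset.sum_congr rfl fun t ht => by
    rw [circle_scale h2 (Finset.ne_of_mem_erase ht)]] at htot
  rw [← Finset.mul_sum, sub_zero]
  rw [Finset.sum_const, Finset.card_erase_of_mem (Finset.mem_univ _), Finset.card_univ, nsmul_eq_mul,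
    Nat.cast_sub Fintype.card_pos, Nat.cast_one] at htot
  simp only [show ∀ d : F, Nat.card {w : Fin n → F // onesQ F n w = d} = sphere n d from fun _ => rfl]
  linear_combination (circleN F : ℤ) * hsum + (sphere n c : ℤ) * htot

theorem sphere_product (hF : Odd (Fintype.card F)) :
    (sphere 7 (1 : F) : ℤ) * sphere 6 (1 : F) * sphere 4 (1 : F) =
      (Fintype.card F : ℤ) ^ 6 * ((Fintype.card F : ℤ) ^ 6 - 1) * ((Fintype.card F : ℤ) ^ 2 - 1) := by
  have h2 := Cfsg.Lib.Linear.Orth.two_ne_zero_of_odd_card hF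
  have h0 : sphere 0 (1 : F) = 0 := by
    rw [sphere, Nat.card_eq_zero]
    exact Or.inl ⟨fun v => zero_ne_one (α := F) (by simpa [diagQ] using v.2)⟩
  have h1 : sphere 1 (1 : F) = 2 := by
    classical
    rw [sphere, Nat.card_congr (show {v : Fin 1 → F // onesQ F 1 v = 1} ≃ ({1, -1} : Finset F) from
      { toFun := fun v => ⟨v.1 0, by
          have h := v.2
          simp [diagQ] at h
          rcases h with h | h <;> simp [h]⟩
        invFun := fun a => ⟨fun _ => a.1, by
          rcases Finset.mem_insert.1 a.2 with h | h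
          · simp [diagQ, h]
          · simp [diagQ, Finset.mem_singleton.1 h]⟩
        left_inv := fun v => Subtype.ext (funext fun i => by rw [Subsingleton.elim i 0])
        right_inv := fun a => rfl }), Nat.card_eq_fintype_card, Fintype.card_coe,
      Finset.card_pair (fun h => h2 (by linear_combination h))]
  have r2 := sphere_rec (F := F) h2 0 1
  have r3 := sphere_rec (F := F) h2 1 1
  have r4 := sphere_rec (F := F) h2 2 1
  have r5 := sphere_rec (F := F) h2 3 1
  have r6 := sphere_rec (F := F) h2 4 1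
  have r7 := sphere_rec (F := F) h2 5 1
  norm_num [h0, h1] at r2 r3 r4 r5 r6 r7
  rw [r7, r6, r5, r4, r3, r2]
  rcases circle_cases hF with h | h
  · rw [show (circleN F : ℤ) = (Fintype.card F : ℤ) - 1 by omega]
    ring
  · rw [show (circleN F : ℤ) = (Fintype.card F : ℤ) + 1 by omega]
    ring

theorem move_to_zero (h2 : (2 : F) ≠ 0) {n : ℕ} {u : Fin (n + 1) → F} (hu : onesQ F (n + 1) u = 1) :
    ∃ g : GL (Fin (n + 1)) F, g ∈ isometryGroup F (onesQ F (n + 1)) ∧ g.val *ᵥ u = Pi.single 0 1 := by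
  have C : Space (onesQ F (n + 1)) (diagB fun _ => (1 : F)) := diag_space h2 fun _ => one_ne_zero
  set e : Fin (n + 1) → F := Pi.single 0 1
  have he : onesQ F (n + 1) e = 1 := by simp [diagQ, e, Fin.sum_univ_succ]
  have hd : ∀ a b : Fin (n + 1) → F, onesQ F (n + 1) a = 1 → onesQ F (n + 1) b = 1 →
      onesQ F (n + 1) (a - b) ≠ 0 → (rGL (onesQ F (n + 1)) (a - b)).val *ᵥ a = b := fun a b ha hb hab => by
    rw [rGL_act C hab]
    have h1 : diagB (fun _ => (1 : F)) (a - b) a = onesQ F (n + 1) (a - b) := by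
      rw [sub_eq_add_neg a b, C.add, C.neg, ha, hb, map_add, LinearMap.add_apply, C.self, ha, map_neg,
        LinearMap.neg_apply, C.symm b a, map_neg]
      ring
    rw [h1, inv_mul_cancel₀ hab, one_smul, sub_sub_cancel]
  by_cases h : onesQ F (n + 1) (u - e) = 0
  · have h' : onesQ F (n + 1) (u - -e) ≠ 0 := by
      intro h'
      rw [sub_eq_add_neg, C.add, C.neg, hu, he, map_neg] at h
      rw [sub_neg_eq_add, C.add, hu, he] at h'
      exact h2 (mul_self_eq_zero.1 (by linear_combination h + h'))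
    have he0 : onesQ F (n + 1) e ≠ 0 := by rw [he]; exact one_ne_zero
    refine ⟨rGL (onesQ F (n + 1)) e * rGL (onesQ F (n + 1)) (u - -e), mul_mem (rGL_mem C he0) (rGL_mem C h'), ?_⟩
    rw [mul_act, hd u (-e) hu (by rw [C.neg, he]) h', Matrix.mulVec_neg, rGL_self C he0, neg_neg]
  · exact ⟨_, rGL_mem C h, hd u e hu he h⟩

/-- The sphere cut by an orthonormal family. -/
theorem sphere_perp (h2 : (2 : F) ≠ 0) : ∀ (r n : ℕ) (u : Fin r → Fin (n + r) → F),
    (∀ i, onesQ F (n + r) (u i) = 1) → (∀ i j, i ≠ j → diagB (fun _ => (1 : F)) (u i) (u j) = 0) →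
    Nat.card {v : Fin (n + r) → F // (∀ i, diagB (fun _ => (1 : F)) (u i) v = 0) ∧ onesQ F (n + r) v = 1} =
      sphere n (1 : F) := by
  intro r
  induction r with
  | zero =>
    intro n u _ _
    exact Nat.card_congr (Equiv.subtypeEquivRight fun v => ⟨fun h => h.2, fun h => ⟨fun i => i.elim0, h⟩⟩)
  | succ r ih =>
    intro n u hu horth
    have C : Space (onesQ F (n + (r + 1))) (diagB fun _ => (1 : F)) := diag_space h2 fun _ => one_ne_zero
    obtain ⟨g, hg, hgu⟩ := move_to_zero h2 (n := n + r) (hu (Fin.last r))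
    let t : Fin r → Fin (n + r) → F := fun i j => (g.val *ᵥ u i.castSucc : Fin (n + r + 1) → F) j.succ
    have hB0 : ∀ w : Fin (n + r + 1) → F, diagB (fun _ => (1 : F)) (Pi.single 0 1) w = 2 * w 0 := fun w => by
      simp [diagB_apply, Fin.sum_univ_succ]
    have hcons : ∀ w : Fin (n + r + 1) → F, w 0 = 0 → onesQ F (n + r + 1) w = onesQ F (n + r) fun j : Fin (n + r) => w j.succ :=
      fun w hw => by simp [diagQ, Fin.sum_univ_succ, hw]
    have hBcons : ∀ a w : Fin (n + r + 1) → F, a 0 = 0 → diagB (fun _ => (1 : F)) a w =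
        diagB (fun _ => (1 : F)) (fun j : Fin (n + r) => a j.succ) (fun j : Fin (n + r) => w j.succ) :=
      fun a w hw => by simp [diagB_apply, Fin.sum_univ_succ, hw]
    have hperp : ∀ w, diagB (fun _ => (1 : F)) (u (Fin.last r)) w = 0 → (g.val *ᵥ w) 0 = 0 := fun w hw => by
      have h := C.B_act hg (u (Fin.last r)) w
      rw [hgu] at h
      exact (mul_eq_zero.1 ((hB0 (g.val *ᵥ w)).symm.trans (h.trans hw))).resolve_left h2
    have ht0 : ∀ i : Fin r, (g.val *ᵥ u i.castSucc) 0 = 0 := fun i => hperp _ (horth _ _ (Fin.castSucc_lt_last i).ne')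
    rw [← ih n t (fun i => ?_) (fun i j hij => ?_)]
    · refine Nat.card_congr
        { toFun := fun v => ⟨fun j => (g.val *ᵥ v.1) j.succ, fun i => ?_, ?_⟩
          invFun := fun v => ⟨(g⁻¹ : GL (Fin (n + r + 1)) F).val *ᵥ Fin.cons 0 v.1, fun i => ?_, ?_⟩
          left_inv := fun v => Subtype.ext ?_
          right_inv := fun v => Subtype.ext ?_ }
      · rw [← hBcons _ _ (ht0 i)]
        exact (C.B_act hg _ _).trans (v.2.1 _)
      · rw [← hcons _ (hperp _ (v.2.1 _))]
        exact (mem_iso.1 hg _).trans v.2.2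
      · rw [← C.B_act hg, act_inv]
        refine Fin.lastCases ?_ (fun i => ?_) i
        · rw [hgu]; exact (hB0 _).trans (by simp)
        · refine (hBcons _ _ (ht0 i)).trans ?_
          simpa using v.2.1 i
      · refine (mem_iso.1 hg _).symm.trans ?_
        rw [act_inv]
        refine (hcons _ (Fin.cons_zero _ _)).trans ?_
        simpa using v.2.2
      · show (g⁻¹ : GL (Fin (n + r + 1)) F).val *ᵥ Fin.cons 0 (fun j => (g.val *ᵥ v.1) j.succ) = v.1
        have : (Fin.cons 0 (fun j => (g.val *ᵥ v.1) j.succ) : Fin (n + r + 1) → F) = g.val *ᵥ v.1 := by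
          funext j
          refine Fin.cases ?_ (fun j => ?_) j
          · rw [Fin.cons_zero]; exact (hperp _ (v.2.1 _)).symm
          · rw [Fin.cons_succ]
        rw [this]; exact inv_act g _
      · funext j
        show (g.val *ᵥ ((g⁻¹ : GL (Fin (n + r + 1)) F).val *ᵥ Fin.cons 0 v.1)) j.succ = v.1 j
        rw [act_inv, Fin.cons_succ]
    · rw [← hcons _ (ht0 i)]
      exact (mem_iso.1 hg _).trans (hu _)
    · rw [← hBcons _ _ (ht0 i)]
      exact (C.B_act hg _ _).trans (horth _ _ fun h => hij (Fin.castSucc_injective _ h))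

end Cfsg.Lib.H3.SylTwo
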