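import Cfsg.Agent.Lib.H3.SylTwoG2Model
import Cfsg.Agent.Lib.H3.SylTwoSphere

/-!
# The order of the automorphism group of the octonions divides the number of basic triples
-/

set_option autoImplicit false
set_option maxHeartbeats 4000000

namespace Cfsg.Lib.H3.SylTwoG2

open Cfsg.Lib.H3.SylTwo Cfsg.Lib.Linear.Orth Module

variable {F : Type*} [Field F]

/-- The automorphisms of the model. -/
def autV (F : Type*) [Field F] : Subgroup (V F ≃ₗ[F] V F) where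
  carrier := {e | ∀ z w, e (cd 1 z w) = cd 1 (e z) (e w)}
  one_mem' := fun _ _ => rfl
  mul_mem' := fun {e e'} he he' z w => by
    show e (e' _) = cd 1 (e (e' z)) (e (e' w))
    rw [he', he]
  inv_mem' := fun {e} he z w => by
    apply e.injective
    show e (e.symm _) = e (cd 1 (e.symm z) (e.symm w))
    rw [he, e.apply_symm_apply, e.apply_symm_apply, e.apply_symm_apply]

/-- The eight coordinates. -/
def fl : V F ≃ₗ[F] (Fin 8 → F) where
  toFun z := ![(z 0).re, (z 0).im, (z 1).re, (z 1).im, (z 2).re, (z 2).im, (z 3).re, (z 3).im]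
  invFun X := ![⟨X 0, X 1⟩, ⟨X 2, X 3⟩, ⟨X 4, X 5⟩, ⟨X 6, X 7⟩]
  map_add' z w := by funext i; fin_cases i <;> simp
  map_smul' c z := by funext i; fin_cases i <;> simp
  left_inv z := by funext j; fin_cases j <;> simp
  right_inv X := by funext i; fin_cases i <;> simp

/-- The identity of the model. -/
def one : V F := ![1, 0, 0, 0]

/-- The norm. -/
def Nv (z : V F) : F := onesQ F 8 (fl z)

/-- The polar form of the norm. -/
def Bv (z w : V F) : F := diagB (fun _ : Fin 8 => (1 : F)) (fl z) (fl w)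

theorem Nv_eq (z : V F) : Nv z = (z 0).re ^ 2 + (z 0).im ^ 2 + (z 1).re ^ 2 + (z 1).im ^ 2 +
    (z 2).re ^ 2 + (z 2).im ^ 2 + (z 3).re ^ 2 + (z 3).im ^ 2 := by
  simp [Nv, fl, diagQ, Fin.sum_univ_eight]

theorem Bv_eq (z w : V F) : Bv z w = 2 * ((z 0).re * (w 0).re + (z 0).im * (w 0).im + (z 1).re * (w 1).re +
    (z 1).im * (w 1).im + (z 2).re * (w 2).re + (z 2).im * (w 2).im + (z 3).re * (w 3).re + (z 3).im * (w 3).im) := by
  simp [Bv, fl, diagB_apply, Fin.sum_univ_eight]; ring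

theorem cd_self (z : V F) : cd 1 z z = (2 * (z 0).re) • z - Nv z • one := by
  funext i
  fin_cases i <;> refine QuadraticAlgebra.ext ?_ ?_ <;> simp [cd, one, Nv_eq, QuadraticAlgebra.re_one, QuadraticAlgebra.im_one] <;> ring

theorem cd_anti (z w : V F) (hz : (z 0).re = 0) (hw : (w 0).re = 0) :
    cd 1 z w + cd 1 w z = -(Bv z w • one) := by
  funext i
  fin_cases i <;> refine QuadraticAlgebra.ext ?_ ?_ <;> simp [cd, one, Bv_eq, hz, hw, QuadraticAlgebra.re_one, QuadraticAlgebra.im_one] <;> ring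

theorem one_cd (z : V F) : cd 1 one z = z := by
  funext i
  fin_cases i <;> refine QuadraticAlgebra.ext ?_ ?_ <;> simp [cd, one, QuadraticAlgebra.re_one, QuadraticAlgebra.im_one]

theorem cd_one (z : V F) : cd 1 z one = z := by
  funext i
  fin_cases i <;> refine QuadraticAlgebra.ext ?_ ?_ <;> simp [cd, one, QuadraticAlgebra.re_one, QuadraticAlgebra.im_one]

theorem Nv_cd (z w : V F) : Nv (cd 1 z w) = Nv z * Nv w := by
  simp [cd, Nv_eq]; ring

theorem Bv_cd_right (a b c : V F) : Bv (cd 1 a c) (cd 1 b c) = Bv a b * Nv c := by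
  simp [cd, Nv_eq, Bv_eq]; ring

theorem Bv_cd_left (a b c : V F) : Bv (cd 1 a b) (cd 1 a c) = Nv a * Bv b c := by
  simp [cd, Nv_eq, Bv_eq]; ring

theorem Bv_adj (a b c : V F) (hb : (b 0).re = 0) : Bv a (cd 1 b c) = -Bv (cd 1 b a) c := by
  simp [cd, Bv_eq, hb]; ring

theorem alt_left (z w : V F) (hz : (z 0).re = 0) : cd 1 z (cd 1 z w) = -(Nv z • w) := by
  funext i
  fin_cases i <;> refine QuadraticAlgebra.ext ?_ ?_ <;> simp [cd, Nv_eq, hz] <;> ring

theorem alt_right (z w : V F) (hz : (z 0).re = 0) : cd 1 (cd 1 w z) z = -(Nv z • w) := by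
  funext i
  fin_cases i <;> refine QuadraticAlgebra.ext ?_ ?_ <;> simp [cd, Nv_eq, hz] <;> ring

theorem re_cd (z w : V F) (hz : (z 0).re = 0) (hw : (w 0).re = 0) : 2 * ((cd 1 z w) 0).re = -Bv z w := by
  simp [cd, Bv_eq, hz, hw]; ring

theorem Bv_one (z : V F) : Bv one z = 2 * (z 0).re := by simp [Bv_eq, one, QuadraticAlgebra.re_one, QuadraticAlgebra.im_one]

theorem Bv_comm (z w : V F) : Bv z w = Bv w z := by rw [Bv_eq, Bv_eq]; ring

theorem Bv_neg (z w : V F) : Bv (-z) w = -Bv z w := by simp [Bv_eq]; ring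

theorem Bv_self (z : V F) : Bv z z = 2 * Nv z := by rw [Bv_eq, Nv_eq]; ring

/-- A pair of anticommuting square roots of minus one. -/
theorem pair_iff (h2 : (2 : F) ≠ 0) (z w : V F) :
    (cd 1 z z = -one ∧ cd 1 w w = -one ∧ cd 1 z w = -cd 1 w z) ↔
      ((z 0).re = 0 ∧ Nv z = 1) ∧ ((w 0).re = 0 ∧ Nv w = 1) ∧ Bv z w = 0 := by
  have hone : ∀ c : F, c • (one : V F) = 0 → c = 0 := fun c h => by
    simpa [one, QuadraticAlgebra.re_one, QuadraticAlgebra.im_one] using congrArg QuadraticAlgebra.re (congrFun h 0)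
  have hne : -(one : V F) ≠ 0 := fun h => one_ne_zero (hone 1 (by rw [one_smul]; exact neg_eq_zero.1 h))
  have hsq : ∀ x : V F, (x 0).re = 0 → cd 1 x x = -(Nv x • one) := fun x hx => by
    rw [cd_self, hx, mul_zero, zero_smul, zero_sub]
  have hsmul0 : ∀ (c : F) (x : V F), cd 1 (c • one) x = c • x := fun c x => by
    funext i
    fin_cases i <;> refine QuadraticAlgebra.ext ?_ ?_ <;> simp [cd, one, QuadraticAlgebra.re_one, QuadraticAlgebra.im_one] <;> ring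
  have hsmul1 : ∀ (c : F) (x : V F), cd 1 x (c • one) = c • x := fun c x => by
    funext i
    fin_cases i <;> refine QuadraticAlgebra.ext ?_ ?_ <;> simp [cd, one, QuadraticAlgebra.re_one, QuadraticAlgebra.im_one] <;> ring
  have him : ∀ x y : V F, cd 1 x x = -one → cd 1 y y = -one → cd 1 x y = -cd 1 y x → (x 0).re = 0 := by
    intro x y hx hy hxy
    by_contra ha
    rw [cd_self, sub_eq_iff_eq_add, ← neg_one_smul F (one : V F), ← add_smul] at hx
    obtain ⟨c, rfl⟩ : ∃ c : F, x = c • one := ⟨(2 * (x 0).re)⁻¹ * (-1 + Nv x), by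
      conv_lhs => rw [← inv_smul_smul₀ (mul_ne_zero h2 ha) x, hx, smul_smul]⟩
    rw [hsmul0, hsmul1, eq_neg_iff_add_eq_zero, ← add_smul, ← two_mul] at hxy
    have hc : c ≠ 0 := fun h => ha (by simp [h])
    rw [smul_eq_zero_iff_right (mul_ne_zero h2 hc)] at hxy
    subst hxy
    refine hne (hy.symm.trans ?_)
    rw [show (0 : V F) = (0 : F) • one from (zero_smul F _).symm, hsmul0, zero_smul, zero_smul]
  have hN : ∀ x : V F, (x 0).re = 0 → cd 1 x x = -one → Nv x = 1 := fun x hx h => by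
    rw [hsq x hx, neg_inj] at h
    refine sub_eq_zero.1 (hone _ ?_)
    rw [sub_smul, one_smul, h, sub_self]
  constructor
  · rintro ⟨hz, hw, hzw⟩
    have hz0 := him z w hz hw hzw
    have hw0 := him w z hw hz (by rw [hzw, neg_neg])
    refine ⟨⟨hz0, hN z hz0 hz⟩, ⟨hw0, hN w hw0 hw⟩, hone _ ?_⟩
    have h := cd_anti z w hz0 hw0
    rw [hzw, neg_add_cancel, eq_comm, neg_eq_zero] at h
    exact h
  · rintro ⟨⟨hz, hzN⟩, ⟨hw, hwN⟩, hB⟩
    refine ⟨by rw [hsq z hz, hzN, one_smul], by rw [hsq w hw, hwN, one_smul], ?_⟩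
    rw [eq_neg_iff_add_eq_zero, cd_anti z w hz hw, hB, zero_smul, neg_zero]

/-- A basic triple, algebraically. -/
def IsTriple (p : V F × V F × V F) : Prop :=
  (cd 1 p.1 p.1 = -one ∧ cd 1 p.2.1 p.2.1 = -one ∧ cd 1 p.2.2 p.2.2 = -one) ∧
    cd 1 p.1 p.2.1 = -cd 1 p.2.1 p.1 ∧ cd 1 p.1 p.2.2 = -cd 1 p.2.2 p.1 ∧
    cd 1 p.2.1 p.2.2 = -cd 1 p.2.2 p.2.1 ∧ cd 1 (cd 1 p.1 p.2.1) p.2.2 = -cd 1 p.2.2 (cd 1 p.1 p.2.1)

theorem third_props (h2 : (2 : F) ≠ 0) {x y : V F} (hx : (x 0).re = 0 ∧ Nv x = 1) (hy : (y 0).re = 0 ∧ Nv y = 1)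
    (hB : Bv x y = 0) :
    (((cd 1 x y) 0).re = 0 ∧ Nv (cd 1 x y) = 1) ∧ Bv (cd 1 x y) x = 0 ∧ Bv (cd 1 x y) y = 0 := by
  refine ⟨⟨?_, by rw [Nv_cd, hx.2, hy.2, one_mul]⟩, ?_, ?_⟩
  · have h := re_cd x y hx.1 hy.1
    rw [hB, neg_zero] at h
    exact (mul_eq_zero.1 h).resolve_left h2
  · conv_lhs => arg 2; rw [← cd_one x]
    rw [Bv_cd_left, Bv_comm, Bv_one, hy.1, mul_zero, mul_zero]
  · conv_lhs => arg 2; rw [← one_cd y]
    rw [Bv_cd_right, Bv_comm, Bv_one, hx.1, mul_zero, zero_mul]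

theorem isTriple_iff (h2 : (2 : F) ≠ 0) (x y l : V F) :
    IsTriple (x, y, l) ↔ ((x 0).re = 0 ∧ Nv x = 1) ∧
      (((y 0).re = 0 ∧ Nv y = 1) ∧ Bv x y = 0) ∧
      (((l 0).re = 0 ∧ Nv l = 1) ∧ Bv x l = 0 ∧ Bv y l = 0 ∧ Bv (cd 1 x y) l = 0) := by
  constructor
  · rintro ⟨⟨h1, h2', h3⟩, h4, h5, h6, h7⟩
    obtain ⟨hx, hy, hxy⟩ := (pair_iff h2 x y).1 ⟨h1, h2', h4⟩
    obtain ⟨-, hl, hxl⟩ := (pair_iff h2 x l).1 ⟨h1, h3, h5⟩
    obtain ⟨-, -, hyl⟩ := (pair_iff h2 y l).1 ⟨h2', h3, h6⟩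
    have hz := third_props h2 hx hy hxy
    refine ⟨hx, ⟨hy, hxy⟩, hl, hxl, hyl, ?_⟩
    have hzz : cd 1 (cd 1 x y) (cd 1 x y) = -one := by
      rw [cd_self, hz.1.1, hz.1.2, mul_zero, zero_smul, zero_sub, one_smul]
    exact ((pair_iff h2 _ l).1 ⟨hzz, h3, h7⟩).2.2
  · rintro ⟨hx, ⟨hy, hxy⟩, hl, hxl, hyl, hzl⟩
    obtain ⟨a1, a2, a3⟩ := (pair_iff h2 x y).2 ⟨hx, hy, hxy⟩
    obtain ⟨-, b2, b3⟩ := (pair_iff h2 x l).2 ⟨hx, hl, hxl⟩
    obtain ⟨-, -, c3⟩ := (pair_iff h2 y l).2 ⟨hy, hl, hyl⟩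
    obtain ⟨-, -, d3⟩ := (pair_iff h2 _ l).2 ⟨(third_props h2 hx hy hxy).1, hl, hzl⟩
    exact ⟨⟨a1, a2, b2⟩, a3, b3, c3, d3⟩

variable [Fintype F]

theorem card_sphere_perp (h2 : (2 : F) ≠ 0) {r n : ℕ} (hr : n + r = 8) (u : Fin r → V F)
    (hu : ∀ i, Nv (u i) = 1) (horth : ∀ i j, i ≠ j → Bv (u i) (u j) = 0) :
    Nat.card {v : V F // (∀ i, Bv (u i) v = 0) ∧ Nv v = 1} = sphere n (1 : F) := by
  have key : ∀ (N : ℕ) (hN : N = n + r) (u' : Fin r → Fin N → F), (∀ i, onesQ F N (u' i) = 1) →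
      (∀ i j, i ≠ j → diagB (fun _ => (1 : F)) (u' i) (u' j) = 0) →
      Nat.card {v : Fin N → F // (∀ i, diagB (fun _ => (1 : F)) (u' i) v = 0) ∧ onesQ F N v = 1} =
        sphere n (1 : F) := by
    rintro N rfl u' h h'
    exact sphere_perp h2 r n u' h h'
  rw [← key 8 hr.symm (fun i => fl (u i)) hu horth]
  exact Nat.card_congr (fl.toEquiv.subtypeEquiv fun v => Iff.rfl)

theorem one_props : Nv (one : V F) = 1 ∧ ∀ z : V F, (z 0).re = 0 → Bv one z = 0 :=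
  ⟨by simp [Nv_eq, one, QuadraticAlgebra.re_one, QuadraticAlgebra.im_one], fun z hz => by rw [Bv_one, hz, mul_zero]⟩

theorem card_triples (h2 : (2 : F) ≠ 0) :
    Nat.card {p : V F × V F × V F // IsTriple p} =
      sphere 7 (1 : F) * sphere 6 (1 : F) * sphere 4 (1 : F) := by
  classical
  haveI : Finite (V F) := Finite.of_equiv _ (fl (F := F)).toEquiv.symm
  haveI := Fintype.ofFinite (V F)
  have h0 : ∀ z : V F, (z 0).re = 0 ↔ Bv one z = 0 := fun z => by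
    rw [Bv_one, mul_eq_zero]; exact ⟨Or.inr, fun h => h.resolve_left h2⟩
  let e : {p : V F × V F × V F // IsTriple p} ≃
      Σ x : {x : V F // (x 0).re = 0 ∧ Nv x = 1}, Σ y : {y : V F // ((y 0).re = 0 ∧ Nv y = 1) ∧ Bv x.1 y = 0},
        {l : V F // ((l 0).re = 0 ∧ Nv l = 1) ∧ Bv x.1 l = 0 ∧ Bv y.1 l = 0 ∧ Bv (cd 1 x.1 y.1) l = 0} :=
    { toFun := fun p => ⟨⟨p.1.1, ((isTriple_iff h2 p.1.1 p.1.2.1 p.1.2.2).1 p.2).1⟩,
        ⟨p.1.2.1, ((isTriple_iff h2 p.1.1 p.1.2.1 p.1.2.2).1 p.2).2.1⟩,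
        ⟨p.1.2.2, ((isTriple_iff h2 p.1.1 p.1.2.1 p.1.2.2).1 p.2).2.2⟩⟩
      invFun := fun s => ⟨(s.1.1, s.2.1.1, s.2.2.1), (isTriple_iff h2 _ _ _).2 ⟨s.1.2, s.2.1.2, s.2.2.2⟩⟩
      left_inv := fun p => rfl
      right_inv := fun s => rfl }
  have c1 : Nat.card {x : V F // (x 0).re = 0 ∧ Nv x = 1} = sphere 7 (1 : F) := by
    rw [← card_sphere_perp h2 (r := 1) (n := 7) rfl ![one] (fun i => by fin_cases i; simpa using one_props.1)
      (fun i j h => absurd (Subsingleton.elim i j) h)]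
    refine Nat.card_congr (Equiv.subtypeEquivRight fun z => ?_)
    simp [h0 z, Fin.forall_fin_one]
  have c2 : ∀ x : {x : V F // (x 0).re = 0 ∧ Nv x = 1},
      Nat.card {y : V F // ((y 0).re = 0 ∧ Nv y = 1) ∧ Bv x.1 y = 0} = sphere 6 (1 : F) := fun x => by
    have hx := one_props.2 x.1 x.2.1
    rw [← card_sphere_perp h2 (r := 2) (n := 6) rfl ![one, x.1]
      (fun i => by fin_cases i <;> simp [one_props.1, x.2.2])
      (fun i j h => by fin_cases i <;> fin_cases j <;> simp [hx, Bv_comm x.1 one, QuadraticAlgebra.re_one, QuadraticAlgebra.im_one] at h ⊢)]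
    refine Nat.card_congr (Equiv.subtypeEquivRight fun z => ?_)
    simp [h0 z, Fin.forall_fin_two, and_assoc]
    tauto
  have c3 : ∀ (x : {x : V F // (x 0).re = 0 ∧ Nv x = 1}) (y : {y : V F // ((y 0).re = 0 ∧ Nv y = 1) ∧ Bv x.1 y = 0}),
      Nat.card {l : V F // ((l 0).re = 0 ∧ Nv l = 1) ∧ Bv x.1 l = 0 ∧ Bv y.1 l = 0 ∧ Bv (cd 1 x.1 y.1) l = 0} =
        sphere 4 (1 : F) := fun x y => by
    obtain ⟨⟨hz, hzN⟩, hzx, hzy⟩ := third_props h2 x.2 y.2.1 y.2.2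
    have hx := one_props.2 x.1 x.2.1
    have hy := one_props.2 y.1 y.2.1.1
    have hzo := one_props.2 _ hz
    rw [← card_sphere_perp h2 (r := 4) (n := 4) rfl ![one, x.1, y.1, cd 1 x.1 y.1]
      (fun i => by fin_cases i <;> simp [one_props.1, x.2.2, y.2.1.2, hzN])
      (fun i j h => by
        fin_cases i <;> fin_cases j <;>
          simp [hx, hy, hzo, hzx, hzy, y.2.2, Bv_comm x.1 one, Bv_comm y.1 one, Bv_comm (cd 1 x.1 y.1) one,
            Bv_comm y.1 x.1, Bv_comm x.1 (cd 1 x.1 y.1), Bv_comm y.1 (cd 1 x.1 y.1), QuadraticAlgebra.re_one, QuadraticAlgebra.im_one] at h ⊢)]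
    refine Nat.card_congr (Equiv.subtypeEquivRight fun z => ?_)
    simp [h0 z, Fin.forall_fin_succ, and_assoc]
    tauto
  rw [Nat.card_congr e, Nat.card_sigma, Finset.sum_congr rfl fun x _ => by
    rw [Nat.card_sigma, Finset.sum_congr rfl fun y _ => c3 x y, Finset.sum_const, smul_eq_mul,
      Finset.card_univ, ← Nat.card_eq_fintype_card, c2 x], Finset.sum_const, smul_eq_mul, Finset.card_univ,
    ← Nat.card_eq_fintype_card, c1, mul_assoc]

omit [Fintype F] in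
theorem aut_one (e : ↥(autV F)) : (e : V F ≃ₗ[F] V F) one = one := by
  have h := e.2 one ((e : V F ≃ₗ[F] V F).symm one)
  rw [one_cd, LinearEquiv.apply_symm_apply, cd_one] at h
  exact h.symm

omit [Fintype F] in
theorem aut_neg_one (e : ↥(autV F)) : (e : V F ≃ₗ[F] V F) (-one) = -one := by rw [map_neg, aut_one]

omit [Fintype F] in
theorem triple_map (e : ↥(autV F)) {p : V F × V F × V F} (h : IsTriple p) :
    IsTriple ((e : V F ≃ₗ[F] V F) p.1, (e : V F ≃ₗ[F] V F) p.2.1, (e : V F ≃ₗ[F] V F) p.2.2) := by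
  obtain ⟨⟨h1, h2, h3⟩, h4, h5, h6, h7⟩ := h
  have k := fun z w => (e.2 z w).symm
  refine ⟨⟨?_, ?_, ?_⟩, ?_, ?_, ?_, ?_⟩ <;> simp only [k, ← map_neg]
  · rw [h1, aut_neg_one]
  · rw [h2, aut_neg_one]
  · rw [h3, aut_neg_one]
  · rw [h4]
  · rw [h5]
  · rw [h6]
  · rw [h7]

instance : MulAction ↥(autV F) {p : V F × V F × V F // IsTriple p} where
  smul e p := ⟨((e : V F ≃ₗ[F] V F) p.1.1, (e : V F ≃ₗ[F] V F) p.1.2.1, (e : V F ≃ₗ[F] V F) p.1.2.2), triple_map e p.2⟩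
  one_smul _ := rfl
  mul_smul _ _ _ := rfl

theorem triple_free (h2 : (2 : F) ≠ 0) (p : {p : V F × V F × V F // IsTriple p}) :
    MulAction.stabilizer ↥(autV F) p = ⊥ := by
  rw [eq_bot_iff]
  intro e he
  obtain ⟨⟨x, y, l⟩, hp⟩ := p
  have he' := congrArg Subtype.val (MulAction.mem_stabilizer_iff.1 he)
  have ex : (e : V F ≃ₗ[F] V F) x = x := congrArg Prod.fst he'
  have ey : (e : V F ≃ₗ[F] V F) y = y := congrArg (fun q => q.2.1) he'
  have el : (e : V F ≃ₗ[F] V F) l = l := congrArg (fun q => q.2.2) he'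
  obtain ⟨hx, ⟨hy, hxy⟩, hl, hxl, hyl, hzl⟩ := (isTriple_iff h2 x y l).1 hp
  obtain ⟨⟨hz, hzN⟩, hzx, hzy⟩ := third_props h2 hx hy hxy
  set z := cd 1 x y with hzdef
  have ez : (e : V F ≃ₗ[F] V F) z = z := by rw [hzdef, e.2, ex, ey]
  let H : Fin 4 → V F := ![one, x, y, z]
  have hHN : ∀ i, Nv (H i) = 1 := fun i => by fin_cases i <;> simp [H, one_props.1, hx.2, hy.2, hzN]
  have hH : ∀ i j, i ≠ j → Bv (H i) (H j) = 0 := fun i j h => by
    fin_cases i <;> fin_cases j <;>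
      simp [H, one_props.2 x hx.1, one_props.2 y hy.1, one_props.2 z hz, hzx, hzy, hxy, Bv_comm x one,
        Bv_comm y one, Bv_comm z one, Bv_comm y x, Bv_comm x z, Bv_comm y z, QuadraticAlgebra.re_one, QuadraticAlgebra.im_one] at h ⊢
  -- the products of the quaternion part
  have p11 : cd 1 x x = -one := ((pair_iff h2 x y).2 ⟨hx, hy, hxy⟩).1
  have p22 : cd 1 y y = -one := ((pair_iff h2 x y).2 ⟨hx, hy, hxy⟩).2.1
  have p33 : cd 1 z z = -one := ((pair_iff h2 z x).2 ⟨⟨hz, hzN⟩, hx, hzx⟩).1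
  have p21 : cd 1 y x = -z := by rw [((pair_iff h2 y x).2 ⟨hy, hx, (Bv_comm y x).trans hxy⟩).2.2]
  have p13 : cd 1 x z = -y := by rw [hzdef, alt_left x y hx.1, hx.2, one_smul]
  have p32 : cd 1 z y = -x := by rw [hzdef, alt_right y x hy.1, hy.2, one_smul]
  have p31 : cd 1 z x = y := by rw [((pair_iff h2 z x).2 ⟨⟨hz, hzN⟩, hx, hzx⟩).2.2, p13, neg_neg]
  have p23 : cd 1 y z = x := by rw [((pair_iff h2 y z).2 ⟨hy, ⟨hz, hzN⟩, (Bv_comm y z).trans hzy⟩).2.2, p32, neg_neg]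
  have hol : Bv one l = 0 := one_props.2 l hl.1
  have hcross : ∀ i j, Bv (H i) (cd 1 (H j) l) = 0 := fun i j => by
    fin_cases j
    · show Bv (H i) (cd 1 one l) = 0
      rw [one_cd]
      fin_cases i <;> simp [H, hol, hxl, hyl, hzl]
    · show Bv (H i) (cd 1 x l) = 0
      rw [Bv_adj _ _ _ hx.1]
      fin_cases i <;> simp [H, cd_one, p11, ← hzdef, p13, Bv_neg, hol, hxl, hyl, hzl]
    · show Bv (H i) (cd 1 y l) = 0
      rw [Bv_adj _ _ _ hy.1]
      fin_cases i <;> simp [H, cd_one, p21, p22, p23, Bv_neg, hol, hxl, hyl, hzl]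
    · show Bv (H i) (cd 1 z l) = 0
      rw [Bv_adj _ _ _ hz]
      fin_cases i <;> simp [H, cd_one, p31, p32, p33, Bv_neg, hol, hxl, hyl, hzl]
  let b : Fin 4 ⊕ Fin 4 → V F := Sum.elim H fun i => cd 1 (H i) l
  have hbN : ∀ k, Bv (b k) (b k) = 2 := by
    rintro (i | i)
    · show Bv (H i) (H i) = 2
      rw [Bv_self, hHN, mul_one]
    · show Bv (cd 1 (H i) l) (cd 1 (H i) l) = 2
      rw [Bv_self, Nv_cd, hHN, hl.2, one_mul, mul_one]
  have hb : ∀ k k', k ≠ k' → Bv (b k) (b k') = 0 := by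
    rintro (i | i) (j | j) h
    · exact hH i j fun e => h (congrArg Sum.inl e)
    · exact hcross i j
    · exact (Bv_comm _ _).trans (hcross j i)
    · show Bv (cd 1 (H i) l) (cd 1 (H j) l) = 0
      rw [Bv_cd_right, hH i j fun e => h (congrArg Sum.inr e), zero_mul]
  have hli : LinearIndependent F b := by
    rw [Fintype.linearIndependent_iff]
    intro c hc k
    have h1 := congrArg (fun v => diagB (fun _ : Fin 8 => (1 : F)) (fl (b k)) (fl v)) hc
    simp only [map_sum, map_smul, map_zero] at h1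
    rw [Finset.sum_eq_single k (fun j _ hj => by
      rw [show diagB (fun _ : Fin 8 => (1 : F)) (fl (b k)) (fl (b j)) = Bv (b k) (b j) from rfl,
        hb k j (Ne.symm hj), smul_zero]) (fun h => absurd (Finset.mem_univ k) h)] at h1
    rw [show diagB (fun _ : Fin 8 => (1 : F)) (fl (b k)) (fl (b k)) = Bv (b k) (b k) from rfl, hbN,
      smul_eq_mul] at h1
    exact (mul_eq_zero.1 h1).resolve_right h2
  have htop := hli.span_eq_top_of_card_eq_finrank' (by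
    rw [(fl (F := F)).finrank_eq, Module.finrank_fintype_fun_eq_card]; simp)
  rw [Subgroup.mem_bot]
  refine Subtype.ext (LinearEquiv.toLinearMap_injective (LinearMap.ext_on_range htop fun k => ?_))
  show (e : V F ≃ₗ[F] V F) (b k) = b k
  have eH : ∀ i, (e : V F ≃ₗ[F] V F) (H i) = H i := fun i => by fin_cases i <;> simp [H, aut_one, ex, ey, ez]
  rcases k with i | i
  · exact eH i
  · show (e : V F ≃ₗ[F] V F) (cd 1 (H i) l) = cd 1 (H i) l
    rw [e.2, eH, el]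

theorem finite_autV : Finite ↥(autV F) := by
  haveI : Finite (V F) := Finite.of_equiv _ (fl (F := F)).toEquiv.symm
  exact Finite.of_injective (fun e : ↥(autV F) => ((e : V F ≃ₗ[F] V F) : V F → V F))
    fun a b h => Subtype.ext (DFunLike.coe_injective h)

theorem card_autV_dvd (h2 : (2 : F) ≠ 0) :
    Nat.card ↥(autV F) ∣ sphere 7 (1 : F) * sphere 6 (1 : F) * sphere 4 (1 : F) := by
  rw [← card_triples h2,
    Nat.card_congr (MulAction.selfEquivOrbitsQuotientProd (G := ↥(autV F))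
      (X := {p : V F × V F × V F // IsTriple p}) fun p => triple_free h2 p), Nat.card_prod]
  exact Dvd.intro_left _ rfl

end Cfsg.Lib.H3.SylTwoG2
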