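import Cfsg.Prelude.Def_G2
import Mathlib.Algebra.QuadraticAlgebra.Basic
import Mathlib.Algebra.Star.Unitary

/-!
# The octonions as four copies of `F[i]`, and some of their automorphisms

For `x ^ 2 + y ^ 2 = -1` the Zorn algebra is isomorphic to the Cayley algebra on four copies of `C = F[i]`;
multiplying the coordinates by `1, t, r, t r` for `t, r` of norm one, conjugating all of them, and exchanging
the middle two coordinates are automorphisms.
-/

set_option autoImplicit false

namespace Cfsg.Lib.H3.SylTwoG2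

variable {F : Type*} [Field F]

/-- The algebra `F[i]`, `i ^ 2 = -1`. -/
abbrev Cx (F : Type*) [Field F] := QuadraticAlgebra F (-1) 0

/-- The space of the model. -/
abbrev V (F : Type*) [Field F] := Fin 4 → Cx F

/-- The Cayley product with parameter `n`. -/
def cd (n : F) (z w : V F) : V F :=
  ![z 0 * w 0 - z 1 * star (w 1) - n • (star (w 2) * z 2 + w 3 * star (z 3)),
    z 0 * w 1 + z 1 * star (w 0) - n • (star (w 2) * z 3 - w 3 * star (z 2)),
    w 2 * z 0 - w 3 * star (z 1) + z 2 * star (w 0) + z 3 * star (w 1),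
    w 2 * z 1 + w 3 * star (z 0) - z 2 * w 1 + z 3 * w 0]

/-- The coordinates in Zorn's algebra. -/
def zl (x y : F) : V F →ₗ[F] (Fin 8 → F) where
  toFun z :=
    ![(z 0).re + ((z 2).re * x + y * (z 2).im),
      (z 0).im + ((z 2).re * y - x * (z 2).im),
      (z 1).re + (-x * (z 3).re - y * (z 3).im),
      -(z 1).im + (x * (z 3).im - y * (z 3).re),
      -(z 0).im + ((z 2).re * y - x * (z 2).im),
      -(z 1).re + (-x * (z 3).re - y * (z 3).im),
      (z 1).im + (x * (z 3).im - y * (z 3).re),
      (z 0).re - ((z 2).re * x + y * (z 2).im)]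
  map_add' z w := by
    funext i; fin_cases i <;> simp <;> ring
  map_smul' c z := by
    funext i; fin_cases i <;> simp <;> ring

set_option maxHeartbeats 4000000 in
theorem zl_mul (x y : F) (z w : V F) :
    zl x y (cd (-(x ^ 2 + y ^ 2)) z w) = Cfsg.Lie.zornMul (zl x y z) (zl x y w) := by
  funext i
  fin_cases i <;> simp [zl, cd, Cfsg.Lie.zornMul, Cfsg.Lie.dot3, Cfsg.Lie.cross3] <;> ring

theorem zl_bijective (h2 : (2 : F) ≠ 0) {x y : F} (h : x ^ 2 + y ^ 2 = -1) : Function.Bijective (zl x y) := by
  let inv : (Fin 8 → F) → V F := fun X =>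
    ![⟨(X 0 + X 7) / 2, (X 1 - X 4) / 2⟩,
      ⟨(X 2 - X 5) / 2, (X 6 - X 3) / 2⟩,
      ⟨-(x * ((X 0 - X 7) / 2) + y * ((X 1 + X 4) / 2)), -(y * ((X 0 - X 7) / 2) - x * ((X 1 + X 4) / 2))⟩,
      ⟨x * ((X 2 + X 5) / 2) + y * ((X 3 + X 6) / 2), y * ((X 2 + X 5) / 2) - x * ((X 3 + X 6) / 2)⟩]
  refine Function.bijective_iff_has_inverse.2 ⟨inv, fun z => ?_, fun X => ?_⟩
  · funext j
    refine QuadraticAlgebra.ext ?_ ?_ <;> fin_cases j <;> simp [inv, zl] <;> field_simp
    all_goals first
      | linear_combination (-(2 * (z 2).re)) * h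
      | linear_combination (-(2 * (z 2).im)) * h
      | linear_combination (-(2 * (z 3).re)) * h
      | linear_combination (-(2 * (z 3).im)) * h
      | ring
  · funext j
    fin_cases j <;> simp [inv, zl] <;> field_simp
    all_goals first
      | linear_combination (X 7 - X 0) * h
      | linear_combination (-(X 1 + X 4)) * h
      | linear_combination (-(X 2 + X 5)) * h
      | linear_combination (-(X 3 + X 6)) * h
      | linear_combination (X 0 - X 7) * h

/-- Multiplying the coordinates by `1, t, r, t r`. -/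
def tau (t r : unitary (Cx F)) : V F →ₗ[F] V F where
  toFun z := ![z 0, (t : Cx F) * z 1, (r : Cx F) * z 2, (t : Cx F) * (r : Cx F) * z 3]
  map_add' z w := by funext i; fin_cases i <;> simp [mul_add]
  map_smul' c z := by funext i; fin_cases i <;> simp [mul_smul_comm]

/-- Conjugating all coordinates. -/
def iot : V F →ₗ[F] V F where
  toFun z := fun i => star (z i)
  map_add' z w := by funext i; simp
  map_smul' c z := by funext i; refine QuadraticAlgebra.ext ?_ ?_ <;> simp

/-- Exchanging the middle coordinates. -/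
def swp : V F →ₗ[F] V F where
  toFun z := ![z 0, z 2, z 1, -z 3]
  map_add' z w := by funext i; fin_cases i <;> simp <;> ring
  map_smul' c z := by funext i; fin_cases i <;> simp

theorem tau_mul (t r : unitary (Cx F)) (z w : V F) : tau t r (cd 1 z w) = cd 1 (tau t r z) (tau t r w) := by
  have ht : (t : Cx F) * star (t : Cx F) = 1 := Unitary.mul_star_self_of_mem t.2
  have hr : (r : Cx F) * star (r : Cx F) = 1 := Unitary.mul_star_self_of_mem r.2
  funext i
  fin_cases i <;> simp [tau, cd]
  · linear_combination (z 1 * star (w 1) + (t : Cx F) * 0) * ht + (star (w 2) * z 2 + w 3 * star (z 3)) * hr +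
      ((r : Cx F) * star (r : Cx F) * w 3 * star (z 3)) * ht
  · linear_combination ((t : Cx F) * (star (w 2) * z 3 - w 3 * star (z 2))) * hr
  · linear_combination ((r : Cx F) * (w 3 * star (z 1) - z 3 * star (w 1))) * ht
  · ring

theorem iot_mul (z w : V F) : iot (cd 1 z w) = cd 1 (iot z) (iot w) := by
  funext i
  fin_cases i <;> simp [iot, cd, star_mul'] <;> ring

theorem swp_mul (z w : V F) : swp (cd 1 z w) = cd 1 (swp z) (swp w) := by
  funext i
  fin_cases i <;> simp [swp, cd] <;> ring

end Cfsg.Lib.H3.SylTwoG2
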