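import Cfsg.Agent.Lib.H3.SylTwoWreath
import Cfsg.Prelude.Def_Transfer

/-!
# A normal elementary abelian subgroup of every Sylow 2-subgroup
-/

set_option autoImplicit false

namespace Cfsg.Lib.H3.SylTwo

theorem normal_elem_sylow {G : Type*} [Group G] [Finite G] {v : ℕ} (T : Subgroup G) (hT : IsPGroup 2 ↥T)
    (hv : padicValNat 2 (Nat.card G) ≤ v) (hcard : 2 ^ v ≤ Nat.card ↥T) (E : Subgroup G)
    (hcomm : ∀ a ∈ E, ∀ b ∈ E, a * b = b * a) (hsq : ∀ a ∈ E, a * a = 1)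
    (hnorm : ∀ t ∈ T, ∀ a ∈ E, t * a * t⁻¹ ∈ E) (S : Sylow 2 G) :
    ∃ E' : Subgroup ↥(S : Subgroup G), E'.Normal ∧ Cfsg.IsElementaryAbelian 2 E' ∧ Nat.card ↥E ≤ Nat.card ↥E' := by
  haveI : Fact (Nat.Prime 2) := ⟨Nat.prime_two⟩
  have hN : T ≤ Subgroup.normalizer (E : Set G) := by
    intro t ht
    rw [Subgroup.mem_normalizer_iff]
    refine fun a => ⟨hnorm t ht a, fun h => ?_⟩
    have h' := hnorm t⁻¹ (inv_mem ht) _ h
    rwa [inv_inv, ← mul_assoc, ← mul_assoc, inv_mul_cancel, one_mul, inv_mul_cancel_right] at h'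
  have hE2 : IsPGroup 2 ↥E := fun a => ⟨1, Subtype.ext (by
    show (a : G) ^ 2 ^ 1 = 1
    rw [pow_one, sq, hsq _ a.2])⟩
  obtain ⟨W, hW⟩ := (IsPGroup.to_sup_of_normal_right' hT hE2 hN).exists_le_sylow
  have hTW : T = (W : Subgroup G) := by
    refine Subgroup.eq_of_le_of_card_ge (le_sup_left.trans hW) ?_
    rw [W.card_eq_multiplicity, Nat.factorization_def _ Nat.prime_two]
    exact (Nat.pow_le_pow_right two_pos hv).trans hcard
  have hET : E ≤ T := hTW.symm ▸ le_sup_right.trans hW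
  obtain ⟨g, hg⟩ := MulAction.exists_smul_eq G W S
  have hS : T.map (MulAut.conj g).toMonoidHom = (S : Subgroup G) := by
    rw [hTW, ← hg, Sylow.coe_subgroup_smul]; rfl
  set E₁ := E.map (MulAut.conj g).toMonoidHom with hE₁
  have hle : E₁ ≤ (S : Subgroup G) := hS ▸ Subgroup.map_mono hET
  refine ⟨E₁.subgroupOf (S : Subgroup G), ⟨fun a ha s => ?_⟩, ⟨⟨⟨?_⟩⟩, ?_⟩, ?_⟩
  · obtain ⟨a₀, ha₀, e⟩ := ha
    have hs : (s : G) ∈ T.map (MulAut.conj g).toMonoidHom := hS.symm ▸ s.2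
    obtain ⟨t, ht, e'⟩ := hs
    refine ⟨t * a₀ * t⁻¹, hnorm t ht a₀ ha₀, ?_⟩
    rw [map_mul, map_mul, map_inv, e, e']
    rfl
  · rintro ⟨x, x₀, hx₀, e⟩ ⟨y, y₀, hy₀, e'⟩
    refine Subtype.ext (Subtype.ext ?_)
    show (x : G) * y = y * x
    rw [show (x : G) = _ from e.symm, show (y : G) = _ from e'.symm, ← map_mul, ← map_mul, hcomm _ hx₀ _ hy₀]
  · rintro a ⟨a₀, ha₀, e⟩
    refine Subtype.ext ?_
    show (a : G) ^ 2 = 1
    rw [show (a : G) = _ from e.symm, ← map_pow, sq, hsq _ ha₀, map_one]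
  · rw [Nat.card_congr (Subgroup.subgroupOfEquivOfLe hle).toEquiv, hE₁,
      Subgroup.card_map_of_injective (MulAut.conj g).injective]

end Cfsg.Lib.H3.SylTwo
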