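import Cfsg.Agent.Lib.H3.SylTwoGen
import Cfsg.Agent.Lib.H3.SylTwoCount
import Cfsg.Agent.Lib.H3.SylTwoDiag
import Cfsg.Agent.Lib.FusionSys.AltWreath

/-!
# A Sylow 2-subgroup of an orthogonal group in odd characteristic

For a sum of `k ≥ 2` planes `x² + y²` and a diagonal rest, the subgroup generated by Sylow subgroups of the
plane groups, a Sylow subgroup of the permutations of the planes and the sign changes of the rest.
-/

set_option autoImplicit false

namespace Cfsg.Lib.H3.SylTwo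

open Module Cfsg.Lib.Linear.Orth
open scoped Matrix

variable {F : Type*} [Field F] {k : ℕ} {κ : Type} [Fintype κ] [DecidableEq κ]

/-- The plane `x² + y²`. -/
abbrev Q2 (F : Type*) [Field F] : (Fin 2 → F) → F := diagQ fun _ => 1

/-- The sum of `k` copies of the plane. -/
abbrev QJ (F : Type*) [Field F] (k : ℕ) : (Fin 2 × Fin k → F) → F := diagQ fun _ => 1

/-- The `i`-th part of a vector. -/
def part (v : Fin 2 × Fin k → F) (i : Fin k) : Fin 2 → F := fun a => v (a, i)

theorem qj_eq (v : Fin 2 × Fin k → F) : QJ F k v = ∑ i, Q2 F (part v i) := by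
  simp only [diagQ, part]
  rw [Fintype.sum_prod_type, Finset.sum_comm]

theorem blockDiag_mulVec (M : Fin k → Matrix (Fin 2) (Fin 2) F) (v : Fin 2 × Fin k → F) (a : Fin 2) (i : Fin k) :
    (Matrix.blockDiagonal M *ᵥ v) (a, i) = (M i *ᵥ part v i) a := by
  simp [Matrix.mulVec, dotProduct, Matrix.blockDiagonal_apply', Fintype.sum_prod_type, part, ite_mul]

/-- Block diagonal invertible matrices. -/
def blockGL : (Fin k → GL (Fin 2) F) →* GL (Fin 2 × Fin k) F :=
  (Units.map (Matrix.blockDiagonalRingHom (Fin 2) (Fin k) F).toMonoidHom).comp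
    (MulEquiv.piUnits (M := fun _ : Fin k => Matrix (Fin 2) (Fin 2) F)).symm.toMonoidHom

theorem blockGL_val (g : Fin k → GL (Fin 2) F) :
    (blockGL g).val = Matrix.blockDiagonal fun i => (g i).val := rfl

theorem blockGL_mem (g : Fin k → ↥(isometryGroup F (Q2 F))) :
    blockGL (fun i => (g i : GL (Fin 2) F)) ∈ isometryGroup F (QJ F k) := mem_iso.2 fun v => by
  rw [qj_eq, qj_eq]
  refine Finset.sum_congr rfl fun i _ => ?_
  rw [← mem_iso.1 (g i).2 (part v i)]
  congr 1
  funext a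
  rw [part, blockGL_val, blockDiag_mulVec]

/-- The product of the plane groups. -/
def blockI : (Fin k → ↥(isometryGroup F (Q2 F))) →* ↥(isometryGroup F (QJ F k)) :=
  ((blockGL (F := F)).comp (MonoidHom.compLeft (isometryGroup F (Q2 F)).subtype (Fin k))).codRestrict _ blockGL_mem

theorem blockI_act (g : Fin k → ↥(isometryGroup F (Q2 F))) (v : Fin 2 × Fin k → F) (a : Fin 2) (i : Fin k) :
    ((blockI g : ↥(isometryGroup F (QJ F k))) : GL (Fin 2 × Fin k) F).val.mulVec v (a, i) =
      ((g i : GL (Fin 2) F).val *ᵥ part v i) a := blockDiag_mulVec _ v a i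

/-- The permutation matrix of the planes. -/
def permMat (σ : Equiv.Perm (Fin k)) : Matrix (Fin 2 × Fin k) (Fin 2 × Fin k) F :=
  Matrix.of fun j j' => if j' = (j.1, σ⁻¹ j.2) then 1 else 0

theorem permMat_mulVec (σ : Equiv.Perm (Fin k)) (v : Fin 2 × Fin k → F) (a : Fin 2) (i : Fin k) :
    (permMat σ *ᵥ v) (a, i) = v (a, σ⁻¹ i) := by
  simp [permMat, Matrix.mulVec, dotProduct, ite_mul]

/-- Permuting the planes. -/
def permMatHom : Equiv.Perm (Fin k) →* Matrix (Fin 2 × Fin k) (Fin 2 × Fin k) F where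
  toFun := permMat
  map_one' := mat_ext fun v => funext fun ⟨a, i⟩ => by rw [permMat_mulVec, Matrix.one_mulVec]; simp
  map_mul' σ τ := mat_ext fun v => funext fun ⟨a, i⟩ => by
    rw [← Matrix.mulVec_mulVec, permMat_mulVec, permMat_mulVec, permMat_mulVec, mul_inv_rev, Equiv.Perm.mul_apply]

theorem permGL_mem (σ : Equiv.Perm (Fin k)) :
    (permMatHom (F := F)).toHomUnits σ ∈ isometryGroup F (QJ F k) := mem_iso.2 fun v => by
  rw [qj_eq, qj_eq]
  refine Fintype.sum_equiv σ⁻¹ _ _ fun i => congrArg _ (funext fun a => ?_)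
  exact permMat_mulVec σ v a i

/-- The permutations of the planes as isometries. -/
def permI : Equiv.Perm (Fin k) →* ↥(isometryGroup F (QJ F k)) :=
  (permMatHom (F := F)).toHomUnits.codRestrict _ permGL_mem

theorem permI_act (σ : Equiv.Perm (Fin k)) (v : Fin 2 × Fin k → F) (a : Fin 2) (i : Fin k) :
    ((permI σ : ↥(isometryGroup F (QJ F k))) : GL (Fin 2 × Fin k) F).val.mulVec v (a, i) = v (a, σ⁻¹ i) :=
  permMat_mulVec σ v a i

theorem perm_conj_block (σ : Equiv.Perm (Fin k)) (g : Fin k → ↥(isometryGroup F (Q2 F))) :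
    permI σ * blockI g * (permI σ)⁻¹ = blockI fun i => g (σ⁻¹ i) := by
  rw [← map_inv]
  refine Subtype.ext (gl_ext fun v => funext fun ⟨a, i⟩ => ?_)
  rw [Subgroup.coe_mul, Subgroup.coe_mul, mul_act, mul_act, permI_act, blockI_act, blockI_act]
  have hp : part (((permI σ⁻¹ : ↥(isometryGroup F (QJ F k))) : GL (Fin 2 × Fin k) F).val *ᵥ v) (σ⁻¹ i) =
      part v i := funext fun b => by
    show ((permI σ⁻¹ : ↥(isometryGroup F (QJ F k))) : GL (Fin 2 × Fin k) F).val.mulVec v (b, σ⁻¹ i) = v (b, i)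
    rw [permI_act]
    simp
  rw [hp]

theorem blockPerm_injective {g g' : Fin k → ↥(isometryGroup F (Q2 F))} {σ σ' : Equiv.Perm (Fin k)}
    (h : blockI g * permI σ = blockI g' * permI σ') : g = g' ∧ σ = σ' := by
  classical
  have key : ∀ (i l : Fin k) (u : Fin 2 → F),
      (g i : GL (Fin 2) F).val *ᵥ (if σ⁻¹ i = l then u else 0) =
        (g' i : GL (Fin 2) F).val *ᵥ (if σ'⁻¹ i = l then u else 0) := fun i l u => by
    have h1 := congrArg (fun x : ↥(isometryGroup F (QJ F k)) =>
      (x : GL (Fin 2 × Fin k) F).val *ᵥ fun j => if j.2 = l then u j.1 else 0) h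
    funext a
    have h2 := congrFun h1 (a, i)
    simp only [Subgroup.coe_mul, mul_act, blockI_act] at h2
    have hp : ∀ τ : Equiv.Perm (Fin k),
        part (((permI τ : ↥(isometryGroup F (QJ F k))) : GL (Fin 2 × Fin k) F).val *ᵥ
          fun j => if j.2 = l then u j.1 else 0) i = if τ⁻¹ i = l then u else 0 := fun τ => by
      funext b
      rw [part, permI_act]
      split_ifs <;> rfl
    rwa [hp, hp] at h2
  have hσ : ∀ i, σ⁻¹ i = σ'⁻¹ i := fun i => by
    by_contra hne
    have h1 := key i (σ⁻¹ i) (Pi.single 0 1)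
    rw [if_pos rfl, if_neg (Ne.symm hne), Matrix.mulVec_zero] at h1
    exact act_ne_zero (fun h => one_ne_zero (α := F) (by simpa using congrFun h 0)) h1
  have hσ' : σ = σ' := inv_injective (Equiv.ext hσ)
  refine ⟨funext fun i => Subtype.ext (gl_ext fun u => ?_), hσ'⟩
  have h1 := key i (σ⁻¹ i) u
  rwa [if_pos rfl, if_pos (hσ i).symm] at h1

/-! ## The plane group -/

theorem q2_apply (v : Fin 2 → F) : Q2 F v = v 0 ^ 2 + v 1 ^ 2 := by simp [diagQ, Fin.sum_univ_two]

theorem plane_entries (g : ↥(isometryGroup F (Q2 F))) :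
    let M := (g : GL (Fin 2) F).val
    M 0 0 ^ 2 + M 1 0 ^ 2 = 1 ∧ M 0 1 ^ 2 + M 1 1 ^ 2 = 1 ∧ 2 * (M 0 0 * M 0 1 + M 1 0 * M 1 1) = 0 := by
  intro M
  have h : ∀ x y : F, (M 0 0 * x + M 0 1 * y) ^ 2 + (M 1 0 * x + M 1 1 * y) ^ 2 = x ^ 2 + y ^ 2 := fun x y => by
    have h0 := mem_iso.1 g.2 ![x, y]
    simpa [q2_apply, Matrix.mulVec, dotProduct, Fin.sum_univ_two] using h0
  exact ⟨by linear_combination h 1 0, by linear_combination h 0 1,
    by linear_combination h 1 1 - h 1 0 - h 0 1⟩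

theorem plane_of_det (h2 : (2 : F) ≠ 0) (g : ↥(isometryGroup F (Q2 F))) (e : F)
    (he : (g : GL (Fin 2) F).val.det = e) :
    (g : GL (Fin 2) F).val 0 1 = -e * (g : GL (Fin 2) F).val 1 0 ∧
      (g : GL (Fin 2) F).val 1 1 = e * (g : GL (Fin 2) F).val 0 0 := by
  obtain ⟨h1, -, h3⟩ := plane_entries g
  have h3' := (mul_eq_zero.1 h3).resolve_left h2
  rw [Matrix.det_fin_two] at he
  constructor
  · linear_combination (-((g : GL (Fin 2) F).val 0 1)) * h1 + (g : GL (Fin 2) F).val 0 0 * h3' -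
      (g : GL (Fin 2) F).val 1 0 * he
  · linear_combination (-((g : GL (Fin 2) F).val 1 1)) * h1 + (g : GL (Fin 2) F).val 1 0 * h3' +
      (g : GL (Fin 2) F).val 0 0 * he

theorem plane_invol (h2 : (2 : F) ≠ 0) (g : ↥(isometryGroup F (Q2 F)))
    (he : (g : GL (Fin 2) F).val.det = -1) : g * g = 1 := by
  obtain ⟨ha, hb⟩ := plane_of_det h2 g _ he
  obtain ⟨h1, -, -⟩ := plane_entries g
  refine Subtype.ext (Units.ext ?_)
  show (g : GL (Fin 2) F).val * (g : GL (Fin 2) F).val = 1
  refine Matrix.ext fun i j => ?_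
  fin_cases i <;> fin_cases j <;> simp [Matrix.mul_apply, Fin.sum_univ_two, ha, hb]
  all_goals first
    | linear_combination h1
    | linear_combination -h1
    | ring

/-- A point of the circle and a sign as an isometry of the plane. -/
def planeMat (z : {z : F × F // z.1 ^ 2 + z.2 ^ 2 = 1}) (e : ℤˣ) : Matrix (Fin 2) (Fin 2) F :=
  !![z.1.1, -((e : ℤ) : F) * z.1.2; z.1.2, ((e : ℤ) : F) * z.1.1]

theorem planeMat_sq (e : ℤˣ) : ((e : ℤ) : F) * ((e : ℤ) : F) = 1 := by
  rcases Int.units_eq_one_or e with rfl | rfl <;> simp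

theorem card_plane (h2 : (2 : F) ≠ 0) [Fintype F] :
    Nat.card ↥(isometryGroup F (Q2 F)) = Nat.card {z : F × F // z.1 ^ 2 + z.2 ^ 2 = 1} * 2 := by
  have hmul : ∀ z e, planeMat (F := F) z e * (planeMat z e)ᵀ = 1 := fun z e => by
    refine Matrix.ext fun i j => ?_
    have := planeMat_sq (F := F) e
    fin_cases i <;> fin_cases j <;> simp [planeMat, Matrix.mul_apply, Fin.sum_univ_two]
    · linear_combination z.2 + z.1.2 ^ 2 * this
    · linear_combination -(z.1.1 * z.1.2) * this
    · linear_combination -(z.1.1 * z.1.2) * this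
    · linear_combination z.2 + z.1.1 ^ 2 * this
  have hmem : ∀ z e, toGL (planeMat (F := F) z e) ∈ isometryGroup F (Q2 F) := fun z e => mem_iso.2 fun v => by
    rw [toGL_val (hmul z e), q2_apply, q2_apply]
    simp [planeMat, Matrix.mulVec, dotProduct, Fin.sum_univ_two]
    linear_combination (v 0 ^ 2 + v 1 ^ 2) * z.2 + v 1 ^ 2 * (z.1.1 ^ 2 + z.1.2 ^ 2) * planeMat_sq (F := F) e
  let Φ : {z : F × F // z.1 ^ 2 + z.2 ^ 2 = 1} × ℤˣ → ↥(isometryGroup F (Q2 F)) :=
    fun p => ⟨toGL (planeMat p.1 p.2), hmem _ _⟩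
  have hΦ : Function.Bijective Φ := by
    constructor
    · rintro ⟨z, e⟩ ⟨z', e'⟩ h
      have h1 : planeMat z e = planeMat z' e' := by
        rw [← toGL_val (hmul z e), ← toGL_val (hmul z' e')]
        exact congrArg (fun x : ↥(isometryGroup F (Q2 F)) => (x : GL (Fin 2) F).val) h
      have hz : z = z' := Subtype.ext (Prod.ext (congrFun (congrFun h1 0) 0) (congrFun (congrFun h1 1) 0))
      subst hz
      have hd := congrArg Matrix.det h1
      simp [planeMat, Matrix.det_fin_two] at hd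
      have hee : ((e : ℤ) : F) = ((e' : ℤ) : F) := by
        linear_combination hd + (((e' : ℤ) : F) - ((e : ℤ) : F)) * z.2
      rcases Int.units_eq_one_or e with rfl | rfl <;> rcases Int.units_eq_one_or e' with rfl | rfl
      · rfl
      · exact absurd (by simpa using hee : (1 : F) = -1) (fun h => h2 (by linear_combination h))
      · exact absurd (by simpa using hee : (-1 : F) = 1) (fun h => h2 (by linear_combination -h))
      · rfl
    · intro g
      obtain ⟨B, C⟩ : ∃ B : LinearMap.BilinForm F (Fin 2 → F), Space (Q2 F) B :=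
        ⟨_, diag_space h2 fun _ => one_ne_zero⟩
      have hd := det_sq C g.2
      obtain ⟨h1, -, -⟩ := plane_entries g
      obtain ⟨e, he⟩ : ∃ e : ℤˣ, (g : GL (Fin 2) F).val.det = ((e : ℤ) : F) := by
        rcases hd with h | h
        · exact ⟨1, by simpa using h⟩
        · exact ⟨-1, by simpa using h⟩
      obtain ⟨ha, hb⟩ := plane_of_det h2 g _ he
      refine ⟨(⟨((g : GL (Fin 2) F).val 0 0, (g : GL (Fin 2) F).val 1 0), h1⟩, e), Subtype.ext (Units.ext ?_)⟩
      show (toGL _).val = _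
      rw [toGL_val (hmul _ _)]
      refine Matrix.ext fun i j => ?_
      fin_cases i <;> fin_cases j <;> simp [planeMat, ha, hb]
  rw [← Nat.card_eq_of_bijective Φ hΦ, Nat.card_prod, Nat.card_eq_fintype_card (α := ℤˣ), Fintype.card_units_int]

theorem two_pow_dvd_card_plane [Fintype F] (hF : Odd (Fintype.card F)) :
    twoT (Fintype.card F) ≤ padicValNat 2 (Nat.card ↥(isometryGroup F (Q2 F))) := by
  classical
  haveI : Fact (Nat.Prime 2) := ⟨Nat.prime_two⟩
  have h2 := Cfsg.Lib.Linear.Orth.two_ne_zero_of_odd_card hF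
  have hq1 : 1 < Fintype.card F := Fintype.one_lt_card
  have hT : twoT (Fintype.card F) = padicValNat 2 (Fintype.card F + 1) + padicValNat 2 (Fintype.card F - 1) := by
    rw [← padicValNat.mul (by omega) (by omega), ← Nat.sq_sub_sq, one_pow, twoT]
  have hiff := isSquare_neg_one_pow_iff hF 1
  rw [pow_one, pow_one] at hiff
  have hodd := Nat.odd_iff.1 hF
  rw [card_plane h2]
  by_cases hs : IsSquare (-1 : F)
  · obtain ⟨i, hi⟩ := hs
    have hN : Nat.card {z : F × F // z.1 ^ 2 + z.2 ^ 2 = 1} = Fintype.card F - 1 := by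
      rw [← Fintype.card_units (α := F), ← Nat.card_eq_fintype_card]
      refine Nat.card_congr (Equiv.ofBijective (fun z => Units.mkOfMulEqOne (z.1.1 + i * z.1.2) (z.1.1 - i * z.1.2)
        (by linear_combination z.2 + z.1.2 ^ 2 * hi)) ⟨fun z z' h => ?_, fun u => ?_⟩)
      · have e1 : z.1.1 + i * z.1.2 = z'.1.1 + i * z'.1.2 := congrArg Units.val h
        have e2 : z.1.1 - i * z.1.2 = z'.1.1 - i * z'.1.2 := congrArg (fun u : Fˣ => (u⁻¹ : Fˣ).val) h
        have hx : z.1.1 = z'.1.1 := mul_left_cancel₀ h2 (by linear_combination e1 + e2)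
        have hi0 : i ≠ 0 := fun h => by rw [h, mul_zero, neg_eq_zero] at hi; exact one_ne_zero hi
        exact Subtype.ext (Prod.ext hx (mul_left_cancel₀ hi0 (by linear_combination e1 - hx)))
      · have hu : (u : F) * (u⁻¹ : Fˣ).val = 1 := Units.mul_inv u
        refine ⟨⟨(((u : F) + (u⁻¹ : Fˣ).val) / 2, -i * ((u : F) - (u⁻¹ : Fˣ).val) / 2), ?_⟩, Units.ext ?_⟩
        · field_simp
          linear_combination 4 * hu - ((u : F) - (u⁻¹ : Fˣ).val) ^ 2 * hi
        · show ((u : F) + (u⁻¹ : Fˣ).val) / 2 + i * (-i * ((u : F) - (u⁻¹ : Fˣ).val) / 2) = u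
          field_simp
          linear_combination ((u : F) - (u⁻¹ : Fˣ).val) * hi
    have h14 := hiff.1 ⟨i, hi⟩
    rw [hN, padicValNat.mul (by omega) two_ne_zero, padicValNat.self one_lt_two, hT,
      val_of_mod_four (n := Fintype.card F + 1) (by omega)]
    omega
  · have hab : ∀ z₁ z₂ : F, z₁ ^ 2 + 0 * z₁ * z₂ + 1 * z₂ ^ 2 = 0 → z₁ = 0 ∧ z₂ = 0 := fun z₁ z₂ h => by
      by_cases hz : z₂ = 0
      · subst hz; exact ⟨by simpa using h, rfl⟩
      · refine absurd ⟨z₁ / z₂, ?_⟩ hs
        field_simp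
        linear_combination -h
    have hN := binary_fibre hab
    simp only [zero_mul, add_zero, one_mul, Nat.card_eq_fintype_card (α := F)] at hN
    have hN' : Nat.card {z : F × F // z.1 ^ 2 + z.2 ^ 2 = 1} = Fintype.card F + 1 := by exact_mod_cast hN
    have h34 : Fintype.card F % 4 = 3 := by
      have := mt hiff.2 hs
      omega
    rw [hN', padicValNat.mul (by omega) two_ne_zero, padicValNat.self one_lt_two, hT,
      val_of_mod_four (n := Fintype.card F - 1) (by omega)]

end Cfsg.Lib.H3.SylTwo
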