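import Cfsg.Agent.Lib.H3.SylTwoOrth
import Cfsg.Agent.Lib.H3.SylTwoGen

/-!
# Sylow 2-subgroups of the linear groups of a plane

The rotations of `2`-power order, an element inverting them, and a reflection normalizing both.
-/

set_option autoImplicit false

namespace Cfsg.Lib.H3.SylTwo

open Module Cfsg.Lib.Linear.Orth
open scoped Matrix commutatorElement

variable {F : Type*} [Field F]

/-- The invertible matrices commuting with the quarter turn. -/
def rotG : Subgroup (GL (Fin 2) F) where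
  carrier := {g | g.val 1 1 = g.val 0 0 ∧ g.val 0 1 = -g.val 1 0}
  one_mem' := by simp
  mul_mem' := fun {g h} hg hh => by
    simp only [Set.mem_setOf_eq, Units.val_mul, Matrix.mul_apply, Fin.sum_univ_two, hg.1, hg.2, hh.1, hh.2]
    exact ⟨by ring, by ring⟩
  inv_mem' := fun {g} hg => by
    simp only [Set.mem_setOf_eq, Matrix.coe_units_inv, Matrix.inv_def, Matrix.adjugate_fin_two, hg.1, hg.2,
      Matrix.smul_apply, smul_eq_mul, Matrix.of_apply, Matrix.cons_val_zero, Matrix.cons_val_one]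
    constructor <;> (simp; try ring)

theorem rot_comm {g h : GL (Fin 2) F} (hg : g ∈ rotG) (hh : h ∈ rotG) : Commute g h := by
  refine Units.ext (Matrix.ext fun i j => ?_)
  fin_cases i <;> fin_cases j <;> simp [Matrix.mul_apply, Fin.sum_univ_two, hg.1, hg.2, hh.1, hh.2] <;> ring

/-- The reflection in the first axis. -/
def reflX : GL (Fin 2) F :=
  ⟨!![1, 0; 0, -1], !![1, 0; 0, -1],
    Matrix.ext fun i j => by fin_cases i <;> fin_cases j <;> simp [Matrix.mul_apply, Fin.sum_univ_two],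
    Matrix.ext fun i j => by fin_cases i <;> fin_cases j <;> simp [Matrix.mul_apply, Fin.sum_univ_two]⟩

theorem reflX_sq : (reflX : GL (Fin 2) F) * reflX = 1 := Units.ext reflX.val_inv

theorem det_reflX : Matrix.GeneralLinearGroup.det (reflX : GL (Fin 2) F) = -1 :=
  Units.ext (by simp [reflX, Matrix.det_fin_two])

/-- The scalar matrices of the units. -/
def scal : Fˣ →* GL (Fin 2) F := Units.map (Matrix.scalar (Fin 2)).toMonoidHom

theorem scal_rot (a : Fˣ) : scal a ∈ rotG := by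
  show _ ∧ _
  simp [scal]

theorem scal_comm (a : Fˣ) (g : GL (Fin 2) F) : Commute (scal a) g :=
  Units.ext (by simp [scal, Matrix.scalar_apply, ← Matrix.smul_eq_diagonal_mul, ← Matrix.smul_eq_mul_diagonal])

/-- A rotation times its reflected image is its determinant. -/
theorem rot_refl {g : GL (Fin 2) F} (hg : g ∈ rotG) :
    reflX * g * reflX = scal (Matrix.GeneralLinearGroup.det g) * g⁻¹ := by
  rw [eq_mul_inv_iff_mul_eq]
  refine Units.ext (Matrix.ext fun i j => ?_)
  fin_cases i <;> fin_cases j <;>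
    simp [reflX, scal, Matrix.scalar_apply, Matrix.vecMul, Matrix.vecHead, Matrix.vecTail, dotProduct, Matrix.mul_apply, Fin.sum_univ_two, hg.1, hg.2, Matrix.det_fin_two] <;> ring

/-- The rotations of determinant one and `2`-power order. -/
def rotTwo : Subgroup (GL (Fin 2) F) where
  carrier := {g | g ∈ rotG ∧ Matrix.GeneralLinearGroup.det g = 1 ∧ ∃ n : ℕ, g ^ 2 ^ n = 1}
  one_mem' := ⟨one_mem _, map_one _, 0, one_pow _⟩
  mul_mem' := fun {g h} ⟨hg, hgd, n, hn⟩ ⟨hh, hhd, m, hm⟩ => ⟨mul_mem hg hh, by rw [map_mul, hgd, hhd, one_mul], n + m, by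
    rw [(rot_comm hg hh).mul_pow, pow_add, pow_mul, hn, one_pow, one_mul, mul_comm, pow_mul, hm, one_pow]⟩
  inv_mem' := fun {g} ⟨hg, hgd, n, hn⟩ => ⟨inv_mem hg, by rw [map_inv, hgd, inv_one], n, by rw [inv_pow, hn, inv_one]⟩

theorem isPGroup_rotTwo : IsPGroup 2 ↥(rotTwo (F := F)) := fun g => by
  obtain ⟨-, -, n, hn⟩ := g.2
  exact ⟨n, Subtype.ext hn⟩

variable [Fintype F]

theorem card_rotTwo (hF : Odd (Fintype.card F)) :
    2 ^ (twoT (Fintype.card F) - 1) ≤ Nat.card ↥(rotTwo (F := F)) := by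
  classical
  haveI : Fact (Nat.Prime 2) := ⟨Nat.prime_two⟩
  have h2 := Cfsg.Lib.Linear.Orth.two_ne_zero_of_odd_card hF
  set R : Subgroup (GL (Fin 2) F) := rotG ⊓ Matrix.GeneralLinearGroup.det.ker with hR
  have hmemR : ∀ z : {z : F × F // z.1 ^ 2 + z.2 ^ 2 = 1}, ∃ g ∈ R, g.val = !![z.1.1, -z.1.2; z.1.2, z.1.1] := by
    intro z
    refine ⟨Matrix.GeneralLinearGroup.mkOfDetNeZero !![z.1.1, -z.1.2; z.1.2, z.1.1] (by
      simp [Matrix.det_fin_two]; intro h; exact one_ne_zero (by linear_combination h - z.2)), ⟨?_, ?_⟩, rfl⟩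
    · exact ⟨by simp, by simp⟩
    · exact MonoidHom.mem_ker.2 (Units.ext (by simp [Matrix.det_fin_two]; linear_combination z.2))
  choose φ hφ hφv using hmemR
  have hφi : Function.Injective fun z => (⟨φ z, hφ z⟩ : ↥R) := fun z z' h => by
    have h1 : (φ z).val = (φ z').val := congrArg (fun x : ↥R => x.1.val) h
    rw [hφv, hφv] at h1
    exact Subtype.ext (Prod.ext (congrFun (congrFun h1 0) 0) (congrFun (congrFun h1 1) 0))
  have hφs : Function.Surjective fun z => (⟨φ z, hφ z⟩ : ↥R) := fun g => by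
    have hd := congrArg Units.val (MonoidHom.mem_ker.1 g.2.2)
    simp [Matrix.det_fin_two, g.2.1.1, g.2.1.2] at hd
    refine ⟨⟨(g.1.val 0 0, g.1.val 1 0), by linear_combination hd⟩, Subtype.ext (Units.ext ?_)⟩
    show (φ _).val = g.1.val
    rw [hφv]
    refine Matrix.ext fun i j => ?_
    fin_cases i <;> fin_cases j <;> simp [g.2.1.1, g.2.1.2]
  have hv := two_pow_dvd_card_plane hF
  rw [card_plane h2, Nat.card_eq_of_bijective _ ⟨hφi, hφs⟩, padicValNat.mul Nat.card_pos.ne' two_ne_zero,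
    padicValNat.self one_lt_two] at hv
  obtain ⟨P⟩ : Nonempty (Sylow 2 ↥R) := inferInstance
  have hP : 2 ^ (twoT (Fintype.card F) - 1) ≤ Nat.card ↥(P : Subgroup ↥R) := by
    rw [P.card_eq_multiplicity, Nat.factorization_def _ Nat.prime_two]
    exact Nat.pow_le_pow_right two_pos (by omega)
  refine hP.trans (Nat.card_le_card_of_injective
    (fun x => (⟨x.1.1, x.1.2.1, MonoidHom.mem_ker.1 x.1.2.2, ?_⟩ : ↥(rotTwo (F := F)))) fun x y h => ?_)
  · obtain ⟨n, hn⟩ := P.isPGroup' x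
    exact ⟨n, congrArg (fun z : ↥(P : Subgroup ↥R) => z.1.1) hn⟩
  · exact Subtype.ext (Subtype.ext (congrArg (fun z : ↥(rotTwo (F := F)) => z.1) h))

/-- A rotation of determinant `-1` and `2`-power order. -/
theorem exists_rot_neg (hF : Odd (Fintype.card F)) :
    ∃ u ∈ rotG (F := F), Matrix.GeneralLinearGroup.det u = -1 ∧ ∃ n : ℕ, u ^ 2 ^ n = 1 := by
  classical
  have h2 := Cfsg.Lib.Linear.Orth.two_ne_zero_of_odd_card hF
  have C2 : Space (Q2 F) (diagB fun _ : Fin 2 => (1 : F)) := diag_space h2 fun _ => one_ne_zero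
  obtain ⟨v, hv⟩ := exists_value C2 h2 (by simp) (neg_ne_zero.2 (one_ne_zero (α := F)))
  rw [q2_apply] at hv
  let u0 : GL (Fin 2) F := Matrix.GeneralLinearGroup.mkOfDetNeZero !![v 0, -v 1; v 1, v 0] (by
    simp [Matrix.det_fin_two]; intro h; exact one_ne_zero (α := F) (by linear_combination hv - h))
  have hu0 : u0 ∈ rotG := ⟨by simp [u0], by simp [u0]⟩
  have hd0 : Matrix.GeneralLinearGroup.det u0 = -1 :=
    Units.ext (by simp [u0, Matrix.det_fin_two]; linear_combination hv)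
  obtain ⟨e, o, ho, he⟩ := Nat.exists_eq_two_pow_mul_odd (orderOf_pos u0).ne'
  refine ⟨u0 ^ o, pow_mem hu0 _, by rw [map_pow, hd0, ho.neg_one_pow], e, ?_⟩
  rw [← pow_mul, mul_comm, ← he, pow_orderOf_eq_one]

/-- The Sylow 2-subgroups of `SL₂` and `GL₂`, `q ≡ 3 (mod 4)` for the latter. -/
theorem plane_groups (hF : Odd (Fintype.card F)) :
    ∃ (Q : Subgroup (GL (Fin 2) F)) (r : GL (Fin 2) F), IsPGroup 2 ↥Q ∧
      (∀ x ∈ Q, Matrix.GeneralLinearGroup.det x = 1) ∧ (∀ x ∈ Q, x * x ∈ ⁅Q, Q⁆) ∧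
      2 ^ twoT (Fintype.card F) ≤ Nat.card ↥Q ∧
      r * r = 1 ∧ Matrix.GeneralLinearGroup.det r = -1 ∧ (∀ x ∈ Q, r * x * r ∈ Q) ∧
      ∀ a ∈ ⁅Q, Q⁆, ∀ b ∈ ⁅Q, Q⁆, Commute a b := by
  classical
  have h2 := Cfsg.Lib.Linear.Orth.two_ne_zero_of_odd_card hF
  obtain ⟨u, hu, hud, n, hn⟩ := exists_rot_neg hF
  set r : GL (Fin 2) F := reflX with hr
  set s : GL (Fin 2) F := scal (-1) with hs
  set w : GL (Fin 2) F := u * r with hw
  have hrr : r * r = 1 := reflX_sq
  have hru : r * u * r = s * u⁻¹ := by rw [hr, rot_refl hu, hud]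
  have hss : s * s = 1 := by rw [hs, ← map_mul, neg_mul_neg, one_mul, map_one]
  have hsC : s ∈ rotTwo := ⟨scal_rot _, by
    refine Units.ext ?_
    simp [hs, scal, Matrix.det_fin_two], 1, by rw [pow_one, sq, hss]⟩
  have hww : w * w = s := by
    calc w * w = u * (r * u * r) := by rw [hw]; group
      _ = u * (s * u⁻¹) := by rw [hru]
      _ = s := by rw [← mul_assoc, ← ((scal_comm (-1) u).eq), mul_inv_cancel_right]
  have hC : ∀ c ∈ rotTwo, r * c * r = c⁻¹ := fun c hc => by
    rw [hr, rot_refl hc.1, hc.2.1, map_one, one_mul]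
  have hwC : ∀ c ∈ rotTwo, w * c * w⁻¹ = c⁻¹ := fun c hc => by
    calc w * c * w⁻¹ = u * (r * c * r) * u⁻¹ := by
          rw [hw, mul_inv_rev, inv_eq_of_mul_eq_one_right hrr]; group
      _ = u * c⁻¹ * u⁻¹ := by rw [hC c hc]
      _ = c⁻¹ := by rw [(rot_comm hu (inv_mem hc.1)).eq, mul_inv_cancel_right]
  have hwr : r * w * r = (s * (u⁻¹ * u⁻¹)) * w := by
    calc r * w * r = (r * u * r) * (r * r) * r := by rw [hw, hrr]; group
      _ = s * u⁻¹ * r := by rw [hru, hrr, mul_one]
      _ = (s * (u⁻¹ * u⁻¹)) * w := by rw [hw]; group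
  have huC : s * (u⁻¹ * u⁻¹) ∈ rotTwo := by
    refine mul_mem hsC ⟨mul_mem (inv_mem hu) (inv_mem hu), by rw [map_mul, map_inv, hud]; simp, n, ?_⟩
    rw [← sq, ← pow_mul, mul_comm, pow_mul, inv_pow, hn, inv_one, one_pow]
  set Q := Subgroup.zpowers w ⊔ rotTwo with hQ
  have hwQ : w ∈ Q := Subgroup.mem_sup_left (Subgroup.mem_zpowers w)
  have hCQ : rotTwo ≤ Q := le_sup_right
  have hdw : Matrix.GeneralLinearGroup.det w = 1 := by
    rw [hw, map_mul, hud, hr, det_reflX]; simp
  refine ⟨Q, r, ?_, ?_, ?_, ?_, hrr, det_reflX, ?_, ?_⟩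
  · refine IsPGroup.to_sup_of_normal_right' ?_ isPGroup_rotTwo ?_
    · rintro ⟨x, k, rfl⟩
      refine ⟨2, Subtype.ext ?_⟩
      show (w ^ k) ^ (2 ^ 2) = 1
      have h4 : w ^ (4 : ℤ) = 1 := by
        rw [show (4 : ℤ) = 1 + 1 + (1 + 1) by norm_num, zpow_add, zpow_add, zpow_one, hww, hss]
      rw [← zpow_natCast, ← zpow_mul, show k * ((2 ^ 2 : ℕ) : ℤ) = 4 * k by push_cast; ring, zpow_mul, h4, one_zpow]
    · rw [Subgroup.zpowers_le, Subgroup.mem_normalizer_iff]
      refine fun c => ⟨fun hc => by rw [hwC c hc]; exact inv_mem hc, fun hc => ?_⟩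
      have h1 := hwC _ hc
      rw [show c = w⁻¹ * (w * c * w⁻¹) * w by group]
      have h2' : w⁻¹ * (w * c * w⁻¹) * w = (w * c * w⁻¹)⁻¹ := by
        calc w⁻¹ * (w * c * w⁻¹) * w = w⁻¹ * (w * (w * c * w⁻¹) * w⁻¹)⁻¹ * w := by rw [h1, inv_inv]
          _ = (w * c * w⁻¹)⁻¹ := by group
      rw [h2']; exact inv_mem hc
  · have : Q ≤ Matrix.GeneralLinearGroup.det.ker := by
      rw [hQ]; exact sup_le (by rw [Subgroup.zpowers_le]; exact hdw) fun c hc => hc.2.1
    exact fun x hx => this hx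
  · suffices h : Q ≤ sqGood Q from fun x hx => (h hx).2
    rw [hQ]
    refine sup_le ?_ ?_
    · rw [Subgroup.zpowers_le]
      refine ⟨hwQ, ?_⟩
      have hq : (!![0, -1; 1, 0] : Matrix (Fin 2) (Fin 2) F).det ≠ 0 := by simp [Matrix.det_fin_two]
      set c0 : GL (Fin 2) F := Matrix.GeneralLinearGroup.mkOfDetNeZero _ hq with hc0
      have hc2 : c0 * c0 = s := by
        refine Units.ext (Matrix.ext fun i j => ?_)
        fin_cases i <;> fin_cases j <;> simp [hc0, hs, scal, Matrix.scalar_apply, Matrix.mul_apply, Fin.sum_univ_two]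
      have hc : c0 ∈ rotTwo := ⟨⟨by simp [hc0], by simp [hc0]⟩, Units.ext (by simp [hc0, Matrix.det_fin_two]), 2, by
        rw [show (2 : ℕ) ^ 2 = 1 + 1 + (1 + 1) by norm_num, pow_add, pow_add, pow_one, hc2, hss]⟩
      have e : ⁅c0, w⁆ = w * w := by
        rw [commutatorElement_def, hww, ← hc2]
        calc c0 * w * c0⁻¹ * w⁻¹ = c0 * (w * c0⁻¹ * w⁻¹) := by group
          _ = c0 * c0 := by rw [hwC _ (inv_mem hc), inv_inv]
      rw [← hQ, ← e]
      exact Subgroup.commutator_mem_commutator (hCQ hc) hwQ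
    · intro c hc
      refine ⟨hCQ hc, ?_⟩
      have e : ⁅c, w⁆ = c * c := by
        rw [commutatorElement_def]
        calc c * w * c⁻¹ * w⁻¹ = c * (w * c⁻¹ * w⁻¹) := by group
          _ = c * c := by rw [hwC _ (inv_mem hc), inv_inv]
      rw [← hQ, ← e]
      exact Subgroup.commutator_mem_commutator (hCQ hc) hwQ
  · have hw_not : w ∉ rotG := fun h => by
      have h1 : r ∈ rotG := by simpa [hw] using mul_mem (inv_mem hu) h
      have h3 : (-1 : F) = 1 := by simpa [hr, reflX] using h1.1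
      exact h2 (by linear_combination -h3)
    have hT : 1 ≤ twoT (Fintype.card F) := by
      have := val_sub_one hF (one_lt_card (F := F)) (i := 1) one_ne_zero
      have hd : 2 ∣ Fintype.card F ^ (2 * 1) - 1 := by
        have ho := Nat.odd_iff.1 (hF.pow (n := 2 * 1))
        omega
      haveI : Fact (Nat.Prime 2) := ⟨Nat.prime_two⟩
      have hne : Fintype.card F ^ (2 * 1) - 1 ≠ 0 := by
        have := Nat.one_lt_pow (n := 2 * 1) (by norm_num) (one_lt_card (F := F))
        omega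
      have := one_le_padicValNat_of_dvd hne hd
      simp at *
      omega
    let Φ : ↥(rotTwo (F := F)) ⊕ ↥(rotTwo (F := F)) → ↥Q :=
      Sum.elim (fun c => ⟨c.1, hCQ c.2⟩) fun c => ⟨c.1 * w, mul_mem (hCQ c.2) hwQ⟩
    have hΦ : Function.Injective Φ := by
      rintro (c | c) (d | d) h <;> have h1 := congrArg Subtype.val h <;> simp only [Φ, Sum.elim_inl, Sum.elim_inr] at h1
      · exact congrArg Sum.inl (Subtype.ext h1)
      · exact absurd (by rw [show w = d.1⁻¹ * c.1 by rw [h1]; group]; exact mul_mem (inv_mem d.2.1) c.2.1) hw_not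
      · exact absurd (by rw [show w = c.1⁻¹ * d.1 by rw [← h1]; group]; exact mul_mem (inv_mem c.2.1) d.2.1) hw_not
      · exact congrArg Sum.inr (Subtype.ext (mul_right_cancel h1))
    refine le_trans ?_ (Nat.card_le_card_of_injective Φ hΦ)
    rw [Nat.card_sum, show twoT (Fintype.card F) = twoT (Fintype.card F) - 1 + 1 by omega, pow_succ, mul_two]
    exact Nat.add_le_add (card_rotTwo hF) (card_rotTwo hF)
  · have hle : Q ≤ Q.comap (MulAut.conj r).toMonoidHom := by
      rw [hQ]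
      refine sup_le ?_ ?_
      · rw [Subgroup.zpowers_le, Subgroup.mem_comap, ← hQ]
        show r * w * r⁻¹ ∈ Q
        rw [inv_eq_of_mul_eq_one_right hrr, hwr]
        exact mul_mem (hCQ huC) hwQ
      · intro c hc
        rw [Subgroup.mem_comap, ← hQ]
        show r * c * r⁻¹ ∈ Q
        rw [inv_eq_of_mul_eq_one_right hrr, hC c hc]
        exact hCQ (inv_mem hc)
    intro x hx
    have := hle hx
    rw [Subgroup.mem_comap] at this
    change r * x * r⁻¹ ∈ Q at this
    rwa [inv_eq_of_mul_eq_one_right hrr] at this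
  · have hcC : ∀ c ∈ rotTwo, w * c * w⁻¹ ∈ rotTwo := fun c hc => by rw [hwC c hc]; exact inv_mem hc
    have hcC' : ∀ c ∈ rotTwo, w⁻¹ * c * w ∈ rotTwo := fun c hc => by
      have h := hcC c⁻¹ (inv_mem hc)
      rw [hwC _ (inv_mem hc), inv_inv] at h
      have e : w⁻¹ * c * w = c⁻¹ := by
        have h0 := hwC c hc
        calc w⁻¹ * c * w = w⁻¹ * (w * c * w⁻¹)⁻¹ * w := by rw [h0, inv_inv]
          _ = c⁻¹ := by group
      rw [e]; exact inv_mem hc
    let K : Subgroup (GL (Fin 2) F) :=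
      { carrier := {x | x ∈ rotTwo ∨ x * w ∈ rotTwo}
        one_mem' := Or.inl (one_mem _)
        inv_mem' := by
          rintro x (hx | hx)
          · exact Or.inl (inv_mem hx)
          · refine Or.inr ?_
            have h := mul_mem (hcC _ (inv_mem hx)) hsC
            rw [← hww] at h
            have e : w * (x * w)⁻¹ * w⁻¹ * (w * w) = x⁻¹ * w := by group
            rwa [e] at h
        mul_mem' := by
          rintro x y (hx | hx) (hy | hy)
          · exact Or.inl (mul_mem hx hy)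
          · exact Or.inr (by rw [mul_assoc]; exact mul_mem hx hy)
          · refine Or.inr ?_
            rw [show x * y * w = x * w * (w⁻¹ * y * w) by group]
            exact mul_mem hx (hcC' y hy)
          · refine Or.inl ?_
            have h := mul_mem (mul_mem hx (hcC' _ hy)) (inv_mem hsC)
            rw [← hww] at h
            have e : x * w * (w⁻¹ * (y * w) * w) * (w * w)⁻¹ = x * y := by group
            rwa [e] at h }
    have hQK : Q ≤ K := by
      rw [hQ]
      refine sup_le ?_ fun c hc => Or.inl hc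
      rw [Subgroup.zpowers_le]
      exact Or.inr (by rw [hww]; exact hsC)
    have hidx : ∀ x ∈ K, ∀ c ∈ rotTwo, x * c * x⁻¹ ∈ rotTwo := by
      rintro x (hx | hx) c hc
      · exact mul_mem (mul_mem hx hc) (inv_mem hx)
      · rw [show x * c * x⁻¹ = x * w * (w⁻¹ * c * w) * (x * w)⁻¹ by group]
        exact mul_mem (mul_mem hx (hcC' c hc)) (inv_mem hx)
    have hder : ⁅Q, Q⁆ ≤ rotTwo := by
      rw [Subgroup.commutator_le]
      intro x hx y hy
      rw [commutatorElement_def]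
      rcases hQK hx with hx' | hx' <;> rcases hQK hy with hy' | hy'
      · exact mul_mem (mul_mem (mul_mem hx' hy') (inv_mem hx')) (inv_mem hy')
      · rw [show x * y * x⁻¹ * y⁻¹ = x * (y * x⁻¹ * y⁻¹) by group]
        exact mul_mem hx' (hidx y (hQK hy) _ (inv_mem hx'))
      · exact mul_mem (hidx x (hQK hx) _ hy') (inv_mem hy')
      · rw [show x * y * x⁻¹ * y⁻¹ = x * w * (w⁻¹ * (y * w) * (x * w)⁻¹ * w) * (y * w)⁻¹ by group]
        refine mul_mem (mul_mem hx' ?_) (inv_mem hy')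
        rw [mul_assoc w⁻¹]
        exact hcC' _ (mul_mem hy' (inv_mem hx'))
    exact fun a ha b hb => rot_comm (hder ha).1 (hder hb).1

end Cfsg.Lib.H3.SylTwo
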