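import Cfsg.Agent.Lib.H3.SylTwoBlocks
import Cfsg.Agent.Lib.Linear.SLBasic

/-!
# Sylow 2-subgroups of the special linear groups in odd characteristic: orders and transfers
-/

set_option autoImplicit false

namespace Cfsg.Lib.H3.SylTwo

open Cfsg.Lib.Linear.Orth
open scoped Matrix commutatorElement

/-- The product giving the order of the general linear group. -/
def glProd (q n : ℕ) : ℕ := ∏ i : Fin n, (q ^ n - q ^ (i : ℕ))

variable {q : ℕ}

theorem glProd_succ (n : ℕ) : glProd q (n + 1) = (q ^ (n + 1) - 1) * (q ^ n * glProd q n) := by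
  simp only [glProd]
  rw [Fin.prod_univ_succ, Fin.val_zero, pow_zero]
  congr 1
  rw [show q ^ n = ∏ _i : Fin n, q by simp, ← Finset.prod_mul_distrib]
  refine Finset.prod_congr rfl fun i _ => ?_
  rw [Fin.val_succ, pow_succ', pow_succ', Nat.mul_sub]
  simp

theorem glProd_ne_zero (hq1 : 1 < q) (n : ℕ) : glProd q n ≠ 0 := by
  refine Finset.prod_ne_zero_iff.2 fun i _ => ?_
  have := Nat.pow_lt_pow_right hq1 i.2
  omega

theorem val_glProd_succ (hq : Odd q) (hq1 : 1 < q) (n : ℕ) :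
    padicValNat 2 (glProd q (n + 1)) = padicValNat 2 (q ^ (n + 1) - 1) + padicValNat 2 (glProd q n) := by
  haveI : Fact (Nat.Prime 2) := ⟨Nat.prime_two⟩
  have h0 : q ^ (n + 1) - 1 ≠ 0 := by
    have := Nat.one_lt_pow (n := n + 1) (Nat.succ_ne_zero n) hq1
    omega
  rw [glProd_succ, padicValNat.mul h0 (mul_ne_zero (pow_ne_zero _ hq.pos.ne') (glProd_ne_zero hq1 n)),
    val_pow_mul hq _ _ (glProd_ne_zero hq1 n)]

theorem val_odd_pow (hq : Odd q) (hq1 : 1 < q) (m : ℕ) :
    padicValNat 2 (q ^ (2 * m + 1) - 1) = padicValNat 2 (q - 1) := by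
  haveI : Fact (Nat.Prime 2) := ⟨Nat.prime_two⟩
  have hv : padicValNat 2 (2 * m + 1) = 0 := padicValNat.eq_zero_of_not_dvd (by omega)
  have h4 : q ^ (2 * m + 1) % 4 = q % 4 := by
    have hs : q ^ 2 % 4 = 1 := by
      obtain ⟨k, rfl⟩ := hq
      ring_nf
      omega
    rw [pow_succ, pow_mul, Nat.mul_mod, Nat.pow_mod, hs, one_pow]
    simp
  have h := val_pair hq hq1 (m := 2 * m + 1) (Nat.succ_ne_zero _)
  have h' := val_pair hq hq1 (m := 1) one_ne_zero
  rw [pow_one, padicValNat.one] at h'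
  rw [hv, h4] at h
  rcases (show q % 4 = 1 ∨ q % 4 = 3 by rw [Nat.odd_iff] at hq; omega) with e | e
  · have := (h.1 e).2; have := (h'.1 e).2; omega
  · have := (h.2 e).1; have := (h'.2 e).1; omega

theorem val_glProd_two_mul (hq : Odd q) (hq1 : 1 < q) (m : ℕ) :
    padicValNat 2 (glProd q (2 * m)) =
      m * padicValNat 2 (q - 1) + m * twoT q + padicValNat 2 (Nat.factorial m) := by
  haveI : Fact (Nat.Prime 2) := ⟨Nat.prime_two⟩
  induction m with
  | zero => simp [glProd]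
  | succ m ih =>
    rw [show 2 * (m + 1) = 2 * m + 1 + 1 by ring, val_glProd_succ hq hq1, val_glProd_succ hq hq1, ih,
      val_odd_pow hq hq1, show 2 * m + 1 + 1 = 2 * (m + 1) by ring, val_sub_one hq hq1 (Nat.succ_ne_zero m),
      Nat.factorial_succ, padicValNat.mul (Nat.succ_ne_zero m) (Nat.factorial_pos m).ne']
    ring

theorem val_glProd_odd (hq : Odd q) (hq1 : 1 < q) (m : ℕ) :
    padicValNat 2 (glProd q (2 * m + 1)) =
      padicValNat 2 (q - 1) + (m * padicValNat 2 (q - 1) + m * twoT q + padicValNat 2 (Nat.factorial m)) := by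
  rw [val_glProd_succ hq hq1, val_glProd_two_mul hq hq1, val_odd_pow hq hq1]

variable {F : Type*} [Field F]

theorem val_card_SL [Fintype F] (hF : Odd (Fintype.card F)) {n : ℕ} (hn : 1 ≤ n) :
    padicValNat 2 (Nat.card (Matrix.SpecialLinearGroup (Fin n) F)) + padicValNat 2 (Fintype.card F - 1) =
      padicValNat 2 (glProd (Fintype.card F) n) := by
  haveI : Fact (Nat.Prime 2) := ⟨Nat.prime_two⟩
  have h1 : 1 < Fintype.card F := Fintype.one_lt_card
  rw [show glProd (Fintype.card F) n = (Fintype.card F - 1) * Nat.card (Matrix.SpecialLinearGroup (Fin n) F) from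
    (Cfsg.Lib.Linear.card_SL_mul n hn).symm, padicValNat.mul (by omega) Nat.card_pos.ne']
  ring

variable {ι κ : Type*} [Fintype ι] [DecidableEq ι] [Fintype κ] [DecidableEq κ]

/-- The special linear group inside a general linear group with renamed coordinates. -/
def intoGL (e : κ ≃ ι) : Matrix.SpecialLinearGroup ι F →* GL κ F :=
  (Units.map (Matrix.reindexAlgEquiv F F e.symm).toMonoidHom).comp Matrix.SpecialLinearGroup.toGL

theorem intoGL_injective (e : κ ≃ ι) : Function.Injective (intoGL (F := F) e) := fun A B h =>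
  Subtype.ext ((Matrix.reindexAlgEquiv F F e.symm).injective (congrArg Units.val h))

theorem mem_range_intoGL (e : κ ≃ ι) {g : GL κ F} (hg : Matrix.GeneralLinearGroup.det g = 1) :
    g ∈ (intoGL (F := F) e).range := by
  refine ⟨⟨Matrix.reindexAlgEquiv F F e g.val, ?_⟩, Units.ext ?_⟩
  · rw [Matrix.det_reindexAlgEquiv]
    exact congrArg Units.val hg
  · show Matrix.reindexAlgEquiv F F e.symm (Matrix.reindexAlgEquiv F F e g.val) = g.val
    simp

/-- Transfer of a 2-group with squares in its derived subgroup along an embedding. -/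
theorem sylow_squares_pullback {G G' : Type*} [Group G] [Group G'] [Finite G] (φ : G →* G')
    (hφ : Function.Injective φ) (K : Subgroup G') (hKr : K ≤ φ.range) (hK : IsPGroup 2 ↥K) {v : ℕ}
    (hv : padicValNat 2 (Nat.card G) ≤ v) (hcard : 2 ^ v ≤ Nat.card ↥K) (hsq : ∀ x ∈ K, x * x ∈ ⁅K, K⁆)
    (P : Sylow 2 G) : ∀ x : ↥(P : Subgroup G), x ^ 2 ∈ commutator ↥(P : Subgroup G) := by
  have hmap : (K.comap φ).map φ = K := Subgroup.map_comap_eq_self hKr
  refine sylow_squares (v := v) (K.comap φ) ?_ hv ?_ ?_ P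
  · intro x
    obtain ⟨n, hn⟩ := hK ⟨φ x.1, x.2⟩
    refine ⟨n, Subtype.ext (hφ ?_)⟩
    have := congrArg Subtype.val hn
    simpa using this
  · rw [← Subgroup.card_map_of_injective hφ, hmap]; exact hcard
  · intro x hx
    have h1 : φ (x * x) ∈ ⁅K.comap φ, K.comap φ⁆.map φ := by
      rw [Subgroup.map_commutator, hmap, map_mul]
      exact hsq _ hx
    exact (Subgroup.mem_map_iff_mem hφ).1 h1

/-- The plane group extended by its reflection. -/
theorem plane_full [Fintype F] (hF : Odd (Fintype.card F)) :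
    ∃ (Q D : Subgroup (GL (Fin 2) F)) (r : GL (Fin 2) F), IsPGroup 2 ↥D ∧ Q ≤ D ∧ r ∈ D ∧
      (∀ x ∈ Q, Matrix.GeneralLinearGroup.det x = 1) ∧ (∀ x ∈ Q, x * x ∈ ⁅Q, Q⁆) ∧ (∀ x ∈ D, x * x ∈ ⁅D, D⁆) ∧
      2 ^ twoT (Fintype.card F) ≤ Nat.card ↥Q ∧ 2 ^ (twoT (Fintype.card F) + 1) ≤ Nat.card ↥D ∧
      r * r = 1 ∧ Matrix.GeneralLinearGroup.det r = -1 ∧
      (∀ x ∈ D, ∃ y ∈ Q, x = y ∨ x = y * r) := by
  classical
  haveI : Fact (Nat.Prime 2) := ⟨Nat.prime_two⟩
  have h2 := Cfsg.Lib.Linear.Orth.two_ne_zero_of_odd_card hF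
  obtain ⟨Q, r, hQ, hQd, hQs, hQc, hrr, hrd, hrQ, -⟩ := plane_groups (F := F) hF
  let D : Subgroup (GL (Fin 2) F) :=
    { carrier := {x | ∃ y ∈ Q, x = y ∨ x = y * r}
      one_mem' := ⟨1, one_mem _, Or.inl rfl⟩
      inv_mem' := by
        rintro x ⟨y, hy, e | e⟩ <;> subst x
        · exact ⟨y⁻¹, inv_mem hy, Or.inl rfl⟩
        · exact ⟨r * y⁻¹ * r, hrQ _ (inv_mem hy), Or.inr (by
            rw [mul_inv_rev, inv_eq_of_mul_eq_one_right hrr, mul_assoc (r * y⁻¹), hrr, mul_one])⟩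
      mul_mem' := by
        rintro x x' ⟨y, hy, e | e⟩ ⟨y', hy', e' | e'⟩ <;> subst x <;> subst x'
        · exact ⟨y * y', mul_mem hy hy', Or.inl rfl⟩
        · exact ⟨y * y', mul_mem hy hy', Or.inr (mul_assoc _ _ _).symm⟩
        · refine ⟨y * (r * y' * r), mul_mem hy (hrQ _ hy'), Or.inr ?_⟩
          calc y * r * y' = y * r * y' * (r * r) := by rw [hrr, mul_one]
            _ = y * (r * y' * r) * r := by group
        · exact ⟨y * (r * y' * r), mul_mem hy (hrQ _ hy'), Or.inl (by group)⟩ }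
  have hQD : Q ≤ D := fun y hy => ⟨y, hy, Or.inl rfl⟩
  have hrD : r ∈ D := ⟨1, one_mem _, Or.inr (one_mul r).symm⟩
  have hne : (-1 : Fˣ) ≠ 1 := fun h => h2 (by
    have e : (-1 : F) = 1 := by simpa using congrArg Units.val h
    linear_combination -e)
  refine ⟨Q, D, r, ?_, hQD, hrD, hQd, hQs, ?_, hQc, ?_, hrr, hrd, fun x hx => hx⟩
  · intro x
    obtain ⟨y, hy, hxy⟩ := x.2
    have hsq : x.1 * x.1 ∈ Q := by
      rcases hxy with e | e
      · rw [e]; exact mul_mem hy hy
      · rw [e, show y * r * (y * r) = y * (r * y * r) by group]; exact mul_mem hy (hrQ _ hy)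
    obtain ⟨n, hn⟩ := hQ ⟨_, hsq⟩
    refine ⟨1 + n, Subtype.ext ?_⟩
    show x.1 ^ 2 ^ (1 + n) = 1
    rw [pow_add, pow_mul, pow_one, sq]
    exact congrArg Subtype.val hn
  · suffices h : D ≤ sqGood D from fun x hx => (h hx).2
    rintro x ⟨y, hy, hxy⟩
    have hy' : y ∈ sqGood D := ⟨hQD hy, Subgroup.commutator_mono hQD hQD (hQs y hy)⟩
    rcases hxy with e | e <;> subst x
    · exact hy'
    · exact mul_mem hy' ⟨hrD, by rw [hrr]; exact one_mem _⟩
  · let Φ : ↥Q ⊕ ↥Q → ↥D := Sum.elim (fun y => ⟨y.1, hQD y.2⟩) fun y => ⟨y.1 * r, mul_mem (hQD y.2) hrD⟩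
    have hΦ : Function.Injective Φ := by
      rintro (c | c) (d | d) h <;> have h1 := congrArg Subtype.val h <;> simp only [Φ, Sum.elim_inl, Sum.elim_inr] at h1
      · exact congrArg Sum.inl (Subtype.ext h1)
      · have h3 := congrArg Matrix.GeneralLinearGroup.det h1
        rw [map_mul, hQd _ c.2, hQd _ d.2, hrd, one_mul] at h3
        exact absurd h3.symm hne
      · have h3 := congrArg Matrix.GeneralLinearGroup.det h1
        rw [map_mul, hQd _ c.2, hQd _ d.2, hrd, one_mul] at h3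
        exact absurd h3 hne
      · exact congrArg Sum.inr (Subtype.ext (mul_right_cancel h1))
    refine le_trans ?_ (Nat.card_le_card_of_injective Φ hΦ)
    rw [Nat.card_sum, pow_succ, mul_two]
    exact Nat.add_le_add hQc hQc

end Cfsg.Lib.H3.SylTwo
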